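import Cfsg.Agent.Lib.CharTwoClasses.Sys

/-!
# Cyclic and paired unipotent blocks

A block is determined, up to changing its generators, by its size and one Artin-Schreier bit.
-/

set_option autoImplicit false
set_option linter.unusedSectionVars false

namespace CfsgLib.CharTwoClasses

universe u v w

variable {F : Type u} [Field F] [CharP F 2]

/-- An element outside the Artin-Schreier image, which together with it covers the field. -/
def IsEps (ε : F) : Prop :=
  (∀ c : F, c ^ 2 + c ≠ ε) ∧ ∀ μ : F, ∃ c : F, c ^ 2 + c = μ ∨ c ^ 2 + c = μ + ε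

theorem IsEps.ne_zero {ε : F} (h : IsEps ε) : ε ≠ 0 := fun e => h.1 0 (by simp [e])

/-- The value of a twist bit. -/
def tw (ε : F) (τ : Bool) : F := bif τ then ε else 0

/-- The value of a twist bit at the first generator of a pair. -/
def px (τ : Bool) : F := bif τ then 1 else 0

namespace Sys

variable {V : Type v} [AddCommGroup V] [Module F V] (S : Sys F V)

/-- The twist functionals. -/
def lev : ℕ → V → F
  | 0, z => S.Q z
  | i + 1, z => S.M z z i 0

/-- A cyclic block. -/
structure IsCyc (ε : F) (m : ℕ) (τ : Bool) (x : V) : Prop where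
  two_le : 2 ≤ m
  kill : (S.N ^ m) x = 0
  top : S.M x x (m - 1) 0 = 1
  twist : S.lev (m - 2) x = tw ε τ

/-- A paired block without its twist values. -/
structure IsPair0 (m : ℕ) (x y : V) : Prop where
  one_le : 1 ≤ m
  killx : (S.N ^ m) x = 0
  killy : (S.N ^ m) y = 0
  topx : S.M x x (m - 1) 0 = 0
  topy : S.M y y (m - 1) 0 = 0
  topxy : S.M x y (m - 1) 0 = 1

/-- A paired block. -/
structure IsPair (ε : F) (m : ℕ) (τ : Bool) (x y : V) : Prop extends S.IsPair0 m x y where
  twistx : S.lev (m - 1) x = px τ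
  twisty : S.lev (m - 1) y = tw ε τ

/-- The top antidiagonal is constant. -/
theorem M_top {m : ℕ} {x y : V} (hm : 1 ≤ m) (hx : (S.N ^ m) x = 0) (hy : (S.N ^ m) y = 0) {p q : ℕ}
    (h : p + q = m - 1) : S.M x y p q = S.M x y (m - 1) 0 := by
  have hl := (S.M_stepped x y).level (l := m - 1) (c := 0) fun p q e => S.M_vanish hx hy p q (by omega)
  rw [hl p q h, hl (m - 1) 0 rfl, mul_zero, mul_zero]

theorem M_high {m : ℕ} {x y : V} (hm : 1 ≤ m) (hx : (S.N ^ m) x = 0) (hy : (S.N ^ m) y = 0)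
    (h0 : S.M x y (m - 1) 0 = 0) : ∀ p q, m - 1 ≤ p + q → S.M x y p q = 0 := fun p q h => by
  rcases Nat.lt_or_ge (p + q) m with h' | h'
  · rw [S.M_top hm hx hy (show p + q = m - 1 by omega), h0]
  · exact S.M_vanish hx hy p q h'

theorem IsPair0.swap {m : ℕ} {x y : V} (h : S.IsPair0 m x y) : S.IsPair0 m y x :=
  ⟨h.one_le, h.killy, h.killx, h.topy, h.topx, by
    rw [S.M_symm, S.M_top h.one_le h.killx h.killy (show 0 + (m - 1) = m - 1 by omega), h.topxy]⟩

theorem IsCyc.even {ε : F} {m : ℕ} {τ : Bool} {x : V} (h : S.IsCyc ε m τ x) : Even m := by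
  by_contra hodd
  obtain ⟨r, hr⟩ := Nat.not_even_iff_odd.1 hodd
  have h2 := h.two_le
  have := S.M_top (show 1 ≤ m by omega) h.kill h.kill (show r + r = m - 1 by omega)
  rw [S.M_diag, h.top] at this
  exact zero_ne_one this

theorem kill_of_mem {m : ℕ} {x y : V} (hx : (S.N ^ m) x = 0) (hy : (S.N ^ m) y = 0) :
    ∀ v ∈ S.gspan x y, (S.N ^ m) v = 0 := by
  intro v hv
  refine (S.gspan_le (U := LinearMap.ker (S.N ^ m)) (S.invt_of_N fun v hv => ?_) hx hy hv :)
  rw [LinearMap.mem_ker] at hv ⊢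
  rw [show S.N v = (S.N ^ 1) v by rw [pow_one], S.pow_add_apply, add_comm m 1, ← S.pow_add_apply, hv, map_zero]

theorem gspan_change_left {m : ℕ} {x y z : V} (hx : (S.N ^ m) x = 0) (hy : (S.N ^ m) y = 0)
    (hz : z ∈ S.gspan x y) (c : F) {j : ℕ} (hj : 1 ≤ j) :
    S.gspan (x + c • (S.N ^ j) z) y = S.gspan x y := by
  refine S.gspan_congr (S.kill_of_mem hx hy) ⟨c • (S.N ^ (j - 1)) z,
    Submodule.smul_mem _ _ ((S.invt_gspan x y).N_pow S _ hz), ?_⟩ ⟨0, zero_mem _, by simp⟩
  rw [map_smul, ← S.pow_succ_apply, show j - 1 + 1 = j by omega]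

theorem gspan_comm (x y : V) : S.gspan x y = S.gspan y x := sup_comm _ _

/-- Expanding the values after a change of a generator. -/
theorem M_change (x z w : V) (c : F) (j p q : ℕ) :
    S.M (x + c • (S.N ^ j) z) w p q = S.M x w p q + c * S.M z w (p + j) q := by
  rw [M_add_left, M_smul_left, M_pow_left]

theorem M_change_right (x z w : V) (c : F) (j p q : ℕ) :
    S.M w (x + c • (S.N ^ j) z) p q = S.M w x p q + c * S.M w z p (q + j) := by
  rw [M_add_right, M_smul_right, M_pow_right]

theorem M_change_both (x z : V) (c : F) (j p q : ℕ) :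
    S.M (x + c • (S.N ^ j) z) (x + c • (S.N ^ j) z) p q =
      S.M x x p q + c * (S.M z x (p + j) q + S.M x z p (q + j)) + c ^ 2 * S.M z z (p + j) (q + j) := by
  rw [M_change, M_change_right, M_change_right]
  ring

theorem q_change (x z : V) (c : F) (j : ℕ) :
    S.Q (x + c • (S.N ^ (j + 1)) z) =
      S.Q x + c ^ 2 * (S.δ * S.M z z (j + 1) j) + S.δ * (c * S.M x z 0 (j + 1)) := by
  rw [S.q_add, S.q_smul, map_smul, smul_eq_mul, S.pow_succ_apply, S.q_N]
  simp only [M, pow_zero, Module.End.one_apply, ← S.pow_succ_apply]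

theorem kill_change {m : ℕ} {x z : V} (hx : (S.N ^ m) x = 0) (hz : (S.N ^ m) z = 0) (c : F) (j : ℕ) :
    (S.N ^ m) (x + c • (S.N ^ j) z) = 0 := by
  rw [map_add, map_smul, S.pow_add_apply, S.pow_eq_zero_of_le hz (show m ≤ m + j by omega), hx, smul_zero, add_zero]

variable {V' : Type w} [AddCommGroup V'] [Module F V'] (S' : Sys F V')

/-- Agreement of the values from an antidiagonal on. -/
def Agree (x y : V) (x' y' : V') (l : ℕ) : Prop := ∀ p q, l ≤ p + q → S.M x y p q = S'.M x' y' p q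

theorem agree_level {x y : V} {x' y' : V'} {d : ℕ} (h : S.Agree S' x y x' y' (d + 1)) {p q : ℕ} (hpq : p + q = d) :
    S.M x y p q + S'.M x' y' p q = S.M x y 0 d + S'.M x' y' 0 d := by
  have := ((S.M_stepped x y).add (S'.M_stepped x' y')).level (l := d) (c := 0)
    (fun p q e => by rw [h p q e.ge, CharTwo.add_self_eq_zero]) p q hpq
  simpa using this

theorem agree_of_point {x y : V} {x' y' : V'} {d : ℕ} (h : S.Agree S' x y x' y' (d + 1)) {p₀ q₀ : ℕ}
    (h₀ : p₀ + q₀ = d) (he : S.M x y p₀ q₀ = S'.M x' y' p₀ q₀) : S.Agree S' x y x' y' d := fun p q hpq => by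
  rcases Nat.lt_or_ge (p + q) (d + 1) with hlt | hge
  · refine CharTwo.add_eq_zero.1 ?_
    rw [agree_level S S' h (show p + q = d by omega), ← agree_level S S' h h₀, he, CharTwo.add_self_eq_zero]
  · exact h p q hge

/-- Diagonal values on an even antidiagonal agree by themselves. -/
theorem agree_even {x : V} {x' : V'} {d : ℕ} (h : S.Agree S' x x x' x' (d + 1)) (hd : Even d) :
    S.Agree S' x x x' x' d := by
  obtain ⟨r, hr⟩ := hd
  exact agree_of_point S S' h hr.symm (by rw [M_diag, M_diag])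

/-- Cyclic blocks of the same type have the same values after a change of generator. -/
theorem cyc_rigid (hδ : S.δ = S'.δ) {ε : F} {m : ℕ} {τ : Bool} {x : V} {x' : V'} (h : S.IsCyc ε m τ x)
    (h' : S'.IsCyc ε m τ x') :
    ∃ x'', S'.gspan x'' 0 = S'.gspan x' 0 ∧ (∀ p q, S.M x x p q = S'.M x'' x'' p q) ∧ S.Q x = S'.Q x'' := by
  have h2 := h.two_le
  obtain ⟨k, hk⟩ := h.even
  have key : ∀ n, ∃ z, S'.IsCyc ε m τ z ∧ S'.gspan z 0 = S'.gspan x' 0 ∧ S.Agree S' x x z z (m - 1 - n) := by
    intro n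
    induction n with
    | zero =>
      refine ⟨x', h', rfl, fun p q hpq => ?_⟩
      rcases Nat.lt_or_ge (p + q) m with hlt | hge
      · rw [S.M_top (by omega) h.kill h.kill (show p + q = m - 1 by omega),
          S'.M_top (by omega) h'.kill h'.kill (show p + q = m - 1 by omega), h.top, h'.top]
      · rw [S.M_vanish h.kill h.kill p q hge, S'.M_vanish h'.kill h'.kill p q hge]
    | succ n ih =>
      obtain ⟨z, hz, hspan, hag⟩ := ih
      rcases Nat.eq_zero_or_pos (m - 1 - n) with h0 | hpos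
      · exact ⟨z, hz, hspan, by rw [show m - 1 - (n + 1) = m - 1 - n by omega]; exact hag⟩
      obtain ⟨d, hd⟩ : ∃ d, m - 1 - n = d + 1 := ⟨m - 1 - n - 1, by omega⟩
      rw [hd] at hag
      rw [show m - 1 - (n + 1) = d by omega]
      rcases Nat.even_or_odd d with he | ⟨t, ht⟩
      · exact ⟨z, hz, hspan, agree_even S S' hag he⟩
      by_cases hd3 : d + 3 = m
      · refine ⟨z, hz, hspan, agree_of_point S S' hag (show d + 0 = d from rfl) ?_⟩
        have e1 := h.twist
        have e2 := hz.twist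
        rw [show m - 2 = d + 1 by omega] at e1 e2
        simp only [lev] at e1 e2
        rw [e1, e2]
      have hd5 : d + 5 ≤ m := by omega
      obtain ⟨j, hj⟩ : ∃ j, d + j + 2 = m := ⟨m - 2 - d, by omega⟩
      obtain ⟨c, hc⟩ : ∃ c, c = S.M x x 0 d + S'.M z z 0 d := ⟨_, rfl⟩
      obtain ⟨z₁, hz₁⟩ : ∃ z₁, z₁ = z + c • (S'.N ^ j) z := ⟨_, rfl⟩
      have hchange : ∀ p q, d < p + q → S'.M z₁ z₁ p q = S'.M z z p q := fun p q hpq => by
        rw [hz₁, M_change_both, S'.M_vanish hz.kill hz.kill _ _ (show m ≤ p + j + (q + j) by omega), mul_zero, add_zero]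
        rcases Nat.lt_or_ge (p + j + q) m with hlt | hge
        · rw [S'.M_top (by omega) hz.kill hz.kill (show p + j + q = m - 1 by omega),
            S'.M_top (by omega) hz.kill hz.kill (show p + (q + j) = m - 1 by omega), CharTwo.add_self_eq_zero,
            mul_zero, add_zero]
        · rw [S'.M_vanish hz.kill hz.kill _ _ hge, S'.M_vanish hz.kill hz.kill _ _ (show m ≤ p + (q + j) by omega),
            add_zero, mul_zero, add_zero]
      have hz1k : (S'.N ^ m) z₁ = 0 := hz₁ ▸ S'.kill_change hz.kill hz.kill c j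
      have hc1 : S'.IsCyc ε m τ z₁ := by
        refine ⟨h2, hz1k, by rw [hchange _ _ (by omega), hz.top], ?_⟩
        have e2 := hz.twist
        rw [show m - 2 = (m - 3) + 1 by omega] at e2 ⊢
        simp only [lev] at e2 ⊢
        rw [hchange _ _ (by omega), e2]
      refine ⟨z₁, hc1, ?_, ?_⟩
      · rw [hz₁, S'.gspan_change_left hz.kill (by simp) (S'.left_mem_gspan z 0) c (by omega), hspan]
      · refine agree_of_point S S' (fun p q hpq => by rw [hchange p q (by omega)]; exact hag p q hpq)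
          (show 0 + d = d by omega) ?_
        have hl := (S'.M_stepped z z).level (l := m - 2) (c := 1) fun p q e => by
          rw [S'.M_top (by omega) hz.kill hz.kill (show p + q = m - 1 by omega), hz.top]
        rw [hz₁, M_change_both, S'.M_vanish hz.kill hz.kill _ _ (show m ≤ 0 + j + (d + j) by omega), mul_zero, add_zero,
          hl (0 + j) d (by omega), hl 0 (d + j) (by omega), hc]
        have hjodd : (j : F) = 1 := by
          obtain ⟨r, hr⟩ : ∃ r, j = 2 * r + 1 := ⟨k - t - 2, by omega⟩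
          rw [hr]; push_cast; rw [CharTwo.two_eq_zero]; ring
        simp only [zero_add, Nat.cast_zero, hjodd, mul_one, add_zero]
        linear_combination (norm := (ring_nf; simp [CharTwo.two_eq_zero]))
  obtain ⟨z, hz, hspan, hag⟩ := key (m - 1)
  rw [Nat.sub_self] at hag
  rcases S.q_kind with hδ1 | ⟨hδ0, hQ⟩
  swap
  · refine ⟨z, hspan, fun p q => hag p q (Nat.zero_le _), ?_⟩
    rw [hQ, ((S'.q_kind).resolve_left (by rw [← hδ, hδ0]; exact zero_ne_one)).2]
  rcases Nat.lt_or_ge m 3 with hm | hm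
  · refine ⟨z, hspan, fun p q => hag p q (Nat.zero_le _), ?_⟩
    have e1 := h.twist
    have e2 := hz.twist
    rw [show m - 2 = 0 by omega] at e1 e2
    exact e1.trans e2.symm
  obtain ⟨j, hj⟩ : ∃ j, j + 2 = m := ⟨m - 2, by omega⟩
  obtain ⟨c, hc⟩ : ∃ c, c = S.Q x + S'.Q z := ⟨_, rfl⟩
  refine ⟨z + c • (S'.N ^ (j + 1)) z, ?_, fun p q => ?_, ?_⟩
  · rw [S'.gspan_change_left hz.kill (by simp) (S'.left_mem_gspan z 0) c (by omega), hspan]
  · rw [hag p q (Nat.zero_le _), M_change_both,
      S'.M_vanish hz.kill hz.kill _ _ (show m ≤ p + (j + 1) + (q + (j + 1)) by omega), mul_zero, add_zero]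
    rcases Nat.eq_zero_or_pos (p + q) with h0 | hpos
    · rw [S'.M_top (by omega) hz.kill hz.kill (show p + (j + 1) + q = m - 1 by omega),
        S'.M_top (by omega) hz.kill hz.kill (show p + (q + (j + 1)) = m - 1 by omega), CharTwo.add_self_eq_zero,
        mul_zero, add_zero]
    · rw [S'.M_vanish hz.kill hz.kill _ _ (show m ≤ p + (j + 1) + q by omega),
        S'.M_vanish hz.kill hz.kill _ _ (show m ≤ p + (q + (j + 1)) by omega), add_zero, mul_zero, add_zero]
  · rw [q_change, S'.M_vanish hz.kill hz.kill (j + 1) j (by omega), mul_zero, mul_zero, add_zero,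
      S'.M_top (by omega) hz.kill hz.kill (show 0 + (j + 1) = m - 1 by omega), hz.top, ← hδ, hδ1, one_mul, mul_one, hc,
      add_left_comm, CharTwo.add_self_eq_zero, add_zero]

/-- Two pairs whose values agree from an antidiagonal on and at the twist level. -/
structure Near (m : ℕ) (x y : V) (z w : V') (l₁ l₂ l₃ : ℕ) : Prop where
  pair : S.IsPair0 m x y
  pair' : S'.IsPair0 m z w
  ax : S.Agree S' x x z z l₁
  ay : S.Agree S' y y w w l₂
  axy : S.Agree S' x y z w l₃
  tx : 2 ≤ m → S.M x x (m - 2) 0 = S'.M z z (m - 2) 0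
  ty : 2 ≤ m → S.M y y (m - 2) 0 = S'.M w w (m - 2) 0

theorem Near.swap {m : ℕ} {x y : V} {z w : V'} {l₁ l₂ l₃ : ℕ} (h : Near S S' m x y z w l₁ l₂ l₃) :
    Near S S' m y x w z l₂ l₁ l₃ :=
  ⟨h.pair.swap S, h.pair'.swap S', h.ay, h.ax, fun p q hpq => by
    rw [S.M_symm, S'.M_symm, h.axy q p (by omega)], h.ty, h.tx⟩

/-- Correcting the first diagonal on one antidiagonal. -/
theorem near_diag {m : ℕ} {x y : V} {z w : V'} {d l₂ : ℕ} (hd : d + 2 ≤ m)
    (h : Near S S' m x y z w (d + 1) l₂ (d + 1)) :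
    ∃ z', S'.gspan z' w = S'.gspan z w ∧ Near S S' m x y z' w d l₂ (d + 1) := by
  rcases Nat.even_or_odd d with he | ⟨t, ht⟩
  · exact ⟨z, rfl, h.pair, h.pair', agree_even S S' h.ax he, h.ay, h.axy, h.tx, h.ty⟩
  rcases Nat.lt_or_ge m (d + 3) with hlast | hd3
  · refine ⟨z, rfl, h.pair, h.pair', agree_of_point S S' h.ax (show d + 0 = d from rfl) ?_, h.ay, h.axy, h.tx, h.ty⟩
    rw [show d = m - 2 by omega]
    exact h.tx (by omega)
  obtain ⟨j, hj⟩ : ∃ j, d + j + 2 = m := ⟨m - 2 - d, by omega⟩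
  have P := h.pair'
  have hzero : ∀ p q, m - 1 ≤ p + q → S'.M w w p q = 0 := S'.M_high P.one_le P.killy P.killy P.topy
  obtain ⟨c, hc⟩ : ∃ c, c = S.M x x 0 d + S'.M z z 0 d := ⟨_, rfl⟩
  obtain ⟨z', hz'⟩ : ∃ z', z' = z + c • (S'.N ^ j) w := ⟨_, rfl⟩
  have hl := (S'.M_stepped z w).level (l := m - 2) (c := 1) fun p q e => by
    rw [S'.M_top P.one_le P.killx P.killy (show p + q = m - 1 by omega), P.topxy]
  have hch : ∀ p q, d < p + q → S'.M z' z' p q = S'.M z z p q := fun p q hpq => by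
    rw [hz', M_change_both, hzero _ _ (show m - 1 ≤ p + j + (q + j) by omega), mul_zero, add_zero, S'.M_symm w z]
    rcases Nat.lt_or_ge (p + j + q) m with hlt | hge
    · rw [S'.M_top P.one_le P.killx P.killy (show q + (p + j) = m - 1 by omega),
        S'.M_top P.one_le P.killx P.killy (show p + (q + j) = m - 1 by omega), CharTwo.add_self_eq_zero, mul_zero,
        add_zero]
    · rw [S'.M_vanish P.killx P.killy _ _ (show m ≤ q + (p + j) by omega),
        S'.M_vanish P.killx P.killy _ _ (show m ≤ p + (q + j) by omega), add_zero, mul_zero, add_zero]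
  have hchxy : ∀ p q, d < p + q → S'.M z' w p q = S'.M z w p q := fun p q hpq => by
    rw [hz', M_change, hzero _ _ (show m - 1 ≤ p + j + q by omega), mul_zero, add_zero]
  have P' : S'.IsPair0 m z' w :=
    ⟨P.one_le, hz' ▸ S'.kill_change P.killx P.killy c j, P.killy, by rw [hch _ _ (by omega), P.topx], P.topy,
      by rw [hchxy _ _ (by omega), P.topxy]⟩
  refine ⟨z', ?_, h.pair, P', ?_, h.ay, fun p q hpq => by rw [hchxy p q (by omega)]; exact h.axy p q hpq,
    fun h2 => by rw [hch _ _ (by omega)]; exact h.tx h2, h.ty⟩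
  · rw [hz', S'.gspan_change_left P.killx P.killy (S'.right_mem_gspan z w) c (by omega)]
  · refine agree_of_point S S' (fun p q hpq => by rw [hch p q (by omega)]; exact h.ax p q hpq)
      (show 0 + d = d by omega) ?_
    rw [hz', M_change_both, hzero _ _ (show m - 1 ≤ 0 + j + (d + j) by omega), mul_zero, add_zero, S'.M_symm w z,
      hl d (0 + j) (by omega), hl 0 (d + j) (by omega), hc]
    have hdodd : (d : F) = 1 := by
      rw [ht]; push_cast; rw [CharTwo.two_eq_zero]; ring
    simp only [Nat.cast_zero, hdodd, mul_one, add_zero]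
    linear_combination (norm := (ring_nf; simp [CharTwo.two_eq_zero]))

/-- Correcting the off-diagonal values on one antidiagonal. -/
theorem near_off {m : ℕ} {x y : V} {z w : V'} {d : ℕ} (hd : d + 2 ≤ m)
    (h : Near S S' m x y z w d d (d + 1)) :
    ∃ w', S'.gspan z w' = S'.gspan z w ∧ Near S S' m x y z w' d d d := by
  obtain ⟨j, hj⟩ : ∃ j, d + j + 1 = m := ⟨m - 1 - d, by omega⟩
  have P := h.pair'
  have hzero : ∀ p q, m - 1 ≤ p + q → S'.M w w p q = 0 := S'.M_high P.one_le P.killy P.killy P.topy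
  obtain ⟨c, hc⟩ : ∃ c, c = S.M x y 0 d + S'.M z w 0 d := ⟨_, rfl⟩
  obtain ⟨w', hw'⟩ : ∃ w', w' = w + c • (S'.N ^ j) w := ⟨_, rfl⟩
  have hch : ∀ p q, d ≤ p + q → S'.M w' w' p q = S'.M w w p q := fun p q hpq => by
    rw [hw', M_change_both, hzero _ _ (show m - 1 ≤ p + j + q by omega), hzero _ _ (show m - 1 ≤ p + (q + j) by omega),
      hzero _ _ (show m - 1 ≤ p + j + (q + j) by omega), add_zero, mul_zero, mul_zero, add_zero, add_zero]
  have hchxy : ∀ p q, d < p + q → S'.M z w' p q = S'.M z w p q := fun p q hpq => by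
    rw [hw', M_change_right, S'.M_vanish P.killx P.killy _ _ (show m ≤ p + (q + j) by omega), mul_zero, add_zero]
  have P' : S'.IsPair0 m z w' :=
    ⟨P.one_le, P.killx, hw' ▸ S'.kill_change P.killy P.killy c j, P.topx, by rw [hch _ _ (by omega), P.topy],
      by rw [hchxy _ _ (by omega), P.topxy]⟩
  refine ⟨w', ?_, h.pair, P', h.ax, fun p q hpq => by rw [hch p q hpq]; exact h.ay p q hpq, ?_, h.tx,
    fun h2 => by rw [hch _ _ (by omega)]; exact h.ty h2⟩
  · rw [S'.gspan_comm, hw', S'.gspan_change_left P.killy P.killx (S'.left_mem_gspan w z) c (by omega), S'.gspan_comm]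
  · refine agree_of_point S S' (fun p q hpq => by rw [hchxy p q (by omega)]; exact h.axy p q hpq)
      (show 0 + d = d by omega) ?_
    rw [hw', M_change_right, S'.M_top P.one_le P.killx P.killy (show 0 + (d + j) = m - 1 by omega), P.topxy, mul_one, hc,
      add_left_comm, CharTwo.add_self_eq_zero, add_zero]

/-- Paired blocks of the same type have the same values after a change of generators. -/
theorem pair_rigid (hδ : S.δ = S'.δ) {ε : F} {m : ℕ} {τ : Bool} {x y : V} {x' y' : V'} (h : S.IsPair ε m τ x y)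
    (h' : S'.IsPair ε m τ x' y') :
    ∃ x'' y'', S'.gspan x'' y'' = S'.gspan x' y' ∧ (∀ p q, S.M x x p q = S'.M x'' x'' p q) ∧
      (∀ p q, S.M x y p q = S'.M x'' y'' p q) ∧ (∀ p q, S.M y y p q = S'.M y'' y'' p q) ∧
      S.Q x = S'.Q x'' ∧ S.Q y = S'.Q y'' := by
  have h1 := h.one_le
  have htx : 2 ≤ m → S.M x x (m - 2) 0 = S'.M x' x' (m - 2) 0 := fun h2 => by
    have e1 := h.twistx; have e2 := h'.twistx
    rw [show m - 1 = m - 2 + 1 by omega] at e1 e2
    exact e1.trans e2.symm
  have hty : 2 ≤ m → S.M y y (m - 2) 0 = S'.M y' y' (m - 2) 0 := fun h2 => by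
    have e1 := h.twisty; have e2 := h'.twisty
    rw [show m - 1 = m - 2 + 1 by omega] at e1 e2
    exact e1.trans e2.symm
  have key : ∀ n, ∃ z w, S'.gspan z w = S'.gspan x' y' ∧
      Near S S' m x y z w (m - 1 - n) (m - 1 - n) (m - 1 - n) := by
    intro n
    induction n with
    | zero =>
      refine ⟨x', y', rfl, h.toIsPair0, h'.toIsPair0, fun p q hpq => ?_, fun p q hpq => ?_, fun p q hpq => ?_, htx, hty⟩
      · rw [S.M_high h1 h.killx h.killx h.topx p q (by omega), S'.M_high h1 h'.killx h'.killx h'.topx p q (by omega)]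
      · rw [S.M_high h1 h.killy h.killy h.topy p q (by omega), S'.M_high h1 h'.killy h'.killy h'.topy p q (by omega)]
      · rcases Nat.lt_or_ge (p + q) m with hlt | hge
        · rw [S.M_top h1 h.killx h.killy (show p + q = m - 1 by omega), h.topxy,
            S'.M_top h1 h'.killx h'.killy (show p + q = m - 1 by omega), h'.topxy]
        · rw [S.M_vanish h.killx h.killy p q hge, S'.M_vanish h'.killx h'.killy p q hge]
    | succ n ih =>
      obtain ⟨z, w, hspan, hn⟩ := ih
      rcases Nat.eq_zero_or_pos (m - 1 - n) with h0 | hpos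
      · exact ⟨z, w, hspan, by rw [show m - 1 - (n + 1) = m - 1 - n by omega]; exact hn⟩
      obtain ⟨d, hd⟩ : ∃ d, m - 1 - n = d + 1 := ⟨m - 1 - n - 1, by omega⟩
      rw [hd] at hn
      rw [show m - 1 - (n + 1) = d by omega]
      obtain ⟨z₁, hs1, hn1⟩ := near_diag S S' (by omega) hn
      obtain ⟨w₁, hs2, hn2⟩ := near_diag S S' (x := y) (y := x) (by omega) (hn1.swap S S')
      obtain ⟨w₂, hs3, hn3⟩ := near_off S S' (by omega) (hn2.swap S S')
      refine ⟨z₁, w₂, ?_, hn3⟩
      rw [hs3, S'.gspan_comm, hs2, S'.gspan_comm, hs1, hspan]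
  obtain ⟨z, w, hspan, hn⟩ := key (m - 1)
  rw [Nat.sub_self] at hn
  rcases S.q_kind with hδ1 | ⟨hδ0, hQ⟩
  swap
  · have hQ' := ((S'.q_kind).resolve_left (by rw [← hδ, hδ0]; exact zero_ne_one)).2
    exact ⟨z, w, hspan, fun p q => hn.ax p q (Nat.zero_le _), fun p q => hn.axy p q (Nat.zero_le _),
      fun p q => hn.ay p q (Nat.zero_le _), by rw [hQ, hQ'], by rw [hQ, hQ']⟩
  rcases Nat.lt_or_ge m 2 with hm | hm
  · obtain rfl : m = 1 := by omega
    refine ⟨x', y', rfl, fun p q => ?_, fun p q => ?_, fun p q => ?_, h.twistx.trans h'.twistx.symm,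
      h.twisty.trans h'.twisty.symm⟩
    · rw [S.M_high h1 h.killx h.killx h.topx p q (Nat.zero_le _), S'.M_high h1 h'.killx h'.killx h'.topx p q (Nat.zero_le _)]
    · rcases Nat.eq_zero_or_pos (p + q) with h0 | hpos
      · rw [show p = 0 by omega, show q = 0 by omega]; exact h.topxy.trans h'.topxy.symm
      · rw [S.M_vanish h.killx h.killy p q hpos, S'.M_vanish h'.killx h'.killy p q hpos]
    · rw [S.M_high h1 h.killy h.killy h.topy p q (Nat.zero_le _), S'.M_high h1 h'.killy h'.killy h'.topy p q (Nat.zero_le _)]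
  -- the values of Q
  have fix_q : ∀ {x y : V} {z w : V'}, Near S S' m x y z w 0 0 0 → ∃ z', S'.gspan z' w = S'.gspan z w ∧
      Near S S' m x y z' w 0 0 0 ∧ S.Q x = S'.Q z' := by
    intro x y z w hn
    obtain ⟨j, hj⟩ : ∃ j, j + 2 = m := ⟨m - 2, by omega⟩
    have P := hn.pair'
    have hzero : ∀ p q, m - 1 ≤ p + q → S'.M w w p q = 0 := S'.M_high P.one_le P.killy P.killy P.topy
    obtain ⟨c, hc⟩ : ∃ c, c = S.Q x + S'.Q z := ⟨_, rfl⟩
    obtain ⟨z', hz'⟩ : ∃ z', z' = z + c • (S'.N ^ (j + 1)) w := ⟨_, rfl⟩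
    have hch : ∀ p q, S'.M z' z' p q = S'.M z z p q := fun p q => by
      rw [hz', M_change_both, hzero _ _ (show m - 1 ≤ p + (j + 1) + (q + (j + 1)) by omega), mul_zero, add_zero,
        S'.M_symm w z]
      rcases Nat.eq_zero_or_pos (p + q) with h0 | hpos
      · rw [S'.M_top P.one_le P.killx P.killy (show q + (p + (j + 1)) = m - 1 by omega),
          S'.M_top P.one_le P.killx P.killy (show p + (q + (j + 1)) = m - 1 by omega), CharTwo.add_self_eq_zero,
          mul_zero, add_zero]
      · rw [S'.M_vanish P.killx P.killy _ _ (show m ≤ q + (p + (j + 1)) by omega),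
          S'.M_vanish P.killx P.killy _ _ (show m ≤ p + (q + (j + 1)) by omega), add_zero, mul_zero, add_zero]
    have hchxy : ∀ p q, S'.M z' w p q = S'.M z w p q := fun p q => by
      rw [hz', M_change, hzero _ _ (show m - 1 ≤ p + (j + 1) + q by omega), mul_zero, add_zero]
    refine ⟨z', ?_, ⟨hn.pair, ⟨P.one_le, hz' ▸ S'.kill_change P.killx P.killy c _, P.killy, by rw [hch, P.topx], P.topy,
      by rw [hchxy, P.topxy]⟩, fun p q hp => by rw [hch]; exact hn.ax p q hp, hn.ay,
      fun p q hp => by rw [hchxy]; exact hn.axy p q hp, fun h2 => by rw [hch]; exact hn.tx h2, hn.ty⟩, ?_⟩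
    · rw [hz', S'.gspan_change_left P.killx P.killy (S'.right_mem_gspan z w) c (by omega)]
    · rw [hz', q_change, hzero (j + 1) j (by omega), mul_zero, mul_zero, add_zero,
        S'.M_top P.one_le P.killx P.killy (show 0 + (j + 1) = m - 1 by omega), P.topxy, ← hδ, hδ1, one_mul, mul_one, hc,
        add_left_comm, CharTwo.add_self_eq_zero, add_zero]
  obtain ⟨z₁, hs1, hn1, hq1⟩ := fix_q hn
  obtain ⟨w₁, hs2, hn2, hq2⟩ := fix_q (hn1.swap S S')
  have hn2' := hn2.swap S S'
  exact ⟨z₁, w₁, by rw [S'.gspan_comm, hs2, S'.gspan_comm, hs1, hspan], fun p q => hn2'.ax p q (Nat.zero_le _),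
    fun p q => hn2'.axy p q (Nat.zero_le _), fun p q => hn2'.ay p q (Nat.zero_le _), hq1, hq2⟩

/-! ### Blocks are nondegenerate -/

theorem gspan_le_range {m : ℕ} {x y : V} (hx : (S.N ^ m) x = 0) (hy : (S.N ^ m) y = 0) :
    ∀ v ∈ S.gspan x y, ∃ a b : ℕ → F,
      v = ∑ i ∈ Finset.range m, (a i • (S.N ^ i) x + b i • (S.N ^ i) y) := by
  obtain ⟨U, hU⟩ : ∃ U, U = Submodule.span F (Set.range (fun i : Fin m => (S.N ^ (i : ℕ)) x)) ⊔
    Submodule.span F (Set.range (fun i : Fin m => (S.N ^ (i : ℕ)) y)) := ⟨_, rfl⟩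
  have hmemx : ∀ i, (S.N ^ i) x ∈ U := fun i => by
    rcases Nat.lt_or_ge i m with h | h
    · exact hU ▸ Submodule.mem_sup_left (Submodule.subset_span ⟨⟨i, h⟩, rfl⟩)
    · rw [S.pow_eq_zero_of_le hx h]; exact U.zero_mem
  have hmemy : ∀ i, (S.N ^ i) y ∈ U := fun i => by
    rcases Nat.lt_or_ge i m with h | h
    · exact hU ▸ Submodule.mem_sup_right (Submodule.subset_span ⟨⟨i, h⟩, rfl⟩)
    · rw [S.pow_eq_zero_of_le hy h]; exact U.zero_mem
  have hinv : U ≤ U.comap S.N := by
    nth_rewrite 1 [hU]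
    refine sup_le (Submodule.span_le.2 ?_) (Submodule.span_le.2 ?_) <;> rintro _ ⟨i, rfl⟩ <;>
      simp only [SetLike.mem_coe, Submodule.mem_comap, ← S.pow_succ_apply]
    · exact hmemx _
    · exact hmemy _
  intro v hv
  have hUi : S.Invt U := S.invt_of_N fun v hv => hinv hv
  have hle : S.gspan x y ≤ U := S.gspan_le hUi (by simpa using hmemx 0) (by simpa using hmemy 0)
  obtain ⟨v₁, hv₁, v₂, hv₂, rfl⟩ := Submodule.mem_sup.1 (hU ▸ hle hv)
  obtain ⟨a, rfl⟩ := (Submodule.mem_span_range_iff_exists_fun F).1 hv₁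
  obtain ⟨b, rfl⟩ := (Submodule.mem_span_range_iff_exists_fun F).1 hv₂
  refine ⟨fun i => if h : i < m then a ⟨i, h⟩ else 0, fun i => if h : i < m then b ⟨i, h⟩ else 0, ?_⟩
  rw [← Fin.sum_univ_eq_sum_range (fun i => (if h : i < m then a ⟨i, h⟩ else 0) • (S.N ^ i) x +
    (if h : i < m then b ⟨i, h⟩ else 0) • (S.N ^ i) y) m, ← Finset.sum_add_distrib]
  exact Finset.sum_congr rfl fun i _ => by simp [i.2]

theorem coeff_pair {m : ℕ} {x y : V} (h : S.IsPair0 m x y) (a b : ℕ → F)
    (hperp : ∀ w ∈ S.gspan x y, S.B (∑ i ∈ Finset.range m, (a i • (S.N ^ i) x + b i • (S.N ^ i) y)) w = 0) :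
    ∀ k, k < m → a k = 0 ∧ b k = 0 := by
  intro k
  induction k using Nat.strong_induction_on with
  | _ k ih =>
    intro hk
    have hI := S.invt_gspan x y
    have key : ∀ t ∈ S.gspan x y, (S.N ^ m) t = 0 →
        0 = a k * S.M x t k (m - 1 - k) + b k * S.M y t k (m - 1 - k) := fun t ht htk => by
      have h0 := hperp _ (hI.N_pow S (m - 1 - k) ht)
      rw [map_sum, LinearMap.sum_apply, Finset.sum_eq_single_of_mem k (Finset.mem_range.2 hk)] at h0
      · simpa [M, map_add, LinearMap.add_apply] using h0.symm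
      · intro i hi hik
        rcases Nat.lt_or_ge i k with hlt | hge
        · obtain ⟨e1, e2⟩ := ih i hlt (by omega)
          simp [e1, e2]
        · have e1 := S.M_vanish h.killx htk i (m - 1 - k) (by omega)
          have e2 := S.M_vanish h.killy htk i (m - 1 - k) (by omega)
          simp only [M] at e1 e2
          simp [e1, e2]
    have hs : k + (m - 1 - k) = m - 1 := by omega
    have e1 := key y (S.right_mem_gspan _ _) h.killy
    have e2 := key x (S.left_mem_gspan _ _) h.killx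
    rw [S.M_top h.one_le h.killx h.killy hs, h.topxy, S.M_top h.one_le h.killy h.killy hs, h.topy] at e1
    rw [S.M_top h.one_le h.killy h.killx hs, (h.swap S).topxy, S.M_top h.one_le h.killx h.killx hs, h.topx] at e2
    exact ⟨by simpa using e1.symm, by simpa using e2.symm⟩

theorem nd_pair {m : ℕ} {x y : V} (h : S.IsPair0 m x y) : S.Nd (S.gspan x y) := by
  intro z hz hperp
  obtain ⟨a, b, rfl⟩ := S.gspan_le_range h.killx h.killy z hz
  have hab := S.coeff_pair h a b hperp
  exact Finset.sum_eq_zero fun i hi => by simp [hab i (Finset.mem_range.1 hi)]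

theorem coeff_cyc {ε : F} {m : ℕ} {τ : Bool} {x : V} (h : S.IsCyc ε m τ x) (a : ℕ → F)
    (hperp : ∀ w ∈ S.gspan x 0, S.B (∑ i ∈ Finset.range m, a i • (S.N ^ i) x) w = 0) :
    ∀ k, k < m → a k = 0 := by
  have h1 : 1 ≤ m := by have := h.two_le; omega
  intro k
  induction k using Nat.strong_induction_on with
  | _ k ih =>
    intro hk
    have h0 := hperp _ ((S.invt_gspan x 0).N_pow S (m - 1 - k) (S.left_mem_gspan x 0))
    rw [map_sum, LinearMap.sum_apply, Finset.sum_eq_single_of_mem k (Finset.mem_range.2 hk)] at h0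
    · simp only [map_smul, LinearMap.smul_apply, smul_eq_mul, ← S.M_def] at h0
      rwa [S.M_top h1 h.kill h.kill (show k + (m - 1 - k) = m - 1 by omega), h.top, mul_one] at h0
    · intro i hi hik
      rcases Nat.lt_or_ge i k with hlt | hge
      · simp [ih i hlt (by omega)]
      · have e1 := S.M_vanish h.kill h.kill i (m - 1 - k) (by omega)
        simp only [M] at e1
        simp [e1]

theorem nd_cyc {ε : F} {m : ℕ} {τ : Bool} {x : V} (h : S.IsCyc ε m τ x) : S.Nd (S.gspan x 0) := by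
  intro z hz hperp
  obtain ⟨a, b, rfl⟩ := S.gspan_le_range h.kill (by simp) z hz
  simp only [map_zero, smul_zero, add_zero] at hperp ⊢
  have hab := S.coeff_cyc h a hperp
  exact Finset.sum_eq_zero fun i hi => by simp [hab i (Finset.mem_range.1 hi)]

theorem finrank_pair [FiniteDimensional F V] {m : ℕ} {x y : V} (h : S.IsPair0 m x y) :
    Module.finrank F (S.gspan x y) = 2 * m := by
  obtain ⟨e, he⟩ : ∃ e : Fin m ⊕ Fin m → V,
      e = Sum.elim (fun i : Fin m => (S.N ^ (i : ℕ)) x) (fun i : Fin m => (S.N ^ (i : ℕ)) y) := ⟨_, rfl⟩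
  have hI := S.invt_gspan x y
  have hspan : S.gspan x y = Submodule.span F (Set.range e) := by
    refine le_antisymm (fun v hv => ?_) (Submodule.span_le.2 ?_)
    · obtain ⟨a, b, rfl⟩ := S.gspan_le_range h.killx h.killy v hv
      refine Submodule.sum_mem _ fun i hi => Submodule.add_mem _ (Submodule.smul_mem _ _ (Submodule.subset_span ?_))
        (Submodule.smul_mem _ _ (Submodule.subset_span ?_))
      · exact ⟨Sum.inl ⟨i, Finset.mem_range.1 hi⟩, by rw [he]; rfl⟩
      · exact ⟨Sum.inr ⟨i, Finset.mem_range.1 hi⟩, by rw [he]; rfl⟩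
    · rintro _ ⟨i | i, rfl⟩ <;> rw [he]
      · exact hI.N_pow S _ (S.left_mem_gspan x y)
      · exact hI.N_pow S _ (S.right_mem_gspan x y)
  have hli : LinearIndependent F e := by
    rw [Fintype.linearIndependent_iff]
    intro c hc
    have hsum : ∑ i ∈ Finset.range m, ((if h : i < m then c (Sum.inl ⟨i, h⟩) else 0) • (S.N ^ i) x +
        (if h : i < m then c (Sum.inr ⟨i, h⟩) else 0) • (S.N ^ i) y) = 0 := by
      rw [← hc, Fintype.sum_sum_type, ← Finset.sum_add_distrib, ← Fin.sum_univ_eq_sum_range]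
      exact Finset.sum_congr rfl fun i _ => by simp [he, i.2]
    have hab := S.coeff_pair h _ _ fun w _ => by rw [hsum, map_zero, LinearMap.zero_apply]
    rintro (i | i)
    · simpa [i.2] using (hab i i.2).1
    · simpa [i.2] using (hab i i.2).2
  rw [hspan, finrank_span_eq_card hli, Fintype.card_sum, Fintype.card_fin, two_mul]

theorem finrank_cyc [FiniteDimensional F V] {ε : F} {m : ℕ} {τ : Bool} {x : V} (h : S.IsCyc ε m τ x) :
    Module.finrank F (S.gspan x 0) = m := by
  have hI := S.invt_gspan x 0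
  have hspan : S.gspan x 0 = Submodule.span F (Set.range fun i : Fin m => (S.N ^ (i : ℕ)) x) := by
    refine le_antisymm (fun v hv => ?_) (Submodule.span_le.2 ?_)
    · obtain ⟨a, b, rfl⟩ := S.gspan_le_range h.kill (by simp) v hv
      simp only [map_zero, smul_zero, add_zero]
      exact Submodule.sum_mem _ fun i hi => Submodule.smul_mem _ _
        (Submodule.subset_span ⟨⟨i, Finset.mem_range.1 hi⟩, rfl⟩)
    · rintro _ ⟨i, rfl⟩
      exact hI.N_pow S _ (S.left_mem_gspan x 0)
  have hli : LinearIndependent F fun i : Fin m => (S.N ^ (i : ℕ)) x := by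
    rw [Fintype.linearIndependent_iff]
    intro c hc i
    have hsum : ∑ i ∈ Finset.range m, (if h : i < m then c ⟨i, h⟩ else 0) • (S.N ^ i) x = 0 := by
      rw [← hc, ← Fin.sum_univ_eq_sum_range]
      exact Finset.sum_congr rfl fun i _ => by simp [i.2]
    have h3 := S.coeff_cyc h _ (fun w _ => by rw [hsum, map_zero, LinearMap.zero_apply]) i i.2
    simp only [dif_pos i.2] at h3
    exact h3
  rw [hspan, finrank_span_eq_card hli, Fintype.card_fin]

end Sys

end CfsgLib.CharTwoClasses
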