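import Cfsg.Agent.Lib.CharTwoClasses.Sign

/-!
# Conjugacy classes of the isometry group and their keys
-/

set_option autoImplicit false
set_option linter.unusedSectionVars false
set_option linter.style.haveILetI false

namespace CfsgLib.CharTwoClasses

open Polynomial

universe u v

variable {F : Type u} [Field F] [CharP F 2] {V : Type v} [AddCommGroup V] [Module F V] (S : Sys F V)

namespace Sys

/-- The group of the isometries. -/
def isoms : Subgroup (V ≃ₗ[F] V) where
  carrier := {φ | (∀ v w, S.B (φ v) (φ w) = S.B v w) ∧ ∀ v, S.Q (φ v) = S.Q v}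
  one_mem' := ⟨fun _ _ => rfl, fun _ => rfl⟩
  mul_mem' := fun {a b} ha hb => ⟨fun v w => (ha.1 _ _).trans (hb.1 v w), fun v => (ha.2 _).trans (hb.2 v)⟩
  inv_mem' := fun {a} ha => ⟨fun v w => by
    have h := ha.1 (a.symm v) (a.symm w)
    rw [a.apply_symm_apply, a.apply_symm_apply] at h
    exact h.symm, fun v => by
    have h := ha.2 (a.symm v)
    rw [a.apply_symm_apply] at h
    exact h.symm⟩

/-- The same forms with another isometry. -/
def withG (φ : S.isoms) : Sys F V :=
  { S with g := φ.1, inv := φ.2.1, q_inv := φ.2.2 }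

theorem pT_transport {V' : Type*} [AddCommGroup V'] [Module F V'] (S' : Sys F V') (φ : V ≃ₗ[F] V')
    (h : ∀ v, φ (S.g v) = S'.g (φ v)) (p : F[X]) : ∀ v, φ (S.pT p v) = S'.pT p (φ v) := by
  have hT : ∀ v, φ (S.T v) = S'.T (φ v) := fun v => by
    have hs : φ (S.g.symm v) = S'.g.symm (φ v) := by
      rw [LinearEquiv.eq_symm_apply, ← h, LinearEquiv.apply_symm_apply]
    rw [T_apply, T_apply, map_add, h, hs]
  induction p using Polynomial.induction_on' with
  | add p q hp hq => intro v; rw [pT_add, pT_add, map_add, hp, hq]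
  | monomial n c =>
    intro v
    simp only [pT, aeval_monomial, Module.End.mul_apply, Module.algebraMap_end_apply, map_smul]
    congr 1
    induction n generalizing v with
    | zero => rfl
    | succ n ih => rw [pow_succ, pow_succ, Module.End.mul_apply, Module.End.mul_apply, ih, hT]

variable [Finite F] [Finite V]

/-- The keys of the classes. -/
theorem exists_key {ε : F} (hε : IsEps ε) {n : ℕ} (hn : Module.finrank F V = 2 * n) :
    ∃ key : ConjClasses S.isoms → Multiset ULab × Multiset (F[X] × ℕ), Function.Injective key ∧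
      (∀ c, (∃ l : List ULab, (l : Multiset ULab) = (key c).1 ∧ Valid S.δ l ∧ wtSum l + wtCore (key c).2 = n) ∧
        GoodCore (key c).2) ∧
      (S.δ = 1 → ∀ c c', (key c).1 = (key c').1 →
        psi (sigmaP (corePoly (key c).2)) = psi (sigmaP (corePoly (key c').2))) := by
  haveI : FiniteDimensional F V := Module.Finite.of_finite
  have hdec := fun φ : S.isoms => (S.withG φ).exists_dec hε ⊤ (fun _ _ => trivial) (S.withG φ).nd_top
  choose C L hD hV hG hw using hdec
  have hw' : ∀ φ, wtSum (labsOf (L φ)) + wtCore (coreKey (C φ)) = n := fun φ => by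
    have := hw φ
    rw [finrank_top, hn] at this
    omega
  let key : ConjClasses S.isoms → Multiset ULab × Multiset (F[X] × ℕ) := fun c =>
    (↑(labsOf (L c.exists_rep.choose)), coreKey (C c.exists_rep.choose))
  refine ⟨key, fun c c' h => ?_, fun c => ⟨⟨_, rfl, hV _, hw' _⟩, hG _⟩, fun hδ c c' h => ?_⟩
  · obtain ⟨φ, hB, hQ, hg⟩ := (S.withG c.exists_rep.choose).exists_isometry_of_key (S.withG c'.exists_rep.choose) rfl
      (hD _) (hD _) (congrArg Prod.snd h) (congrArg Prod.fst h)
    rw [← c.exists_rep.choose_spec, ← c'.exists_rep.choose_spec, ConjClasses.mk_eq_mk_iff_isConj, isConj_iff]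
    refine ⟨⟨φ, hB, hQ⟩, ?_⟩
    rw [mul_inv_eq_iff_eq_mul]
    exact Subtype.ext (LinearEquiv.ext fun v => hg v)
  · have e1 := (S.withG c.exists_rep.choose).gauss_dec hε hδ (hD _) (hG _)
    have e2 := (S.withG c'.exists_rep.choose).gauss_dec hε hδ (hD _) (hG _)
    have hwt : wtCore (coreKey (C c.exists_rep.choose)) = wtCore (coreKey (C c'.exists_rep.choose)) := by
      have h1 := hw' c.exists_rep.choose
      have h2 := hw' c'.exists_rep.choose
      have h3 : wtSum (labsOf (L c.exists_rep.choose)) = wtSum (labsOf (L c'.exists_rep.choose)) :=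
        ((Quotient.exact h).map ULab.wt).sum_eq
      omega
    have hu := (S.withG c.exists_rep.choose).uGauss_congr (S.withG c'.exists_rep.choose) rfl (hD _).unip (hD _).unip h
    have hg : (S.withG c.exists_rep.choose).gauss ⊤ = (S.withG c'.exists_rep.choose).gauss ⊤ := rfl
    have hne : (S.withG c'.exists_rep.choose).gauss ⊤ ≠ 0 := fun h0 => by
      have h4 := (S.withG c'.exists_rep.choose).gauss_top_sq hε hδ
      rw [h0, mul_zero] at h4
      exact Nat.card_pos.ne' (Int.natCast_eq_zero.1 h4.symm)
    have hu0 : (S.withG c'.exists_rep.choose).uGauss (L c'.exists_rep.choose) ≠ 0 := fun h0 => hne (by rw [e2, h0, mul_zero])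
    rw [hg, e2, hwt, hu] at e1
    exact (mul_left_cancel₀ (pow_ne_zero _ (Sys.cast_card_ne (F := F))) (mul_right_cancel₀ hu0 e1)).symm

theorem gauss_top_eq {ε : F} (hε : IsEps ε) (hδ : S.δ = 1) {n : ℕ} (hn : Module.finrank F V = 2 * n) :
    S.gauss ⊤ = (Nat.card F : ℤ) ^ n ∨ S.gauss ⊤ = -(Nat.card F : ℤ) ^ n := by
  haveI : FiniteDimensional F V := Module.Finite.of_finite
  haveI := Fintype.ofFinite F
  haveI := Fintype.ofFinite V
  have h := S.gauss_top_sq hε hδ
  rw [Nat.card_eq_fintype_card, Module.card_eq_pow_finrank (K := F) (V := V), hn, ← Nat.card_eq_fintype_card,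
    Nat.cast_pow, two_mul, pow_add] at h
  exact mul_self_eq_mul_self_iff.1 h

end Sys

/-! ### Models -/

section Model

variable (H : F[X])

/-- Multiplication by a polynomial modulo `H`. -/
noncomputable def mulMod (hH : H.Monic) (κ : F[X]) : degreeLT F H.natDegree →ₗ[F] degreeLT F H.natDegree where
  toFun a := ⟨(κ * a.1) %ₘ H, mem_degreeLT.2 (by
    rw [← degree_eq_natDegree hH.ne_zero]; exact degree_modByMonic_lt _ hH)⟩
  map_add' a b := Subtype.ext (by
    show (κ * (a + b : degreeLT F _).1) %ₘ H = _
    rw [Submodule.coe_add, mul_add, add_modByMonic]; rfl)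
  map_smul' c a := Subtype.ext (by
    show (κ * (c • a : degreeLT F _).1) %ₘ H = _
    rw [Submodule.coe_smul, mul_smul_comm, smul_modByMonic]; rfl)

theorem mulMod_apply (hH : H.Monic) (κ : F[X]) (a : degreeLT F H.natDegree) :
    (mulMod H hH κ a).1 = (κ * a.1) %ₘ H := rfl

theorem mulMod_mul (hH : H.Monic) (κ ν : F[X]) (a : degreeLT F H.natDegree) :
    mulMod H hH κ (mulMod H hH ν a) = mulMod H hH (κ * ν) a := Subtype.ext (by
  rw [mulMod_apply, mulMod_apply, mulMod_apply, ← sub_eq_zero, ← sub_modByMonic, modByMonic_eq_zero_iff_dvd hH]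
  refine ⟨-(κ * ((ν * a.1) /ₘ H)), ?_⟩
  linear_combination κ * modByMonic_add_div (ν * a.1) H)

theorem mulMod_one (hH : H.Monic) (a : degreeLT F H.natDegree) : mulMod H hH 1 a = a := Subtype.ext (by
  rw [mulMod_apply, one_mul, (modByMonic_eq_self_iff hH).2]
  rw [degree_eq_natDegree hH.ne_zero]
  exact mem_degreeLT.1 a.2)

/-- The space of a model: the part of `H` and some planes. -/
abbrev MSp (i : ℕ) : Type u := (degreeLT F H.natDegree × degreeLT F H.natDegree) × (Fin i → F × F)

/-- The model with `T = X` modulo `H` on the first part and trivial isometry on the planes. -/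
theorem exists_model (hH : H.Monic) (h00 : H.coeff 0 ≠ 0) {ε : F} (hε : IsEps ε) [Finite F] (i : ℕ) (δ : F)
    (hδ : δ = 1 ∨ δ = 0) (t : Fin i → F) :
    ∃ S : Sys F (MSp H i), S.δ = δ ∧ (δ = 1 → 1 ≤ H.natDegree + i →
        S.gauss ⊤ = (Nat.card F : ℤ) ^ (H.natDegree + i) * psi (sigmaP H + ∑ j, t j)) ∧
      Module.finrank F (MSp H i) = 2 * (H.natDegree + i) ∧
      ∀ p : F[X], (∀ v, S.pT p v = 0) ↔ H ∣ p ∧ (0 < i → X ∣ p) := by
  haveI : Module.Finite F (degreeLT F H.natDegree) := Module.Finite.equiv (degreeLTEquiv F _).symm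
  haveI : Finite (degreeLT F H.natDegree) := Module.finite_of_finite F
  obtain ⟨u, v, huv⟩ := exists_inv_X h00
  obtain ⟨lam, hlam⟩ : ∃ lam : F[X] → F, ∀ a, lam a = ell H (u * u * X * (a * a)) := ⟨_, fun _ => rfl⟩
  have hlam_add : ∀ a b, lam (a + b) = lam a + lam b := fun a b => by
    rw [hlam, hlam, hlam, CharTwo.add_mul_self, mul_add, ell_add]
  have hlam_smul : ∀ (c : F) a, lam (c • a) = c ^ 2 * lam a := fun c a => by
    rw [hlam, hlam, smul_mul_smul_comm, mul_smul_comm, ell_smul, sq]
  let B : LinearMap.BilinForm F (MSp H i) := LinearMap.mk₂ F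
    (fun p r => ell H (p.1.1.1 * r.1.2.1 + p.1.2.1 * r.1.1.1) + ∑ j, ((p.2 j).1 * (r.2 j).2 + (p.2 j).2 * (r.2 j).1))
    (fun p p' r => by
      simp only [Prod.fst_add, Prod.snd_add, Submodule.coe_add, add_mul, Pi.add_apply, ell_add, Finset.sum_add_distrib]
      ring)
    (fun c p r => by
      simp only [Prod.smul_fst, Prod.smul_snd, Submodule.coe_smul, smul_mul_assoc, ← smul_add, ell_smul, Pi.smul_apply,
        smul_eq_mul, Finset.mul_sum, mul_add]
      exact congrArg _ (Finset.sum_congr rfl fun j _ => by ring))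
    (fun p r r' => by
      simp only [Prod.fst_add, Prod.snd_add, Submodule.coe_add, mul_add, Pi.add_apply, ell_add, Finset.sum_add_distrib]
      ring)
    (fun c p r => by
      simp only [Prod.smul_fst, Prod.smul_snd, Submodule.coe_smul, mul_smul_comm, ← smul_add, ell_smul, Pi.smul_apply,
        smul_eq_mul, Finset.mul_sum, mul_add]
      exact congrArg _ (Finset.sum_congr rfl fun j _ => by ring))
  let Q : MSp H i → F := fun p => δ * (lam p.1.1.1 + lam p.1.2.1 + ell H (p.1.1.1 * p.1.2.1) +
    ∑ j, (t j * (p.2 j).1 ^ 2 + (p.2 j).1 * (p.2 j).2 + t j * (p.2 j).2 ^ 2))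
  have hB : ∀ p r : MSp H i, B p r = ell H (p.1.1.1 * r.1.2.1 + p.1.2.1 * r.1.1.1) +
      ∑ j, ((p.2 j).1 * (r.2 j).2 + (p.2 j).2 * (r.2 j).1) := fun p r => rfl
  let mX := mulMod H hH X
  let g : MSp H i ≃ₗ[F] MSp H i :=
    { toFun := fun p => ((p.1.2, p.1.1 + mX p.1.2), p.2)
      invFun := fun p => ((p.1.2 + mX p.1.1, p.1.1), p.2)
      map_add' := fun p r => by
        refine Prod.ext (Prod.ext rfl ?_) rfl
        simp only [Prod.fst_add, Prod.snd_add, map_add]
        abel
      map_smul' := fun c p => by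
        refine Prod.ext (Prod.ext rfl ?_) rfl
        simp only [Prod.smul_fst, Prod.smul_snd, map_smul, smul_add, RingHom.id_apply]
      left_inv := fun p => by
        refine Prod.ext (Prod.ext ?_ rfl) rfl
        show p.1.1 + mX p.1.2 + mX p.1.2 = p.1.1
        rw [add_assoc, ← two_smul F (mX p.1.2), CharTwo.two_eq_zero, zero_smul, add_zero]
      right_inv := fun p => by
        refine Prod.ext (Prod.ext rfl ?_) rfl
        show p.1.2 + mX p.1.1 + mX p.1.1 = p.1.2
        rw [add_assoc, ← two_smul F (mX p.1.1), CharTwo.two_eq_zero, zero_smul, add_zero] }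
  have hg : ∀ p, g p = ((p.1.2, p.1.1 + mX p.1.2), p.2) := fun p => rfl
  have hmX : ∀ a : degreeLT F H.natDegree, (mX a).1 = (X * a.1) %ₘ H := fun a => rfl
  have hq_add : ∀ p r, Q (p + r) = Q p + Q r + δ * B p r := fun p r => by
    simp only [Q, hB, Prod.fst_add, Prod.snd_add, Submodule.coe_add, Pi.add_apply, hlam_add, add_mul, mul_add, ell_add,
      CharTwo.add_sq, Finset.sum_add_distrib]
    rw [mul_comm (r.1.1.1 : F[X]) p.1.2.1]
    simp only [mul_comm ((p.2 _).2) ((r.2 _).1)]
    ring
  let S : Sys F (MSp H i) :=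
    { B := B, Q := Q, δ := δ, g := g
      alt := fun p => by
        rw [hB, mul_comm (p.1.2.1 : F[X]), CharTwo.add_self_eq_zero]
        rw [Finset.sum_eq_zero fun j _ => by rw [mul_comm (p.2 j).2, CharTwo.add_self_eq_zero], add_zero]
        simpa using ell_smul H (0 : F) 0
      nondeg := fun p h => by
        have ha : p.1.1 = 0 := Subtype.ext (ell_nondeg hH huv (by
          rw [degree_eq_natDegree hH.ne_zero]; exact mem_degreeLT.1 p.1.1.2) fun κ => by
          have h1 := h ((0, mulMod H hH κ ⟨1 %ₘ H, mem_degreeLT.2 (by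
            rw [← degree_eq_natDegree hH.ne_zero]; exact degree_modByMonic_lt _ hH)⟩), 0)
          rw [hB] at h1
          simp only [mulMod_apply, Pi.zero_apply, Prod.fst_zero, Prod.snd_zero, mul_zero, add_zero,
            Finset.sum_const_zero, Submodule.coe_zero] at h1
          rw [mul_comm, ell_mod hH, mul_assoc, mul_comm κ, mul_assoc, ell_mod hH, one_mul] at h1
          rw [mul_comm]; exact h1)
        have hb : p.1.2 = 0 := Subtype.ext (ell_nondeg hH huv (by
          rw [degree_eq_natDegree hH.ne_zero]; exact mem_degreeLT.1 p.1.2.2) fun κ => by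
          have h1 := h ((mulMod H hH κ ⟨1 %ₘ H, mem_degreeLT.2 (by
            rw [← degree_eq_natDegree hH.ne_zero]; exact degree_modByMonic_lt _ hH)⟩, 0), 0)
          rw [hB] at h1
          simp only [mulMod_apply, Pi.zero_apply, Prod.fst_zero, Prod.snd_zero, mul_zero, add_zero, zero_add,
            Finset.sum_const_zero, Submodule.coe_zero] at h1
          rw [mul_comm, ell_mod hH, mul_assoc, mul_comm κ, mul_assoc, ell_mod hH, one_mul] at h1
          rw [mul_comm]; exact h1)
        have hz : ∀ (z : Fin i → F × F), ∑ j, ((p.2 j).1 * (z j).2 + (p.2 j).2 * (z j).1) = 0 := fun z => by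
          have h1 := h ((0, 0), z)
          rw [hB] at h1
          simp only [Submodule.coe_zero, mul_zero, add_zero] at h1
          rwa [show ell H (0 : F[X]) = 0 by simpa using ell_smul H (0 : F) 0, zero_add] at h1
        refine Prod.ext (Prod.ext ha hb) (funext fun j => Prod.ext ?_ ?_)
        · have h1 := hz (Pi.single j (0, 1))
          rw [Finset.sum_eq_single_of_mem j (Finset.mem_univ _) fun k _ hk => by simp [Pi.single_eq_of_ne hk]] at h1
          simpa using h1
        · have h1 := hz (Pi.single j (1, 0))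
          rw [Finset.sum_eq_single_of_mem j (Finset.mem_univ _) fun k _ hk => by simp [Pi.single_eq_of_ne hk]] at h1
          simpa using h1
      inv := fun p r => by
        rw [hB, hB, hg, hg]
        refine congrArg (· + _) (ell_congr hH ?_)
        simp only [Submodule.coe_add, hmX]
        refine ⟨-(p.1.2.1 * ((X * r.1.2.1) /ₘ H)) - r.1.2.1 * ((X * p.1.2.1) /ₘ H), ?_⟩
        have h2 : (2 : F[X]) = 0 := CharTwo.two_eq_zero
        linear_combination p.1.2.1 * modByMonic_add_div (X * r.1.2.1) H + r.1.2.1 * modByMonic_add_div (X * p.1.2.1) H +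
          (p.1.2.1 * X * r.1.2.1) * h2
      q_add := hq_add
      q_smul := fun c p => by
        simp only [Q, Prod.smul_fst, Prod.smul_snd, Submodule.coe_smul, Pi.smul_apply, smul_mul_smul_comm, ell_smul,
          hlam_smul, smul_eq_mul, mul_add, Finset.mul_sum, Finset.sum_add_distrib]
        refine congrArg₂ (· + ·) (by ring) (congrArg₂ (· + ·) (congrArg₂ (· + ·) ?_ ?_) ?_) <;>
          refine Finset.sum_congr rfl fun j _ => ?_ <;> ring
      q_inv := fun p => by
        simp only [Q, hg]
        refine congrArg (δ * ·) (congrArg (· + _) ?_)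
        simp only [Submodule.coe_add, hlam_add, mul_add, ell_add, hmX]
        have e1 : lam ((X * p.1.2.1) %ₘ H) = ell H (p.1.2.1 * ((X * p.1.2.1) %ₘ H)) := by
          rw [hlam]
          refine ell_congr hH ?_
          refine ⟨-(v * X * p.1.2.1 * p.1.2.1 * (1 + u * X)) - u * u * X * ((X * p.1.2.1) /ₘ H) *
            (X * p.1.2.1 + (X * p.1.2.1) %ₘ H) + p.1.2.1 * ((X * p.1.2.1) /ₘ H), ?_⟩
          linear_combination (u * u * X * ((X * p.1.2.1) %ₘ H + X * p.1.2.1) - p.1.2.1) *
            modByMonic_add_div (X * p.1.2.1) H + (X * p.1.2.1 * p.1.2.1 * (u * X + 1)) * huv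
        rw [e1, mul_comm (p.1.2.1 : F[X]) p.1.1.1]
        linear_combination (norm := (ring_nf; simp [CharTwo.two_eq_zero]))
      q_kind := hδ.imp id fun h => ⟨h, fun p => by simp [Q, h]⟩ }
  refine ⟨S, rfl, fun hd hn => ?_, ?_, fun p => ?_⟩
  · haveI := Fintype.ofFinite F
    haveI := Fintype.ofFinite (degreeLT F H.natDegree)
    haveI := Fintype.ofFinite (⊤ : Submodule F (MSp H i))
    rw [Sys.gauss_eq, show (∑ v : (⊤ : Submodule F (MSp H i)), psi (S.Q v)) = ∑ p : MSp H i, psi (S.Q p) from
      Fintype.sum_equiv (Equiv.subtypeUnivEquiv fun _ => Submodule.mem_top) _ _ fun _ => rfl]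
    have hQ : ∀ p : MSp H i, psi (S.Q p) = psi (lam p.1.1.1 + lam p.1.2.1 + ell H (p.1.1.1 * p.1.2.1)) *
        ∏ j, psi (t j * (p.2 j).1 ^ 2 + (p.2 j).1 * (p.2 j).2 + t j * (p.2 j).2 ^ 2) := fun p => by
      show psi (δ * _) = _
      rw [hd, one_mul, psi_add hε]
      refine congrArg _ ?_
      induction (Finset.univ : Finset (Fin i)) using Finset.induction_on with
      | empty => simp [psi_zero]
      | insert a s ha ih => rw [Finset.sum_insert ha, Finset.prod_insert ha, psi_add hε, ih]
    simp only [hQ]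
    rw [Fintype.sum_prod_type]
    simp only [← Finset.mul_sum, ← Finset.sum_mul]
    rw [← Fintype.prod_sum (fun (j : Fin i) (z : F × F) => psi (t j * z.1 ^ 2 + z.1 * z.2 + t j * z.2 ^ 2))]
    have hplane : ∀ s : F, ∑ z : F × F, psi (s * z.1 ^ 2 + z.1 * z.2 + s * z.2 ^ 2) = (Nat.card F : ℤ) * psi s := by
      intro s
      obtain ⟨r, hr⟩ := Sys.exists_sqrt s
      have e : ∀ a b : F, psi (s * a ^ 2 + a * b + s * b ^ 2) = psi (r * a) * psi ((r + a) * b) := fun a b => by
        rw [psi_add hε, psi_add hε, ← hr, show r ^ 2 * a ^ 2 = (r * a) ^ 2 by ring,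
          show r ^ 2 * b ^ 2 = (r * b) ^ 2 by ring, psi_sq, psi_sq, add_mul, psi_add hε]
        ring
      rw [Fintype.sum_prod_type]
      simp only [e, ← Finset.mul_sum]
      rw [Fintype.sum_eq_single r fun a ha => ?_]
      · simp only [CharTwo.add_self_eq_zero, zero_mul, psi_zero, Finset.sum_const, Finset.card_univ, nsmul_eq_mul,
          mul_one, Nat.card_eq_fintype_card]
        rw [show r * r = s by rw [← hr, sq], mul_comm]
      · rw [show ∑ b, psi ((r + a) * b) = ∑ b, psi ((LinearMap.mulLeft F (r + a)) b) from rfl,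
          sum_psi_eq_zero hε (LinearMap.mulLeft F (r + a)) fun h0 => ha (CharTwo.add_eq_zero.1
            (by simpa using congrArg (fun f => f 1) h0)).symm, mul_zero]
    simp only [hplane, Finset.prod_mul_distrib, Finset.prod_const, Finset.card_univ, Fintype.card_fin]
    have hpsum : ∏ j, psi (t j) = psi (∑ j, t j) := by
      induction (Finset.univ : Finset (Fin i)) using Finset.induction_on with
      | empty => simp [psi_zero]
      | insert a s ha ih => rw [Finset.sum_insert ha, Finset.prod_insert ha, psi_add hε, ih]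
    rw [hpsum, psi_add hε, pow_add]
    rcases Nat.eq_zero_or_pos H.natDegree with h0 | hpos
    · have hH1 : H = 1 := eq_one_of_monic_natDegree_zero hH h0
      haveI : Subsingleton (degreeLT F H.natDegree) := ⟨fun a b => by
        have : ∀ a : degreeLT F H.natDegree, a.1 = 0 := fun a => by
          have h := mem_degreeLT.1 a.2
          by_contra hne
          have := natDegree_lt_iff_degree_lt hne |>.2 h
          omega
        exact Subtype.ext ((this a).trans (this b).symm)⟩
      rw [Fintype.sum_subsingleton _ (0, 0)]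
      simp only [Submodule.coe_zero, mul_zero, h0, pow_zero, one_mul]
      rw [show lam 0 = 0 by simpa using hlam_smul 0 0, show ell H (0 : F[X]) = 0 by simpa using ell_smul H (0 : F) 0,
        add_zero, add_zero, psi_zero, hH1, sigmaP_one, psi_zero]
      ring
    · simp only [hlam]
      rw [sum_ell hε hH hpos h00 huv]
      ring
  · rw [Module.finrank_prod, Module.finrank_prod, LinearEquiv.finrank_eq (degreeLTEquiv F _), Module.finrank_fin_fun,
      Module.finrank_pi_fintype]
    simp only [Module.finrank_prod, Module.finrank_self, Finset.sum_const, Finset.card_univ, Fintype.card_fin,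
      smul_eq_mul]
    ring
  · have hT : ∀ w, S.T w = ((mX w.1.1, mX w.1.2), 0) := fun w => by
      show g w + g.symm w = _
      rw [hg, show g.symm w = ((w.1.2 + mX w.1.1, w.1.1), w.2) from rfl]
      have h2 : ∀ {W : Type u} [AddCommGroup W] [Module F W] (z : W), z + z = 0 := fun {W} _ _ z => by
        rw [← two_smul F z, CharTwo.two_eq_zero, zero_smul]
      refine Prod.ext (Prod.ext ?_ ?_) ?_
      · show w.1.2 + (w.1.2 + mX w.1.1) = _
        rw [← add_assoc, h2, zero_add]
      · show w.1.1 + mX w.1.2 + w.1.1 = _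
        rw [add_right_comm, h2, zero_add]
      · exact h2 w.2
    have hp : ∀ (p : F[X]) (w), S.pT p w = ((mulMod H hH p w.1.1, mulMod H hH p w.1.2), p.coeff 0 • w.2) := by
      intro p
      induction p using Polynomial.induction_on' with
      | add p q hp hq =>
        intro w
        rw [Sys.pT_add, hp, hq]
        refine Prod.ext (Prod.ext (Subtype.ext ?_) (Subtype.ext ?_)) (by rw [coeff_add, add_smul]; rfl) <;>
          simp [mulMod_apply, add_mul, add_modByMonic]
      | monomial k c =>
        have hk : ∀ w, S.pT (X ^ k) w = ((mulMod H hH (X ^ k) w.1.1, mulMod H hH (X ^ k) w.1.2),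
            (X ^ k : F[X]).coeff 0 • w.2) := by
          induction k with
          | zero => intro w; simp [Sys.pT_one, mulMod_one]
          | succ k ih =>
            intro w
            rw [pow_succ', Sys.pT_mul, Sys.pT_X, ih, hT]
            simp [mulMod_mul, mX]
        intro w
        rw [← C_mul_X_pow_eq_monomial, Sys.pT_mul, hk]
        refine Prod.ext (Prod.ext (Subtype.ext ?_) (Subtype.ext ?_)) ?_
        · simp [Sys.pT, mulMod_apply, ← smul_eq_C_mul, smul_modByMonic]
        · simp [Sys.pT, mulMod_apply, ← smul_eq_C_mul, smul_modByMonic]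
        · simp [Sys.pT]
    constructor
    · intro h
      refine ⟨?_, fun hi => ?_⟩
      · have h1 := h ((⟨1 %ₘ H, mem_degreeLT.2 (by
          rw [← degree_eq_natDegree hH.ne_zero]; exact degree_modByMonic_lt _ hH)⟩, 0), 0)
        rw [hp] at h1
        have h2 := congrArg (fun w : MSp H i => w.1.1.1) h1
        simp only [mulMod_apply, Prod.fst_zero, Submodule.coe_zero] at h2
        rw [modByMonic_eq_zero_iff_dvd hH] at h2
        have h3 : p = p * (1 %ₘ H) + H * (p * (1 /ₘ H)) := by
          linear_combination -p * modByMonic_add_div 1 H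
        rw [h3]
        exact dvd_add h2 (dvd_mul_right _ _)
      · have h1 := h (0, fun _ => (1, 0))
        rw [hp] at h1
        have h2 := congrArg (fun w : MSp H i => (w.2 ⟨0, hi⟩).1) h1
        simpa [X_dvd_iff] using h2
    · rintro ⟨h1, h2⟩ w
      rw [hp]
      refine Prod.ext (Prod.ext (Subtype.ext ?_) (Subtype.ext ?_)) (funext fun j => ?_)
      · exact (modByMonic_eq_zero_iff_dvd hH).2 (h1.mul_right _)
      · exact (modByMonic_eq_zero_iff_dvd hH).2 (h1.mul_right _)
      · show p.coeff 0 • w.2 j = 0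
        rw [X_dvd_iff.1 (h2 (Fin.pos j)), zero_smul]

end Model

end CfsgLib.CharTwoClasses
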