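import Cfsg.Agent.Lib.CharTwoClasses.Codes

/-!
# Numerical bounds for the series of codes at one half
-/

set_option autoImplicit false

namespace CfsgLib.CharTwoClasses

open Finset

/-- The first terms of the series: clear top, cyclic top, plain. -/
def ser (d : Bool) : ℕ → ℚ × ℚ × ℚ
  | 0 => (1, 0, 1)
  | k + 1 =>
    ((ser d k).1 * noCyc (d || decide (0 < k)) ((1 / 2) ^ (2 * k + 1)) ((1 / 2) ^ (2 * (k + 1))) +
        (ser d k).2.1 * noCyc false ((1 / 2) ^ (2 * k + 1)) ((1 / 2) ^ (2 * (k + 1))),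
      (ser d k).1 * withCyc (d || decide (0 < k)) ((1 / 2) ^ (2 * k + 1)) ((1 / 2) ^ (k + 1)) ((1 / 2) ^ (2 * (k + 1))) +
        (ser d k).2.1 * withCyc false ((1 / 2) ^ (2 * k + 1)) ((1 / 2) ^ (k + 1)) ((1 / 2) ^ (2 * (k + 1))),
      (ser d k).2.2 * (1 - (1 / 2) ^ (2 * (k + 1)))⁻¹)

/-- The part of the series with a given predicate. -/
noncomputable def part (d : Bool) (N k : ℕ) (P : List Code → Bool) : ℝ :=
  ∑ l ∈ conf d N k, if P l = true then (1 / 2 : ℝ) ^ codesWt l else 0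

theorem part_nonneg (d : Bool) (N k : ℕ) (P : List Code → Bool) : 0 ≤ part d N k P :=
  sum_nonneg fun l _ => by split_ifs <;> positivity

theorem part_succ (d : Bool) (N k : ℕ) (P : List Code → Bool) :
    part d N (k + 1) P = ∑ l ∈ conf d N k, (1 / 2 : ℝ) ^ codesWt l *
      ∑ c ∈ box N, if c.Ok (freeAt d l) ∧ P (c :: l) = true then
        ((1 / 2 : ℝ) ^ (2 * k + 1)) ^ (c.pu + c.pt) * ((1 / 2 : ℝ) ^ (k + 1)) ^ (c.cu + c.ct) *
          ((1 / 2 : ℝ) ^ (2 * (k + 1))) ^ c.e else 0 := by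
  rw [part, conf, sum_image fun a _ b _ h => by
    rw [List.cons.injEq] at h; exact Prod.ext h.2 h.1]
  rw [sum_filter, sum_product]
  refine sum_congr rfl fun l hl => ?_
  rw [mul_sum]
  refine sum_congr rfl fun c _ => ?_
  simp only [codesWt, Code.wt, length_of_mem hl, pow_add, pow_mul, ite_and, mul_ite, mul_zero]
  split_ifs <;> ring

theorem half_pow_lt {m : ℕ} (hm : 1 ≤ m) : (1 / 2 : ℝ) ^ m < 1 := pow_lt_one₀ (by norm_num) (by norm_num) (by omega)

theorem freeAt_eq {d : Bool} {N k : ℕ} {l : List Code} (h : l ∈ conf d N k) :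
    freeAt d l = (clearTop l && (d || decide (0 < k))) := by rw [freeAt, length_of_mem h]

theorem part_split (d : Bool) (N k : ℕ) (g : Bool → ℝ) :
    (∑ l ∈ conf d N k, (1 / 2 : ℝ) ^ codesWt l * g (freeAt d l)) =
      part d N k clearTop * g (d || decide (0 < k)) + part d N k (fun l => !clearTop l) * g false := by
  rw [part, part, sum_mul, sum_mul, ← sum_add_distrib]
  refine sum_congr rfl fun l hl => ?_
  rw [freeAt_eq hl]
  cases clearTop l <;> simp

theorem cast_noCyc (f : Bool) (r y : ℚ) : ((noCyc f r y : ℚ) : ℝ) = noCyc f (r : ℝ) (y : ℝ) := by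
  cases f <;> simp [noCyc]

theorem cast_withCyc (f : Bool) (r z y : ℚ) : ((withCyc f r z y : ℚ) : ℝ) = withCyc f (r : ℝ) (z : ℝ) (y : ℝ) := by
  cases f <;> simp [withCyc]

theorem part_le (d : Bool) (N : ℕ) : ∀ k, part d N k clearTop ≤ ((ser d k).1 : ℝ) ∧
    part d N k (fun l => !clearTop l) ≤ ((ser d k).2.1 : ℝ) ∧ part d N k plainAll ≤ ((ser d k).2.2 : ℝ)
  | 0 => by simp [part, conf, ser, clearTop, plainAll, codesWt]
  | k + 1 => by
    obtain ⟨iA, iB, iE⟩ := part_le d N k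
    have hr := half_pow_lt (show 1 ≤ 2 * k + 1 by omega)
    have hy := half_pow_lt (show 1 ≤ 2 * (k + 1) by omega)
    have h0 : ∀ m : ℕ, (0 : ℝ) ≤ (1 / 2) ^ m := fun m => by positivity
    have hb := fun f => sum_box_le (h0 (2 * k + 1)) hr (h0 (k + 1)) (h0 (2 * (k + 1))) hy f N
    have hnn : ∀ f, 0 ≤ noCyc f ((1 / 2 : ℝ) ^ (2 * k + 1)) ((1 / 2) ^ (2 * (k + 1))) ∧
        0 ≤ withCyc f ((1 / 2 : ℝ) ^ (2 * k + 1)) ((1 / 2) ^ (k + 1)) ((1 / 2) ^ (2 * (k + 1))) := fun f => by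
      refine ⟨le_trans ?_ (hb f).1, le_trans ?_ (hb f).2.1⟩ <;>
        exact sum_nonneg fun c _ => by split_ifs <;> positivity
    refine ⟨?_, ?_, ?_⟩ <;> rw [part_succ]
    · refine (sum_le_sum fun l _ => mul_le_mul_of_nonneg_left (hb (freeAt d l)).1 (h0 _)).trans ?_
      rw [part_split d N k fun f => noCyc f _ _]
      simp only [ser, Rat.cast_add, Rat.cast_mul, cast_noCyc]
      push_cast
      gcongr
      exacts [(hnn _).1, (hnn _).1]
    · simp only [clearTop, Bool.not_eq_true']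
      refine (sum_le_sum fun l _ => mul_le_mul_of_nonneg_left (hb (freeAt d l)).2.1 (h0 _)).trans ?_
      rw [part_split d N k fun f => withCyc f _ _ _]
      simp only [ser, Rat.cast_add, Rat.cast_mul, cast_withCyc]
      push_cast
      gcongr
      exacts [(hnn _).2, (hnn _).2]
    · have hg : (0 : ℝ) ≤ (1 - (1 / 2) ^ (2 * (k + 1)))⁻¹ := inv_nonneg.2 (by linarith)
      refine le_trans ?_ (show part d N k plainAll * (1 - (1 / 2 : ℝ) ^ (2 * (k + 1)))⁻¹ ≤ _ by
        simp only [ser, Rat.cast_mul, Rat.cast_inv, Rat.cast_sub, Rat.cast_pow]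
        push_cast
        gcongr)
      rw [part, sum_mul]
      refine sum_le_sum fun l _ => ?_
      by_cases hp : plainAll l = true
      · rw [if_pos hp]
        refine mul_le_mul_of_nonneg_left (le_trans (le_of_eq (sum_congr rfl fun c _ => ?_)) (hb (freeAt d l)).2.2) (h0 _)
        simp only [plainAll, List.all_cons, Bool.and_eq_true] at hp ⊢
        simp [hp]
      · rw [if_neg hp, zero_mul, sum_eq_zero fun c _ => if_neg fun h => hp ?_, mul_zero]
        simp only [plainAll, List.all_cons, Bool.and_eq_true] at h ⊢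
        exact h.2.2

/-- The layer factor for large `k`. -/
theorem step_le {z : ℝ} (hz : 0 ≤ z) (hz' : z ≤ 1 / 4096) :
    noCyc true (2 * z ^ 2) (z ^ 2) + withCyc true (2 * z ^ 2) z (z ^ 2) ≤ 1 + 3 * z ∧
      (1 - z ^ 2)⁻¹ ≤ 1 + 3 * z := by
  have h1 : 0 < 1 - 2 * z ^ 2 := by nlinarith
  have h2 : 0 < 1 - z ^ 2 := by nlinarith
  constructor
  · simp only [noCyc, withCyc, cond_true]
    field_simp
    nlinarith [mul_nonneg hz (sub_nonneg.2 hz'), pow_nonneg hz 3, pow_nonneg hz 4, pow_nonneg hz 5]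
  · rw [inv_le_iff_one_le_mul₀ h2]
    nlinarith [mul_nonneg hz (sub_nonneg.2 hz'), pow_nonneg hz 3]

theorem noCyc_mono {r z y : ℝ} (hr : 0 ≤ r) (hr1 : r < 1) (hz : 0 ≤ z) (hy1 : y < 1) :
    noCyc false r y + withCyc false r z y ≤ noCyc true r y + withCyc true r z y := by
  have hR : 0 ≤ (1 - r)⁻¹ := inv_nonneg.2 (by linarith)
  have hY : 0 ≤ (1 - y)⁻¹ := inv_nonneg.2 (by linarith)
  simp only [noCyc, withCyc, cond_true, cond_false, add_zero]
  nlinarith [mul_nonneg (mul_nonneg hr hR) hY, mul_nonneg (mul_nonneg hz (mul_nonneg hr hR)) hY, mul_nonneg hz hY,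
    mul_nonneg (mul_nonneg (sq_nonneg z) (mul_nonneg hr hR)) hY, mul_nonneg (sq_nonneg z) hY]

theorem ser_nonneg (d : Bool) : ∀ k, 0 ≤ ((ser d k).1 : ℝ) ∧ 0 ≤ ((ser d k).2.1 : ℝ) ∧ 0 ≤ ((ser d k).2.2 : ℝ) := fun k =>
  ⟨(part_nonneg d 0 k _).trans (part_le d 0 k).1, (part_nonneg d 0 k _).trans (part_le d 0 k).2.1,
    (part_nonneg d 0 k _).trans (part_le d 0 k).2.2⟩

/-- The weighted total of the series. -/
noncomputable def tot (d : Bool) (c : ℝ) (k : ℕ) : ℝ :=
  ((ser d k).1 : ℝ) + ((ser d k).2.1 : ℝ) + c * ((ser d k).2.2 : ℝ)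

theorem tot_tail (d : Bool) {c : ℝ} (hc : 0 ≤ c) {B : ℝ} (h12 : tot d c 12 ≤ B * (1 - 3 / 2 ^ 12)) :
    ∀ j, tot d c (12 + j) ≤ B * (1 - 3 / 2 ^ (12 + j))
  | 0 => h12
  | j + 1 => by
    have ih := tot_tail d hc h12 j
    obtain ⟨k, hk⟩ : ∃ k, k = 12 + j := ⟨_, rfl⟩
    rw [← hk] at ih
    rw [show 12 + (j + 1) = k + 1 by omega]
    obtain ⟨z, hz⟩ : ∃ z, z = (1 / 2 : ℝ) ^ (k + 1) := ⟨_, rfl⟩
    have hz0 : 0 < z := by rw [hz]; positivity
    have hz1 : z ≤ 1 / 4096 := by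
      rw [hz, show (1 / 4096 : ℝ) = (1 / 2) ^ 12 by norm_num]
      exact pow_le_pow_of_le_one (by norm_num) (by norm_num) (by omega)
    have er : (1 / 2 : ℝ) ^ (2 * k + 1) = 2 * z ^ 2 := by rw [hz, ← pow_mul]; ring
    have ey : (1 / 2 : ℝ) ^ (2 * (k + 1)) = z ^ 2 := by rw [hz, ← pow_mul, mul_comm]
    have e3 : (3 : ℝ) / 2 ^ (k + 1) = 3 * z := by rw [hz, div_pow, one_pow]; ring
    have e3' : (3 : ℝ) / 2 ^ k = 6 * z := by rw [hz, div_pow, one_pow, pow_succ]; ring
    obtain ⟨hs, hsE⟩ := step_le hz0.le hz1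
    have hF := noCyc_mono (r := 2 * z ^ 2) (z := z) (y := z ^ 2) (by positivity) (by nlinarith) hz0.le (by nlinarith)
    obtain ⟨nA, nB, nE⟩ := ser_nonneg d k
    have hstep : tot d c (k + 1) ≤ (1 + 3 * z) * tot d c k := by
      simp only [tot, ser, Rat.cast_add, Rat.cast_mul, cast_noCyc, cast_withCyc]
      rw [show decide (0 < k) = true from decide_eq_true (by omega), Bool.or_true]
      push_cast
      rw [← hz, er, ey]
      nlinarith [mul_le_mul_of_nonneg_left hs nA, mul_le_mul_of_nonneg_left (hF.trans hs) nB,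
        mul_le_mul_of_nonneg_left hsE (mul_nonneg hc nE)]
    rw [e3] ; rw [e3'] at ih
    have hB : 0 ≤ B := by
      have : 0 ≤ tot d c 12 := by obtain ⟨a, b, e⟩ := ser_nonneg d 12; unfold tot; positivity
      nlinarith [this.trans h12]
    refine hstep.trans ((mul_le_mul_of_nonneg_left ih (by positivity)).trans ?_)
    nlinarith [mul_nonneg hB (sq_nonneg z)]

theorem ser_numeric : (ser false 12).1 + (ser false 12).2.1 ≤ 76 / 5 * (1 - 3 / 2 ^ 12) ∧
    (ser true 12).1 + (ser true 12).2.1 + (ser true 12).2.2 ≤ 30 * (1 - 3 / 2 ^ 12) ∧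
    (ser true 12).1 + (ser true 12).2.1 ≤ 128 / 5 * (1 - 3 / 2 ^ 12) := by
  decide +kernel

theorem sp_series_le {N K : ℕ} (hK : 12 ≤ K) : ∑ l ∈ conf false N K, (1 / 2 : ℝ) ^ codesWt l ≤ 76 / 5 := by
  have h := tot_tail false (le_refl (0 : ℝ)) (B := 76 / 5) (by
    rw [tot, zero_mul, add_zero]
    have := (Rat.cast_le (K := ℝ)).2 ser_numeric.1
    push_cast at this
    convert this using 2) (K - 12)
  rw [show 12 + (K - 12) = K by omega] at h
  rw [tot, zero_mul, add_zero] at h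
  have e : ∑ l ∈ conf false N K, (1 / 2 : ℝ) ^ codesWt l =
      part false N K clearTop + part false N K (fun l => !clearTop l) := by
    rw [part, part, ← sum_add_distrib]
    exact sum_congr rfl fun l _ => by cases clearTop l <;> simp
  rw [e]
  have : (0 : ℝ) ≤ 3 / 2 ^ K := by positivity
  obtain ⟨a, b, -⟩ := part_le false N K
  linarith

theorem o_series_only_le {N K : ℕ} (hK : 12 ≤ K) : ∑ l ∈ conf true N K, (1 / 2 : ℝ) ^ codesWt l ≤ 128 / 5 := by
  have h := tot_tail true (le_refl (0 : ℝ)) (B := 128 / 5) (by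
    rw [tot, zero_mul, add_zero]
    have := (Rat.cast_le (K := ℝ)).2 ser_numeric.2.2
    push_cast at this
    convert this using 2) (K - 12)
  rw [show 12 + (K - 12) = K by omega] at h
  rw [tot, zero_mul, add_zero] at h
  have e : ∑ l ∈ conf true N K, (1 / 2 : ℝ) ^ codesWt l =
      part true N K clearTop + part true N K (fun l => !clearTop l) := by
    rw [part, part, ← sum_add_distrib]
    exact sum_congr rfl fun l _ => by cases clearTop l <;> simp
  rw [e]
  have : (0 : ℝ) ≤ 3 / 2 ^ K := by positivity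
  obtain ⟨a, b, -⟩ := part_le true N K
  linarith

theorem o_series_le {N K : ℕ} (hK : 12 ≤ K) :
    ∑ l ∈ conf true N K, (1 / 2 : ℝ) ^ codesWt l + ∑ l ∈ (conf true N K).filter (fun l => plainAll l = true),
      (1 / 2 : ℝ) ^ codesWt l ≤ 30 := by
  have h := tot_tail true (zero_le_one' ℝ) (B := 30) (by
    rw [tot, one_mul]
    have := (Rat.cast_le (K := ℝ)).2 ser_numeric.2.1
    push_cast at this
    convert this using 2) (K - 12)
  rw [show 12 + (K - 12) = K by omega] at h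
  rw [tot, one_mul] at h
  have e : ∑ l ∈ conf true N K, (1 / 2 : ℝ) ^ codesWt l =
      part true N K clearTop + part true N K (fun l => !clearTop l) := by
    rw [part, part, ← sum_add_distrib]
    exact sum_congr rfl fun l _ => by cases clearTop l <;> simp
  rw [e, sum_filter]
  have : (0 : ℝ) ≤ 3 / 2 ^ K := by positivity
  obtain ⟨a, b, c⟩ := part_le true N K
  change _ + _ + part true N K plainAll ≤ _
  linarith

end CfsgLib.CharTwoClasses
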