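import Mathlib

/-!
# The series of admissible layer codes

A code records, for one `k`, the numbers of untwisted and twisted pairs of size `2k - 1`, of
untwisted and twisted cyclic blocks of size `2k`, and of pairs of size `2k`.
-/

set_option autoImplicit false

namespace CfsgLib.CharTwoClasses

open Finset

/-- The multiplicities at one layer. -/
structure Code where
  pu : ℕ
  pt : ℕ
  cu : ℕ
  ct : ℕ
  e : ℕ
deriving DecidableEq

namespace Code

/-- Half the dimension of the blocks of a code. -/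
def wt (k : ℕ) (c : Code) : ℕ := (2 * k + 1) * (c.pu + c.pt) + (k + 1) * (c.cu + c.ct) + 2 * (k + 1) * c.e

/-- A code may follow a layer; `f` says that its twists are free. -/
def Ok (f : Bool) (c : Code) : Prop :=
  c.pt ≤ 1 ∧ c.cu + c.ct ≤ 2 ∧ c.ct ≤ 1 ∧ (c.pt = 1 → f = true) ∧ (c.ct = 1 → c.pu + c.pt = 0 ∧ f = true)

instance (f : Bool) (c : Code) : Decidable (c.Ok f) := by unfold Ok; infer_instance

/-- No cyclic block. -/
def clear (c : Code) : Bool := c.cu + c.ct == 0

/-- Only pairs of even size. -/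
def plain (c : Code) : Bool := c.pu + c.pt + c.cu + c.ct == 0

end Code

/-- The last layer has no cyclic block. -/
def clearTop : List Code → Bool
  | [] => true
  | c :: _ => c.clear

/-- All layers are plain. -/
def plainAll (l : List Code) : Bool := l.all Code.plain

/-- The weight of a list of codes, last layer first. -/
def codesWt : List Code → ℕ
  | [] => 0
  | c :: l => c.wt l.length + codesWt l

/-- Twists are free at a layer. -/
def freeAt (d : Bool) (l : List Code) : Bool := clearTop l && (d || decide (0 < l.length))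

/-- All codes with small multiplicities. -/
def box (N : ℕ) : Finset Code :=
  (range N ×ˢ range 2 ×ˢ range 3 ×ˢ range 2 ×ˢ range N).map
    ⟨fun p => ⟨p.1, p.2.1, p.2.2.1, p.2.2.2.1, p.2.2.2.2⟩, fun a b h => by
      simp only [Code.mk.injEq] at h
      obtain ⟨h1, h2, h3, h4, h5⟩ := h
      ext <;> assumption⟩

/-- Admissible lists of `k` codes with small multiplicities. -/
def conf (d : Bool) (N : ℕ) : ℕ → Finset (List Code)
  | 0 => {[]}
  | k + 1 => (((conf d N k) ×ˢ box N).filter fun p => p.2.Ok (freeAt d p.1)).image fun p => p.2 :: p.1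

theorem length_of_mem {d : Bool} {N : ℕ} : ∀ {k : ℕ} {l : List Code}, l ∈ conf d N k → l.length = k
  | 0, l, h => by simp [conf] at h; simp [h]
  | k + 1, l, h => by
    simp only [conf, mem_image, mem_filter, mem_product] at h
    obtain ⟨p, ⟨⟨hp, -⟩, -⟩, rfl⟩ := h
    simp [length_of_mem hp]

theorem mem_box {N : ℕ} {c : Code} :
    c ∈ box N ↔ c.pu < N ∧ c.pt < 2 ∧ c.cu < 3 ∧ c.ct < 2 ∧ c.e < N := by
  obtain ⟨a, b, c, d, e⟩ := c
  simp only [box, mem_map, mem_product, mem_range]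
  constructor
  · rintro ⟨p, hp, h⟩
    cases h
    exact hp
  · intro h; exact ⟨(a, b, c, d, e), h, rfl⟩

theorem geom_le {r : ℝ} (h0 : 0 ≤ r) (h1 : r < 1) (N : ℕ) : ∑ i ∈ range N, r ^ i ≤ (1 - r)⁻¹ := by
  rw [inv_eq_one_div, le_div_iff₀ (by linarith), geom_sum_mul_neg]
  linarith [pow_nonneg h0 N]

/-- The factor of a layer without cyclic blocks. -/
def noCyc {K : Type*} [Field K] (f : Bool) (r y : K) : K := ((1 - r)⁻¹ + (bif f then r * (1 - r)⁻¹ else 0)) * (1 - y)⁻¹

/-- The factor of a layer with cyclic blocks. -/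
def withCyc {K : Type*} [Field K] (f : Bool) (r z y : K) : K :=
  (z + z ^ 2) * ((1 - r)⁻¹ + (bif f then r * (1 - r)⁻¹ + 1 else 0)) * (1 - y)⁻¹

theorem sum_box_le {r z y : ℝ} (hr : 0 ≤ r) (hr1 : r < 1) (hz : 0 ≤ z) (hy : 0 ≤ y) (hy1 : y < 1) (f : Bool) (N : ℕ) :
    (∑ c ∈ box N, if c.Ok f ∧ c.clear = true then r ^ (c.pu + c.pt) * z ^ (c.cu + c.ct) * y ^ c.e else 0) ≤ noCyc f r y ∧
    (∑ c ∈ box N, if c.Ok f ∧ c.clear = false then r ^ (c.pu + c.pt) * z ^ (c.cu + c.ct) * y ^ c.e else 0) ≤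
      withCyc f r z y ∧
    (∑ c ∈ box N, if c.Ok f ∧ c.plain = true then r ^ (c.pu + c.pt) * z ^ (c.cu + c.ct) * y ^ c.e else 0) ≤ (1 - y)⁻¹ := by
  have hR := geom_le hr hr1 N
  have hY := geom_le hy hy1 N
  have hR0 : 0 ≤ ∑ i ∈ range N, r ^ i := sum_nonneg fun i _ => pow_nonneg hr i
  have hY0 : 0 ≤ ∑ i ∈ range N, y ^ i := sum_nonneg fun i _ => pow_nonneg hy i
  have h10 : 0 ≤ (1 - r)⁻¹ := inv_nonneg.2 (by linarith)
  have hone : ∀ g : ℕ → ℝ, 0 ≤ g 0 → ∑ i ∈ range N, (if i = 0 then g i else 0) ≤ g 0 := fun g hg => by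
    rw [sum_ite_eq']; split_ifs <;> simp [hg]
  have e : ∀ g : Code → ℝ, ∑ c ∈ box N, g c =
      ∑ a ∈ range N, ∑ b ∈ range 2, ∑ c ∈ range 3, ∑ d ∈ range 2, ∑ e ∈ range N, g ⟨a, b, c, d, e⟩ := fun g => by
    simp only [box, sum_map, sum_product]
    rfl
  refine ⟨?_, ?_, ?_⟩ <;> rw [e] <;> cases f <;>
    simp [Finset.sum_range_succ, Code.Ok, Code.clear, Code.plain, noCyc, withCyc, pow_succ, ← mul_sum, ← sum_mul,
      sum_add_distrib, ite_and, -Finset.sum_ite_eq']
  · exact mul_le_mul hR hY hY0 h10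
  · calc _ = ((∑ i ∈ range N, r ^ i) + r * ∑ i ∈ range N, r ^ i) * ∑ i ∈ range N, y ^ i := by ring
      _ ≤ _ := by gcongr
  · calc _ = (z + z * z) * (∑ i ∈ range N, r ^ i) * ∑ i ∈ range N, y ^ i := by ring
      _ ≤ _ := by gcongr
  · calc _ ≤ (∑ i ∈ range N, r ^ i) * z * (∑ i ∈ range N, y ^ i) + (∑ i ∈ range N, r ^ i) * (z * z) * (∑ i ∈ range N, y ^ i) +
          (r ^ 0 * z * (∑ i ∈ range N, y ^ i) + r ^ 0 * (z * z) * (∑ i ∈ range N, y ^ i)) +
          ((∑ i ∈ range N, r ^ i) * r * z * (∑ i ∈ range N, y ^ i) +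
            (∑ i ∈ range N, r ^ i) * r * (z * z) * (∑ i ∈ range N, y ^ i)) := by
          gcongr
          · exact hone (fun i => r ^ i * z * ∑ i ∈ range N, y ^ i) (by positivity)
          · exact hone (fun i => r ^ i * (z * z) * ∑ i ∈ range N, y ^ i) (by positivity)
      _ = (z + z * z) * ((∑ i ∈ range N, r ^ i) + (r * (∑ i ∈ range N, r ^ i) + 1)) * ∑ i ∈ range N, y ^ i := by ring
      _ ≤ _ := by gcongr
  · exact (hone (fun i => r ^ i * ∑ i ∈ range N, y ^ i) (by positivity)).trans (by simpa using hY)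
  · exact (hone (fun i => r ^ i * ∑ i ∈ range N, y ^ i) (by positivity)).trans (by simpa using hY)

end CfsgLib.CharTwoClasses
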