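import Cfsg.Agent.Lib.CharTwoClasses.Peel

/-!
# Blocks without the eigenvalue one

With `T = g + g⁻¹`, a block belongs to a monic irreducible polynomial other than `X` and an exponent,
and is determined by these.
-/

set_option autoImplicit false
set_option linter.unusedSectionVars false
set_option linter.style.haveILetI false

namespace CfsgLib.CharTwoClasses

open Polynomial

universe u v w

variable {F : Type u} [Field F] [CharP F 2]

namespace Sys

variable {V : Type v} [AddCommGroup V] [Module F V] (S : Sys F V)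

/-- The sum of the isometry and its inverse. -/
def T : Module.End F V := (S.g : V →ₗ[F] V) + (S.g.symm : V →ₗ[F] V)

/-- A polynomial in `T` applied to a vector. -/
noncomputable def pT (p : F[X]) (v : V) : V := aeval S.T p v

theorem T_apply (v : V) : S.T v = S.g v + S.g.symm v := rfl

include S in
theorem add_self (v : V) : v + v = 0 := by
  rw [← two_smul F v, CharTwo.two_eq_zero, zero_smul]

theorem g_T (v : V) : S.g (S.T v) = S.T (S.g v) := by
  rw [T_apply, T_apply, map_add, LinearEquiv.apply_symm_apply, LinearEquiv.symm_apply_apply]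

theorem g_g (v : V) : S.g (S.g v) = S.T (S.g v) + v := by
  rw [T_apply, LinearEquiv.symm_apply_apply, add_assoc, S.add_self, add_zero]

theorem inv_symm (v w : V) : S.B (S.g.symm v) w = S.B v (S.g w) := by
  conv_rhs => rw [← S.g.apply_symm_apply v, S.inv]

theorem T_adj (v w : V) : S.B (S.T v) w = S.B v (S.T w) := by
  have h : S.B v (S.g.symm w) = S.B (S.g v) w := by
    rw [S.symm, inv_symm, S.symm]
  rw [T_apply, T_apply, map_add, LinearMap.add_apply, map_add, inv_symm, h, add_comm]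

theorem pT_mul (p q : F[X]) (v : V) : S.pT (p * q) v = S.pT p (S.pT q v) := by
  simp only [pT, map_mul]; rfl

theorem pT_add (p q : F[X]) (v : V) : S.pT (p + q) v = S.pT p v + S.pT q v := by
  simp only [pT, map_add, LinearMap.add_apply]

theorem pT_one (v : V) : S.pT 1 v = v := by simp [pT]

theorem pT_zero (v : V) : S.pT 0 v = 0 := by simp [pT]

theorem pT_X (v : V) : S.pT X v = S.T v := by simp [pT]

theorem pT_map_add (p : F[X]) (v w : V) : S.pT p (v + w) = S.pT p v + S.pT p w := map_add _ v w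

theorem pT_map_smul (p : F[X]) (c : F) (v : V) : S.pT p (c • v) = c • S.pT p v := map_smul _ c v

theorem pT_map_zero (p : F[X]) : S.pT p 0 = 0 := map_zero _

theorem pT_g (p : F[X]) : ∀ v, S.pT p (S.g v) = S.g (S.pT p v) := by
  induction p using Polynomial.induction_on' with
  | add p q hp hq => intro v; rw [pT_add, pT_add, hp, hq, map_add]
  | monomial n c =>
    intro v
    simp only [pT, aeval_monomial, Module.End.mul_apply, Module.algebraMap_end_apply, map_smul]
    congr 1
    induction n generalizing v with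
    | zero => rfl
    | succ n ih => rw [pow_succ, Module.End.mul_apply, Module.End.mul_apply, ← g_T, ih]

theorem pT_adj (p : F[X]) : ∀ v w, S.B (S.pT p v) w = S.B v (S.pT p w) := by
  induction p using Polynomial.induction_on' with
  | add p q hp hq => intro v w; rw [pT_add, pT_add, map_add, LinearMap.add_apply, map_add, hp, hq]
  | monomial n c =>
    intro v w
    simp only [pT, aeval_monomial, Module.End.mul_apply, Module.algebraMap_end_apply, map_smul, LinearMap.smul_apply,
      smul_eq_mul]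
    congr 1
    induction n generalizing v w with
    | zero => rfl
    | succ n ih =>
      rw [pow_succ, Module.End.mul_apply, ih, T_adj, ← Module.End.mul_apply, ← pow_succ', ← pow_succ]

theorem pT_self (p : F[X]) (v : V) : S.B (S.pT p v) v = 0 := by
  induction p using Polynomial.induction_on' with
  | add p q hp hq => rw [pT_add, map_add, LinearMap.add_apply, hp, hq, add_zero]
  | monomial n c =>
    have hn : ∀ n : ℕ, S.pT (X ^ n) v = (S.T ^ n) v := fun n => by simp [pT]
    rw [pT, aeval_monomial, Module.End.mul_apply, Module.algebraMap_end_apply, map_smul, LinearMap.smul_apply,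
      smul_eq_mul, ← hn]
    obtain ⟨r, rfl | rfl⟩ : ∃ r, n = r + r ∨ n = r + (r + 1) := ⟨n / 2, by omega⟩
    · rw [pow_add, pT_mul, pT_adj, S.alt, mul_zero]
    · rw [pow_add, pT_mul, pT_adj, pow_succ', pT_mul, pT_X, T_apply, map_add, LinearMap.add_apply,
        inv_symm, S.symm (S.g _), CharTwo.add_self_eq_zero, mul_zero]

/-- The functional of a vector. -/
noncomputable def omega (x : V) (κ : F[X]) : F := S.B (S.pT κ (S.g x)) x

theorem omega_add (x : V) (κ ν : F[X]) : S.omega x (κ + ν) = S.omega x κ + S.omega x ν := by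
  rw [omega, omega, omega, pT_add, map_add, LinearMap.add_apply]

theorem omega_smul (x : V) (c : F) (κ : F[X]) : S.omega x (c • κ) = c * S.omega x κ := by
  simp [omega, pT, map_smul]

theorem omega_eq (x : V) (p q : F[X]) : S.B (S.pT p x) (S.pT q (S.g x)) = S.omega x (q * p) := by
  rw [S.pT_adj, ← pT_mul, S.symm, omega, mul_comm]

/-- The values on a combination of `x` and `g x`. -/
theorem omega_comb (x : V) (κ a b : F[X]) :
    S.omega (S.pT a x + S.pT b (S.g x)) κ = S.omega x (κ * (a * a + X * a * b + b * b)) := by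
  have hg : S.g (S.pT a x + S.pT b (S.g x)) = S.pT b x + S.pT (a + X * b) (S.g x) := by
    rw [map_add, ← pT_g, ← pT_g, g_g, pT_map_add, pT_add, mul_comm X b, pT_mul, pT_X]
    abel
  rw [omega, hg, pT_map_add, ← pT_mul, ← pT_mul]
  simp only [map_add, LinearMap.add_apply]
  rw [S.symm (S.pT (κ * (a + X * b)) (S.g x)) (S.pT a x), omega_eq, omega_eq]
  have e1 : S.B (S.pT (κ * b) x) (S.pT a x) = 0 := by rw [← pT_adj, ← pT_mul, pT_self]
  have e2 : S.B (S.pT (κ * (a + X * b)) (S.g x)) (S.pT b (S.g x)) = 0 := by rw [← pT_adj, ← pT_mul, pT_self]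
  rw [e1, e2, zero_add, add_zero, ← omega_add]
  congr 1
  ring

/-- A block for an irreducible polynomial. -/
structure IsCore (P : F[X]) (e : ℕ) (x : V) : Prop where
  monic : P.Monic
  irr : Irreducible P
  ne_X : P ≠ X
  one_le : 1 ≤ e
  kill : S.pT (P ^ e) x = 0
  top : ∃ κ, S.omega x (κ * P ^ (e - 1)) ≠ 0

theorem IsCore.omega_dvd {P : F[X]} {e : ℕ} {x : V} (h : S.IsCore P e x) {κ : F[X]} (hd : P ^ e ∣ κ) :
    S.omega x κ = 0 := by
  obtain ⟨r, rfl⟩ := hd
  rw [omega, mul_comm, pT_mul, pT_g, h.kill, map_zero, pT_map_zero, map_zero, LinearMap.zero_apply]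

theorem IsCore.dvd_of_omega {P : F[X]} {e : ℕ} {x : V} (h : S.IsCore P e x) {a : F[X]}
    (ha : ∀ κ, S.omega x (κ * a) = 0) : P ^ e ∣ a := by
  let I : Ideal F[X] :=
    { carrier := {a | ∀ κ, S.omega x (κ * a) = 0}
      zero_mem' := fun κ => by rw [mul_zero]; exact h.omega_dvd S (dvd_zero _)
      add_mem' := fun {a b} ha hb κ => by rw [mul_add, omega_add, ha κ, hb κ, add_zero]
      smul_mem' := fun c a ha κ => by rw [smul_eq_mul, ← mul_assoc]; exact ha _ }
  obtain ⟨r, hr⟩ := (IsPrincipalIdealRing.principal I).principal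
  have hr' : ∀ b, b ∈ I ↔ r ∣ b := fun b => by rw [hr, Ideal.submodule_span_eq, Ideal.mem_span_singleton]
  obtain ⟨i, hi, hassoc⟩ := (dvd_prime_pow h.irr.prime _).1
    ((hr' (P ^ e)).1 fun κ => h.omega_dvd S (dvd_mul_left _ _))
  have hie : i = e := by
    by_contra hne
    obtain ⟨κ, hκ⟩ := h.top
    exact hκ ((hr' (P ^ (e - 1))).2 (hassoc.dvd.trans (pow_dvd_pow P (by omega))) κ)
  subst hie
  exact hassoc.dvd'.trans ((hr' a).1 ha)

theorem IsCore.monic_pow {P : F[X]} {e : ℕ} {x : V} (h : S.IsCore P e x) : (P ^ e).Monic := h.monic.pow e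

theorem IsCore.pT_mod {P : F[X]} {e : ℕ} {x : V} (h : S.IsCore P e x) (p : F[X]) :
    S.pT (p %ₘ P ^ e) x = S.pT p x ∧ S.pT (p %ₘ P ^ e) (S.g x) = S.pT p (S.g x) := by
  constructor
  · conv_rhs => rw [← modByMonic_add_div p (P ^ e), pT_add, mul_comm (P ^ e), pT_mul, h.kill, pT_map_zero, add_zero]
  · conv_rhs => rw [← modByMonic_add_div p (P ^ e), pT_add, mul_comm (P ^ e), pT_mul, S.pT_g (P ^ e), h.kill, map_zero,
      pT_map_zero, add_zero]

/-- The powers of `g` on a vector, as combinations of it and its image. -/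
noncomputable def gpol : ℕ → F[X] × F[X]
  | 0 => (1, 0)
  | a + 1 => ((gpol a).2, (gpol a).1 + X * (gpol a).2)

theorem g_pow_eq (x : V) : ∀ a : ℕ,
    (S.g ^ a) x = S.pT ((gpol a : F[X] × F[X])).1 x + S.pT ((gpol a : F[X] × F[X])).2 (S.g x)
  | 0 => by simp [gpol, pT_one, pT_zero]
  | a + 1 => by
    rw [pow_succ', LinearEquiv.mul_apply, g_pow_eq x a, map_add, ← pT_g, ← pT_g, g_g, pT_map_add, gpol, pT_add,
      mul_comm X, pT_mul, pT_X]
    abel

theorem gram_omega (x : V) (a b : ℕ) :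
    S.B ((S.g ^ a) x) ((S.g ^ b) x) =
      S.omega x ((gpol a : F[X] × F[X]).1 * (gpol b).2) + S.omega x ((gpol a : F[X] × F[X]).2 * (gpol b).1) := by
  rw [g_pow_eq, g_pow_eq]
  simp only [map_add, LinearMap.add_apply]
  rw [S.symm (S.pT (gpol a : F[X] × F[X]).2 (S.g x)) (S.pT (gpol b).1 x), omega_eq, omega_eq]
  have e1 : S.B (S.pT (gpol a : F[X] × F[X]).1 x) (S.pT (gpol b).1 x) = 0 := by rw [← pT_adj, ← pT_mul, pT_self]
  have e2 : S.B (S.pT (gpol a : F[X] × F[X]).2 (S.g x)) (S.pT (gpol b).2 (S.g x)) = 0 := by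
    rw [← pT_adj, ← pT_mul, pT_self]
  rw [e1, e2, zero_add, add_zero, mul_comm (gpol b : F[X] × F[X]).2, add_comm]

variable [FiniteDimensional F V]

theorem Invt.symm_mem {U : Submodule F V} (hU : S.Invt U) {v : V} (hv : v ∈ U) : S.g.symm v ∈ U := by
  have hinj : Function.Injective ((S.g : V →ₗ[F] V).restrict hU) := fun a b h =>
    Subtype.ext (S.g.injective (congrArg Subtype.val h))
  obtain ⟨w, hw⟩ := (LinearMap.injective_iff_surjective.1 hinj) ⟨v, hv⟩
  have h' : S.g w = v := congrArg Subtype.val hw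
  rw [← h', LinearEquiv.symm_apply_apply]
  exact w.2

theorem Invt.pT {U : Submodule F V} (hU : S.Invt U) (p : F[X]) : ∀ {v : V}, v ∈ U → S.pT p v ∈ U := by
  induction p using Polynomial.induction_on' with
  | add p q hp hq => intro v hv; rw [pT_add]; exact U.add_mem (hp hv) (hq hv)
  | monomial n c =>
    intro v hv
    simp only [Sys.pT, aeval_monomial, Module.End.mul_apply, Module.algebraMap_end_apply]
    refine U.smul_mem _ ?_
    induction n generalizing v with
    | zero => exact hv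
    | succ n ih => rw [pow_succ, Module.End.mul_apply]; exact ih (U.add_mem (hU v hv) (hU.symm_mem S hv))

theorem mem_core_span {P : F[X]} {e : ℕ} {x : V} (h : S.IsCore P e x) {v : V} :
    v ∈ S.gspan x 0 ↔ ∃ a b : F[X], a.degree < (P ^ e).degree ∧ b.degree < (P ^ e).degree ∧
      v = S.pT a x + S.pT b (S.g x) := by
  refine ⟨fun hv => ?_, ?_⟩
  · let W : Submodule F V :=
      { carrier := {v | ∃ a b : F[X], v = S.pT a x + S.pT b (S.g x)}
        zero_mem' := ⟨0, 0, by rw [pT_zero, pT_zero, add_zero]⟩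
        add_mem' := fun {v w} ⟨a, b, ha⟩ ⟨c, d, hc⟩ => ⟨a + c, b + d, by rw [ha, hc, pT_add, pT_add]; abel⟩
        smul_mem' := fun c v ⟨a, b, ha⟩ => ⟨c • a, c • b, by
          rw [ha, smul_add]; simp [Sys.pT, map_smul]⟩ }
    have hW : S.Invt W := fun v hv => by
      obtain ⟨a, b, rfl⟩ := hv
      refine ⟨b, a + X * b, ?_⟩
      rw [map_add, ← pT_g, ← pT_g, g_g, pT_map_add, pT_add, mul_comm X, pT_mul, pT_X]
      abel
    obtain ⟨a, b, rfl⟩ := S.gspan_le hW (show x ∈ W from ⟨1, 0, by rw [pT_one, pT_zero, add_zero]⟩) W.zero_mem hv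
    exact ⟨a %ₘ P ^ e, b %ₘ P ^ e, degree_modByMonic_lt _ h.monic_pow, degree_modByMonic_lt _ h.monic_pow,
      by rw [(h.pT_mod S a).1, (h.pT_mod S b).2]⟩
  · rintro ⟨a, b, -, -, rfl⟩
    have hI := S.invt_gspan x 0
    exact Submodule.add_mem _ (hI.pT S a (S.left_mem_gspan x 0)) (hI.pT S b (hI _ (S.left_mem_gspan x 0)))

theorem coeff_core {P : F[X]} {e : ℕ} {x : V} (h : S.IsCore P e x) {a b : F[X]}
    (hperp : ∀ w ∈ S.gspan x 0, S.B (S.pT a x + S.pT b (S.g x)) w = 0) : P ^ e ∣ a ∧ P ^ e ∣ b := by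
  have hI := S.invt_gspan x 0
  refine ⟨h.dvd_of_omega S fun κ => ?_, h.dvd_of_omega S fun κ => ?_⟩
  · have h1 := hperp _ (hI.pT S κ (hI _ (S.left_mem_gspan x 0)))
    rw [map_add, LinearMap.add_apply, omega_eq, ← pT_adj, ← pT_mul, pT_self, add_zero] at h1
    exact h1
  · have h1 := hperp _ (hI.pT S κ (S.left_mem_gspan x 0))
    rw [map_add, LinearMap.add_apply, ← pT_adj, ← pT_mul, pT_self, zero_add, S.symm, omega_eq, mul_comm] at h1
    exact h1

theorem nd_core {P : F[X]} {e : ℕ} {x : V} (h : S.IsCore P e x) : S.Nd (S.gspan x 0) := by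
  intro z hz hperp
  obtain ⟨a, b, ha, hb, rfl⟩ := (S.mem_core_span h).1 hz
  obtain ⟨h1, h2⟩ := S.coeff_core h hperp
  rw [eq_zero_of_dvd_of_degree_lt h1 ha, eq_zero_of_dvd_of_degree_lt h2 hb, pT_zero, pT_zero, add_zero]

theorem finrank_core {P : F[X]} {e : ℕ} {x : V} (h : S.IsCore P e x) :
    Module.finrank F (S.gspan x 0) = 2 * (e * P.natDegree) := by
  have hd : (P ^ e).natDegree = e * P.natDegree := h.monic.natDegree_pow e
  have hdeg : (P ^ e).degree = ((e * P.natDegree : ℕ) : WithBot ℕ) := by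
    rw [degree_eq_natDegree h.monic_pow.ne_zero, hd]
  let Φ : degreeLT F (e * P.natDegree) × degreeLT F (e * P.natDegree) →ₗ[F] V :=
    { toFun := fun p => S.pT p.1.1 x + S.pT p.2.1 (S.g x)
      map_add' := fun p q => by
        simp only [Prod.fst_add, Prod.snd_add, Submodule.coe_add, pT_add]; abel
      map_smul' := fun c p => by
        simp only [Prod.smul_fst, Prod.smul_snd, Submodule.coe_smul, RingHom.id_apply, smul_add]
        simp [Sys.pT, map_smul] }
  have hinj : Function.Injective Φ := by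
    rw [← LinearMap.ker_eq_bot, LinearMap.ker_eq_bot']
    rintro ⟨⟨a, ha⟩, b, hb⟩ hp
    have h0 : S.pT a x + S.pT b (S.g x) = 0 := hp
    obtain ⟨h1, h2⟩ := S.coeff_core h (a := a) (b := b) fun w _ => by rw [h0, map_zero, LinearMap.zero_apply]
    rw [mem_degreeLT, ← hdeg] at ha hb
    simp [eq_zero_of_dvd_of_degree_lt h1 ha, eq_zero_of_dvd_of_degree_lt h2 hb]
  have hrange : LinearMap.range Φ = S.gspan x 0 := by
    ext v
    rw [S.mem_core_span h, LinearMap.mem_range]
    constructor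
    · rintro ⟨⟨⟨a, ha⟩, b, hb⟩, rfl⟩
      rw [mem_degreeLT, ← hdeg] at ha hb
      exact ⟨a, b, ha, hb, rfl⟩
    · rintro ⟨a, b, ha, hb, rfl⟩
      rw [hdeg] at ha hb
      exact ⟨(⟨a, mem_degreeLT.2 ha⟩, ⟨b, mem_degreeLT.2 hb⟩), rfl⟩
  rw [← hrange, LinearMap.finrank_range_of_inj hinj, Module.finrank_prod,
    LinearEquiv.finrank_eq (degreeLTEquiv F _), Module.finrank_fin_fun, two_mul]

variable [Finite F]

/-- Every unit modulo a power of `P ≠ X` is a norm. -/
theorem exists_norm {P : F[X]} (hirr : Irreducible P) (hX : ¬ P ∣ X) (e : ℕ) {w : F[X]} (hw : ¬ P ∣ w) :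
    ∃ a b : F[X], P ^ e ∣ a * a + X * a * b + b * b + w := by
  haveI : Fact (Irreducible P) := ⟨hirr⟩
  haveI : Module.Finite F (AdjoinRoot P) := PowerBasis.finite (AdjoinRoot.powerBasis hirr.ne_zero)
  haveI : Finite (AdjoinRoot P) := Module.finite_of_finite F
  haveI : CharP (AdjoinRoot P) 2 := charP_of_injective_algebraMap (algebraMap F (AdjoinRoot P)).injective 2
  obtain ⟨r, hr⟩ := FiniteField.isSquare_of_char_two (ringChar.eq (AdjoinRoot P) 2) (AdjoinRoot.mk P w)
  obtain ⟨a, rfl⟩ := AdjoinRoot.mk_surjective r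
  rw [← map_mul, AdjoinRoot.mk_eq_mk] at hr
  have hR : ∀ p : F[X], -p = p := fun p => by rw [CharTwo.neg_eq]
  have ha : ¬ P ∣ a := fun h => hw (by
    have := dvd_sub (h.mul_right a) hr
    rw [show a * a - (w - a * a) = a * a + a * a - w by ring, CharTwo.add_self_eq_zero, zero_sub, hR] at this
    exact this)
  have hXa : IsCoprime (X * a) P :=
    ((hirr.coprime_iff_not_dvd).2 fun h => (hirr.prime.dvd_or_dvd h).elim hX ha).symm
  obtain ⟨u, v, huv⟩ := hXa
  have base : P ∣ a * a + w := by rwa [← hR (a * a), neg_add_eq_sub]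
  have key : ∀ i, ∃ b, P ∣ b ∧ P ^ (i + 1) ∣ a * a + X * a * b + b * b + w := by
    intro i
    induction i with
    | zero => exact ⟨0, dvd_zero _, by simpa using base⟩
    | succ i ih =>
      obtain ⟨b, hb, s, hs⟩ := ih
      refine ⟨b + P ^ (i + 1) * (u * s), dvd_add hb ((dvd_pow_self P (by omega)).mul_right _),
        ?_⟩
      have e1 : a * a + X * a * (b + P ^ (i + 1) * (u * s)) + (b + P ^ (i + 1) * (u * s)) * (b + P ^ (i + 1) * (u * s)) + w =
          P ^ (i + 1 + 1) * (s * v + P ^ i * (u * s) ^ 2) := by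
        have h2 : (2 : F[X]) = 0 := CharTwo.two_eq_zero
        linear_combination hs + P ^ (i + 1) * s * huv + (b * P ^ (i + 1) * (u * s) + P ^ (i + 1) * s -
          P ^ (i + 1 + 1) * s * v) * h2
      rw [e1]; exact dvd_mul_right _ _
  obtain ⟨b, -, hb⟩ := key e
  exact ⟨a, b, dvd_trans (pow_dvd_pow P (Nat.le_succ e)) hb⟩

/-- The functional of a block can be any functional of the same kind, after a change of the generator. -/
theorem retarget {P : F[X]} {e : ℕ} {x : V} (h : S.IsCore P e x) (l : F[X] → F)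
    (hadd : ∀ κ ν, l (κ + ν) = l κ + l ν) (hsmul : ∀ (c : F) κ, l (c • κ) = c * l κ)
    (hdvd : ∀ κ, P ^ e ∣ κ → l κ = 0) (htop : ∃ κ, l (κ * P ^ (e - 1)) ≠ 0) :
    ∃ x'', S.gspan x'' 0 = S.gspan x 0 ∧ S.IsCore P e x'' ∧ ∀ κ, S.omega x'' κ = l κ := by
  obtain ⟨n, hn⟩ : ∃ n, n = e * P.natDegree := ⟨_, rfl⟩
  have hdeg : (P ^ e).degree = (n : WithBot ℕ) := by
    rw [degree_eq_natDegree h.monic_pow.ne_zero, h.monic.natDegree_pow, hn]
  -- the multiplier
  let Φ : degreeLT F n →ₗ[F] Module.Dual F (degreeLT F n) :=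
    LinearMap.mk₂ F (fun w κ => S.omega x (κ.1 * w.1))
      (fun w w' κ => by simp only [Submodule.coe_add, mul_add, omega_add])
      (fun c w κ => by simp only [Submodule.coe_smul, mul_smul_comm, omega_smul, smul_eq_mul])
      (fun w κ κ' => by simp only [Submodule.coe_add, add_mul, omega_add])
      (fun c w κ => by simp only [Submodule.coe_smul, smul_mul_assoc, omega_smul, smul_eq_mul])
  have hmod : ∀ κ : F[X], l (κ %ₘ P ^ e) = l κ := fun κ => by
    conv_rhs => rw [← modByMonic_add_div κ (P ^ e), hadd, hdvd _ (dvd_mul_right _ _), add_zero]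
  have hmod' : ∀ (κ w : F[X]), S.omega x ((κ %ₘ P ^ e) * w) = S.omega x (κ * w) := fun κ w => by
    conv_rhs => rw [← modByMonic_add_div κ (P ^ e), add_mul, omega_add, h.omega_dvd S ((dvd_mul_right _ _).mul_right _),
      add_zero]
  have hlt : ∀ κ : F[X], κ %ₘ P ^ e ∈ degreeLT F n := fun κ => mem_degreeLT.2 (hdeg ▸ degree_modByMonic_lt _ h.monic_pow)
  have hinj : Function.Injective Φ := by
    rw [← LinearMap.ker_eq_bot, LinearMap.ker_eq_bot']
    rintro ⟨w, hw⟩ h0
    refine Subtype.ext (eq_zero_of_dvd_of_degree_lt (h.dvd_of_omega S (a := w) fun κ => ?_)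
      (hdeg ▸ mem_degreeLT.1 hw))
    rw [← hmod']
    exact congrArg (fun f : Module.Dual F (degreeLT F n) => f ⟨_, hlt κ⟩) h0
  haveI : Module.Finite F (degreeLT F n) := Module.Finite.equiv (degreeLTEquiv F n).symm
  let l' : Module.Dual F (degreeLT F n) :=
    { toFun := fun κ => l κ.1
      map_add' := fun κ κ' => by simp only [Submodule.coe_add, hadd]
      map_smul' := fun c κ => by simp only [Submodule.coe_smul, hsmul, RingHom.id_apply, smul_eq_mul] }
  obtain ⟨⟨w, hwd⟩, hw⟩ :=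
    (LinearMap.injective_iff_surjective_of_finrank_eq_finrank Subspace.dual_finrank_eq.symm).1 hinj l'
  have hw' : ∀ κ, S.omega x (κ * w) = l κ := fun κ => by
    rw [← hmod', ← hmod κ]
    exact congrArg (fun f : Module.Dual F (degreeLT F n) => f ⟨_, hlt κ⟩) hw
  have hwP : ¬ P ∣ w := fun ⟨s, hs⟩ => by
    obtain ⟨κ, hκ⟩ := htop
    refine hκ ?_
    have he : P ^ e = P ^ (e - 1) * P := by rw [← pow_succ, Nat.sub_add_cancel h.one_le]
    rw [← hw', h.omega_dvd S ⟨κ * s, by rw [he, hs]; ring⟩]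
  have hPX : ¬ P ∣ X := fun hd =>
    h.ne_X (eq_of_monic_of_associated h.monic monic_X (h.irr.associated_of_dvd irreducible_X hd))
  obtain ⟨a, b, hab⟩ := exists_norm h.irr hPX e hwP
  obtain ⟨x'', hx''⟩ : ∃ x'', x'' = S.pT a x + S.pT b (S.g x) := ⟨_, rfl⟩
  have hom : ∀ κ, S.omega x'' κ = l κ := fun κ => by
    rw [hx'', omega_comb, ← hw']
    have e1 : a * a + X * a * b + b * b = (a * a + X * a * b + b * b + w) + w := by
      linear_combination (-w) * (CharTwo.two_eq_zero : (2 : F[X]) = 0)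
    rw [e1, mul_add, omega_add, h.omega_dvd S (hab.mul_left κ), zero_add]
  have hI := S.invt_gspan x 0
  have hmem : x'' ∈ S.gspan x 0 := hx'' ▸ Submodule.add_mem _ (hI.pT S a (S.left_mem_gspan x 0))
    (hI.pT S b (hI _ (S.left_mem_gspan x 0)))
  have hkill : S.pT (P ^ e) x'' = 0 := by
    rw [hx'', pT_map_add, ← pT_mul, ← pT_mul, mul_comm _ a, mul_comm _ b, pT_mul, pT_mul, S.pT_g (P ^ e), h.kill,
      map_zero, pT_map_zero, pT_map_zero, add_zero]
  have hc : S.IsCore P e x'' := ⟨h.monic, h.irr, h.ne_X, h.one_le, hkill, by simpa only [hom] using htop⟩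
  refine ⟨x'', Submodule.eq_of_le_of_finrank_eq (S.gspan_le hI hmem (zero_mem _)) ?_, hc, hom⟩
  rw [S.finrank_core hc, S.finrank_core h]

variable {V' : Type w} [AddCommGroup V'] [Module F V'] [FiniteDimensional F V'] (S' : Sys F V')

/-- The value of `Q` on a block. -/
theorem q_omega {P : F[X]} {e : ℕ} {x : V} (h : S.IsCore P e x) {u v : F[X]} (huv : u * X + v * P ^ e = 1) :
    S.Q x = S.δ * S.omega x (u * u * X) := by
  obtain ⟨z, hz⟩ : ∃ z, z = S.pT u x := ⟨_, rfl⟩
  have hx : x = S.g z + S.g.symm z := by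
    rw [← T_apply, hz, ← pT_X, ← pT_mul, mul_comm X u]
    conv_lhs => rw [← S.pT_one x, ← huv, pT_add, S.pT_mul v, h.kill, pT_map_zero, add_zero]
  have hq : S.Q (S.g.symm z) = S.Q z := by
    conv_rhs => rw [← S.g.apply_symm_apply z, S.q_inv]
  conv_lhs => rw [hx, S.q_add, S.q_inv, hq, CharTwo.add_self_eq_zero, zero_add, S.symm, inv_symm, S.symm, g_g,
    map_add, LinearMap.add_apply, S.alt, add_zero]
  congr 1
  rw [hz, ← pT_X, S.pT_adj, ← pT_mul, ← pT_g, S.symm, omega_eq]
  congr 1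
  ring

/-- Blocks with the same polynomial and exponent have the same values after a change of generator. -/
theorem core_rigid (hδ : S.δ = S'.δ) {P : F[X]} {e : ℕ} {x : V} {x' : V'} (h : S.IsCore P e x) (h' : S'.IsCore P e x') :
    ∃ x'', S'.gspan x'' 0 = S'.gspan x' 0 ∧
      (∀ a b : ℕ, S.B ((S.g ^ a) x) ((S.g ^ b) x) = S'.B ((S'.g ^ a) x'') ((S'.g ^ b) x'')) ∧ S.Q x = S'.Q x'' := by
  obtain ⟨x'', hspan, hc, hom⟩ := S'.retarget h' (S.omega x) (S.omega_add x) (S.omega_smul x)
    (fun κ hd => h.omega_dvd S hd) h.top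
  refine ⟨x'', hspan, fun i j => ?_, ?_⟩
  · rw [gram_omega, gram_omega, hom, hom]
  · obtain ⟨u, v, huv⟩ := ((irreducible_X.coprime_iff_not_dvd).2 fun hd => h.ne_X
      ((eq_of_monic_of_associated monic_X h.monic (irreducible_X.associated_of_dvd h.irr hd)).symm) :
        IsCoprime (X : F[X]) P).pow_right (n := e)
    rw [q_omega S h huv, q_omega S' hc huv, hom, hδ]

/-- A block for a polynomial annihilating a non-zero vector. -/
theorem exists_core {U : Submodule F V} (hUi : S.Invt U) (hU : S.Nd U) {P : F[X]} (hm : P.Monic)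
    (hirr : Irreducible P) (hX : P ≠ X) {u : V} (hu : u ∈ U) (hu0 : u ≠ 0) (hPu : S.pT P u = 0) :
    ∃ e, ∃ x ∈ U, S.IsCore P e x := by
  classical
  obtain ⟨N, hN⟩ : ∃ N, N = Module.finrank F V := ⟨_, rfl⟩
  have hpow : ∀ k v, S.pT (P ^ k) v = ((aeval S.T P) ^ k) v := fun k v => by rw [pT, map_pow]
  have hNpos : 1 ≤ N := by
    rw [hN]
    exact Module.finrank_pos_iff_exists_ne_zero.2 ⟨u, hu0⟩
  have hex : ∃ k, ∀ v ∈ U, S.pT (P ^ N) v = 0 → S.pT (P ^ k) v = 0 := ⟨N, fun v _ hv => hv⟩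
  obtain ⟨e, he, hmin⟩ : ∃ e, (∀ v ∈ U, S.pT (P ^ N) v = 0 → S.pT (P ^ e) v = 0) ∧
      ∀ k, (∀ v ∈ U, S.pT (P ^ N) v = 0 → S.pT (P ^ k) v = 0) → e ≤ k :=
    ⟨Nat.find hex, Nat.find_spec hex, fun k hk => Nat.find_le hk⟩
  have he1 : 1 ≤ e := by
    by_contra hlt
    refine hu0 ?_
    have := he u hu (by rw [← Nat.sub_add_cancel hNpos, pow_succ, pT_mul, hPu, pT_map_zero])
    rwa [show e = 0 by omega, pow_zero, pT_one] at this
  obtain ⟨v, hv, hvN, hve⟩ : ∃ v ∈ U, S.pT (P ^ N) v = 0 ∧ S.pT (P ^ (e - 1)) v ≠ 0 := by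
    by_contra hcon
    push Not at hcon
    have := hmin (e - 1) hcon
    omega
  by_contra hno
  push Not at hno
  have hall : ∀ w ∈ U, S.pT (P ^ N) w = 0 → S.omega w (P ^ (e - 1)) = 0 := fun w hw hwN => by
    by_contra hne
    exact hno e w hw ⟨hm, hirr, hX, he1, he w hw hwN, 1, by rwa [one_mul]⟩
  have hbil : ∀ w ∈ U, S.pT (P ^ N) w = 0 → S.B (S.T (S.pT (P ^ (e - 1)) v)) w = 0 := fun w hw hwN => by
    have h1 := hall _ (U.add_mem hv hw) (by rw [pT_map_add, hvN, hwN, add_zero])
    simp only [omega, map_add, pT_map_add, LinearMap.add_apply] at h1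
    rw [show S.B (S.pT (P ^ (e - 1)) (S.g v)) v = 0 from hall v hv hvN,
      show S.B (S.pT (P ^ (e - 1)) (S.g w)) w = 0 from hall w hw hwN, zero_add, add_zero,
      S.pT_adj _ (S.g w) v, S.symm (S.g w) (S.pT _ v), ← inv_symm, pT_g] at h1
    rw [T_apply, map_add, LinearMap.add_apply, add_comm]
    linear_combination h1
  have hTz : S.T (S.pT (P ^ (e - 1)) v) = 0 := by
    have hTU : ∀ {z}, z ∈ U → S.T z ∈ U := fun {z} hz => U.add_mem (hUi z hz) (hUi.symm_mem S hz)
    refine hU _ (hTU (hUi.pT S _ hv)) fun w hw => ?_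
    -- splitting off the primary component
    let h : U →ₗ[F] U := (aeval S.T (P ^ N)).restrict fun z hz => hUi.pT S (P ^ N) hz
    have hker : ∀ z : U, h (h z) = 0 → h z = 0 := fun z hz => by
      have h2 : S.pT (P ^ N) (S.pT (P ^ N) z) = 0 := congrArg Subtype.val hz
      refine Subtype.ext (show S.pT (P ^ N) z = 0 from ?_)
      rw [← pT_mul, ← pow_add, hpow] at h2
      rw [hpow]
      have h3 := Module.End.ker_pow_le_ker_pow_finrank (aeval S.T P) (N + N) (LinearMap.mem_ker.2 h2)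
      rw [hN]
      exact LinearMap.mem_ker.1 h3
    have hinj : Function.Injective (h.restrict (p := LinearMap.range h) (q := LinearMap.range h)
        fun z _ => LinearMap.mem_range_self h z) := by
      rw [← LinearMap.ker_eq_bot, LinearMap.ker_eq_bot']
      rintro ⟨z, z', rfl⟩ hz
      exact Subtype.ext (hker z' (congrArg Subtype.val hz))
    obtain ⟨⟨z, z', rfl⟩, hz⟩ := (LinearMap.injective_iff_surjective.1 hinj) ⟨h ⟨w, hw⟩, LinearMap.mem_range_self h _⟩
    have hz' : h (h z') = h ⟨w, hw⟩ := congrArg Subtype.val hz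
    have hk : S.pT (P ^ N) (w - S.pT (P ^ N) z') = 0 := by
      have h4 : S.pT (P ^ N) (S.pT (P ^ N) z') = S.pT (P ^ N) w := congrArg Subtype.val hz'
      simp only [pT, map_sub] at h4 ⊢
      rw [h4, sub_self]
    have h5 := hbil _ (U.sub_mem hw (hUi.pT S _ z'.2)) hk
    rw [map_sub, ← S.pT_adj, ← pT_X, ← pT_mul, ← pT_mul, show P ^ N * (X * P ^ (e - 1)) = X * P ^ (e - 1) * P ^ N by ring,
      S.pT_mul _ (P ^ N), hvN, pT_map_zero, map_zero, LinearMap.zero_apply, sub_zero, pT_mul, pT_X] at h5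
    exact h5
  refine hve ?_
  obtain ⟨a, b, hab⟩ := ((irreducible_X.coprime_iff_not_dvd).2 fun hd => hX
    ((eq_of_monic_of_associated monic_X hm (irreducible_X.associated_of_dvd hirr hd)).symm) :
      IsCoprime (X : F[X]) P).pow_right (n := N)
  conv_lhs => rw [← S.pT_one (S.pT (P ^ (e - 1)) v), ← hab, pT_add, S.pT_mul a, pT_X, hTz, pT_map_zero, S.pT_mul b,
    ← S.pT_mul (P ^ N), mul_comm (P ^ N), S.pT_mul (P ^ (e - 1)), hvN, pT_map_zero, pT_map_zero, add_zero]

/-- Without such polynomials the isometry is unipotent. -/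
theorem nilpotent_of_no_core {U : Submodule F V} (hUi : S.Invt U)
    (hno : ∀ P : F[X], P.Monic → Irreducible P → P ≠ X → ∀ u ∈ U, S.pT P u = 0 → u = 0) :
    ∃ M, ∀ u ∈ U, (S.N ^ M) u = 0 := by
  classical
  have key : ∀ p : F[X], p ≠ 0 → ∀ u ∈ U, S.pT p u = 0 → ∃ k, S.pT (X ^ k) u = 0 := by
    intro p
    induction p using UniqueFactorizationMonoid.induction_on_prime with
    | h₁ => intro h; exact absurd rfl h
    | h₂ q hq =>
      intro _ u _ hu
      obtain ⟨r, hr⟩ := hq.exists_left_inv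
      exact ⟨0, by rw [pow_zero, ← hr, pT_mul, hu, pT_map_zero]⟩
    | h₃ p q hp hq ih =>
      intro _ u hu h
      have hirr : Irreducible q := hq.irreducible
      by_cases hqX : X ∣ q
      · obtain ⟨r, hr⟩ := (irreducible_X.associated_of_dvd hirr hqX).symm
        have h1 : S.pT p (S.T u) = 0 := by
          rw [← pT_X, ← pT_mul, ← hr, show p * (q * (r : F[X])) = r * (q * p) by ring, pT_mul, h, pT_map_zero]
        obtain ⟨k, hk⟩ := ih hp (S.T u) (U.add_mem (hUi u hu) (hUi.symm_mem S hu)) h1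
        exact ⟨k + 1, by rw [pow_succ, pT_mul, pT_X, hk]⟩
      · refine ih hp u hu (hno (q * C q.leadingCoeff⁻¹) (monic_mul_leadingCoeff_inv hq.ne_zero)
          ((associated_mul_unit_right q _ (isUnit_C.2 (isUnit_iff_ne_zero.2
            (inv_ne_zero (leadingCoeff_ne_zero.2 hq.ne_zero))))).irreducible hirr) (fun e => hqX ?_) _ (hUi.pT S p hu) ?_)
        · exact (dvd_of_eq e.symm).trans (associated_mul_unit_right q _ (isUnit_C.2 (isUnit_iff_ne_zero.2
            (inv_ne_zero (leadingCoeff_ne_zero.2 hq.ne_zero))))).dvd'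
        · rw [← pT_mul, show q * C q.leadingCoeff⁻¹ * p = C q.leadingCoeff⁻¹ * (q * p) by ring, pT_mul, h, pT_map_zero]
  obtain ⟨N, hN⟩ : ∃ N, N = Module.finrank F V := ⟨_, rfl⟩
  refine ⟨2 * N, fun u hu => ?_⟩
  obtain ⟨k, hk⟩ := key _ (LinearMap.charpoly_monic S.T).ne_zero u hu (by
    rw [pT, LinearMap.aeval_self_charpoly, LinearMap.zero_apply])
  have hT : (S.T ^ N) u = 0 := by
    simp only [pT, map_pow, aeval_X] at hk
    rw [hN]
    exact LinearMap.mem_ker.1 (Module.End.ker_pow_le_ker_pow_finrank S.T k (LinearMap.mem_ker.2 hk))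
  have h2 : S.N ^ 2 = (S.g : Module.End F V) * S.T := by
    ext z
    rw [sq, Module.End.mul_apply, Module.End.mul_apply, N_apply, N_apply, map_sub, LinearEquiv.coe_coe, T_apply,
      map_add, LinearEquiv.apply_symm_apply]
    have := S.add_self (S.g z)
    calc S.g (S.g z) - S.g z - (S.g z - z) = S.g (S.g z) + z - (S.g z + S.g z) := by abel
      _ = _ := by rw [this, sub_zero]
  have hcomm : Commute (S.g : Module.End F V) S.T := LinearMap.ext fun z => S.g_T z
  rw [pow_mul, h2, hcomm.mul_pow, Module.End.mul_apply, hT, map_zero]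

end Sys

end CfsgLib.CharTwoClasses
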