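import Cfsg.Agent.Lib.CharTwoClasses.Sign
import Cfsg.Agent.Lib.KnownSimple.GLClassBound.Basic

/-!
# The number of keys of blocks without the eigenvalue one

At most `q ^ m` of weight `m`; over two elements at most `9/16 * 2 ^ m` of either sign.
-/

set_option autoImplicit false
set_option linter.unusedSectionVars false
set_option linter.style.haveILetI false

namespace CfsgLib.CharTwoClasses

open Polynomial CfsgLib.GLClassBound CfsgLib.SSClasses

universe u

variable {F : Type u} [Field F]

/-- The keys of weight `m`. -/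
abbrev CoreSet (F : Type u) [Field F] (m : ℕ) : Type u :=
  {K : Multiset (F[X] × ℕ) // GoodCore K ∧ wtCore K = m}

/-- The tuple of a key. -/
noncomputable def coreTup (m : ℕ) (K : Multiset (F[X] × ℕ)) (j : Fin m) : F[X] :=
  haveI := Classical.decEq F
  ((K.filter fun k => k.2 = (j : ℕ) + 1).map Prod.fst).prod

theorem sum_filter_exp {α : Type*} [AddCommMonoid α] (m : ℕ) (f : F[X] × ℕ → α) :
    ∀ K : Multiset (F[X] × ℕ), (∀ k ∈ K, 1 ≤ k.2 ∧ k.2 ≤ m) →
      ∑ j : Fin m, ((K.filter fun k => k.2 = (j : ℕ) + 1).map f).sum = (K.map f).sum := by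
  intro K
  induction K using Multiset.induction with
  | empty => simp
  | cons k K ih =>
    intro h
    obtain ⟨h1, h2⟩ := h k (Multiset.mem_cons_self _ _)
    rw [Multiset.map_cons, Multiset.sum_cons, ← ih fun x hx => h x (Multiset.mem_cons_of_mem hx),
      Finset.sum_congr rfl (g := fun j : Fin m => (if j = (⟨k.2 - 1, by omega⟩ : Fin m) then f k else 0) +
        ((K.filter fun k => k.2 = (j : ℕ) + 1).map f).sum) fun j _ => ?_, Finset.sum_add_distrib, Finset.sum_ite_eq']
    · simp
    · by_cases hj : k.2 = (j : ℕ) + 1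
      · rw [Multiset.filter_cons_of_pos (a := k) _ hj, if_pos (Fin.ext (by simp only; omega)), Multiset.map_cons,
          Multiset.sum_cons]
      · rw [Multiset.filter_cons_of_neg (a := k) _ hj, if_neg (fun e => hj (by rw [e]; simp only; omega)), zero_add]

theorem exp_le {m : ℕ} {K : Multiset (F[X] × ℕ)} (hK : GoodCore K) (hm : wtCore K = m) :
    ∀ k ∈ K, 1 ≤ k.2 ∧ k.2 ≤ m := fun k hk =>
  ⟨(hK k hk).2.2.2, hm ▸ (Nat.le_mul_of_pos_right _ (hK k hk).2.1.natDegree_pos).trans
    (Multiset.le_sum_of_mem (Multiset.mem_map_of_mem (fun x : F[X] × ℕ => x.2 * x.1.natDegree) hk))⟩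

theorem coreTup_spec [CharP F 2] {m : ℕ} {K : Multiset (F[X] × ℕ)} (hK : GoodCore K) (hm : wtCore K = m) :
    (∀ j, (coreTup m K j).Monic ∧ (coreTup m K j).coeff 0 ≠ 0) ∧
      (∑ j : Fin m, ((j : ℕ) + 1) * (coreTup m K j).natDegree = m) ∧
      ∏ j : Fin m, coreTup m K j ^ ((j : ℕ) + 1) = corePoly K := by
  classical
  have hmon : ∀ j, ∀ P ∈ (K.filter fun k => k.2 = (j : ℕ) + 1).map Prod.fst, Polynomial.Monic P ∧ P.coeff 0 ≠ 0 := by
    intro j P hP
    obtain ⟨k, hk, rfl⟩ := Multiset.mem_map.1 hP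
    obtain ⟨h1, h2, h3, -⟩ := hK k (Multiset.mem_of_mem_filter hk)
    exact ⟨h1, coeff_zero_ne h1 h2 h3⟩
  refine ⟨fun j => ?_, ?_, ?_⟩
  · refine ⟨monic_multiset_prod_of_monic _ _ fun k hk => (hK k (Multiset.mem_of_mem_filter hk)).1, ?_⟩
    rw [coreTup, coeff_zero_multiset_prod]
    refine Multiset.prod_ne_zero fun h => ?_
    obtain ⟨P, hP, hP0⟩ := Multiset.mem_map.1 h
    exact (hmon j P hP).2 hP0
  · conv_rhs => rw [← hm, wtCore, ← sum_filter_exp m (fun k => k.2 * k.1.natDegree) K (exp_le hK hm)]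
    refine Finset.sum_congr rfl fun j _ => ?_
    rw [coreTup, natDegree_multiset_prod_of_monic _ (fun P hP => (hmon j P hP).1), Multiset.map_map,
      ← Multiset.sum_map_mul_left]
    exact congrArg Multiset.sum (Multiset.map_congr rfl fun k hk => by rw [(Multiset.mem_filter.1 hk).2]; rfl)
  · have h := sum_filter_exp (α := Additive F[X]) m (fun k => Additive.ofMul (k.1 ^ k.2)) K (exp_le hK hm)
    have e : ∀ M : Multiset (F[X] × ℕ), (M.map fun k => Additive.ofMul (k.1 ^ k.2)).sum =
        Additive.ofMul (M.map fun k => k.1 ^ k.2).prod := fun M => by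
      induction M using Multiset.induction with
      | empty => rfl
      | cons a M ih => simp only [Multiset.map_cons, Multiset.sum_cons, Multiset.prod_cons, ih, ofMul_mul]
    simp only [e] at h
    rw [← ofMul_prod] at h
    rw [corePoly, ← Additive.ofMul.injective h]
    refine Finset.prod_congr rfl fun j _ => ?_
    rw [coreTup, ← Multiset.prod_map_pow]
    exact congrArg Multiset.prod (Multiset.map_congr rfl fun k hk => by
      simp [(Multiset.mem_filter.1 hk).2])

variable [CharP F 2] [Fintype F]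

/-- The tuple of a key, as a tuple. -/
noncomputable def toTup {m : ℕ} (K : CoreSet F m) : Tup F m m :=
  ⟨coreTup m K.1, (coreTup_spec K.2.1 K.2.2).1, (coreTup_spec K.2.1 K.2.2).2.1⟩

theorem toTup_injective (m : ℕ) : Function.Injective (toTup (F := F) (m := m)) := by
  classical
  rintro ⟨K, hK, hm⟩ ⟨K', hK', hm'⟩ h
  have hj : ∀ j : Fin m, (K.filter fun k => k.2 = (j : ℕ) + 1).map Prod.fst =
      (K'.filter fun k => k.2 = (j : ℕ) + 1).map Prod.fst := fun j => by
    refine eq_of_prod_eq ?_ ?_ (congrFun (congrArg Subtype.val h) j)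
    all_goals
      intro a ha
      obtain ⟨k, hk, rfl⟩ := Multiset.mem_map.1 ha
    · exact ⟨(hK k (Multiset.mem_of_mem_filter hk)).1, (hK k (Multiset.mem_of_mem_filter hk)).2.1⟩
    · exact ⟨(hK' k (Multiset.mem_of_mem_filter hk)).1, (hK' k (Multiset.mem_of_mem_filter hk)).2.1⟩
  refine Subtype.ext (Multiset.ext.2 fun a => ?_)
  by_cases ha : 1 ≤ a.2 ∧ a.2 ≤ m
  · have key : ∀ L : Multiset (F[X] × ℕ),
        L.count a = ((L.filter fun k => k.2 = a.2).map Prod.fst).count a.1 := fun L => by
      rw [Multiset.count_map, Multiset.filter_filter, Multiset.count_eq_card_filter_eq]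
      refine congrArg Multiset.card (Multiset.filter_congr fun x _ => ?_)
      simp [Prod.ext_iff, eq_comm]
    have h1 := hj ⟨a.2 - 1, by omega⟩
    simp only [show a.2 - 1 + 1 = a.2 by omega] at h1
    rw [key, key, h1]
  · have h0 : ∀ L, GoodCore L → wtCore L = m → L.count a = 0 := fun L hL hLm =>
      Multiset.count_eq_zero.2 fun h => ha (exp_le hL hLm a h)
    rw [h0 K hK hm, h0 K' hK' hm']

theorem finite_coreSet (m : ℕ) : Finite (CoreSet F m) :=
  haveI := (card_tup F m m).1
  Finite.of_injective _ (toTup_injective m)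

theorem card_coreSet_le (m : ℕ) : Nat.card (CoreSet F m) ≤ Fintype.card F ^ m := by
  haveI := (card_tup F m m).1
  refine (Nat.card_le_card_of_injective _ (toTup_injective m)).trans ((card_tup F m m).2.trans ?_)
  have h := (count_bound (Fintype.card F - 1) m m).1
  rwa [Nat.sub_add_cancel Fintype.card_pos] at h

/-! ### Tuples whose parts have exponent at least two -/

/-- A lower count of tuples with exponents from two. -/
def restLow (u : ℕ) : ℕ → ℕ → ℕ
  | 0, w => if w = 0 then 1 else 0
  | k + 1, w => ∑ d ∈ Finset.range (w / (k + 2) + 1), monicCount u d * restLow u k (w - (k + 2) * d)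

theorem restLow_stable (u : ℕ) {w : ℕ} : ∀ {k : ℕ}, w ≤ k + 1 → restLow u (k + 1) w = restLow u k w := fun {k} h => by
  rw [restLow, Nat.div_eq_of_lt (show w < k + 2 by omega)]
  simp [monicCount]

/-- Tuples with exponents from two. -/
abbrev Rest (F : Type u) [Field F] (k w : ℕ) : Type u :=
  {h : Fin k → F[X] // (∀ j, (h j).Monic ∧ (h j).coeff 0 ≠ 0) ∧ ∑ j : Fin k, ((j : ℕ) + 2) * (h j).natDegree = w}

theorem finite_rest : ∀ k w, Finite (Rest F k w) := fun k w => by
  haveI : Finite (Tup F (k + 1) w) := (card_tup F (k + 1) w).1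
  refine Finite.of_injective (β := Tup F (k + 1) w) (fun h : Rest F k w => ⟨Fin.cons 1 h.1, fun j => ?_, ?_⟩)
    fun a b e => Subtype.ext ?_
  · refine Fin.cases ?_ (fun i => ?_) j
    · simp [monic_one]
    · simpa using h.2.1 i
  · rw [Fin.sum_univ_succ]
    simpa [Nat.add_assoc] using h.2.2
  · have := congrArg (fun t : Tup F (k + 1) w => Fin.tail t.1) e
    simpa using this

theorem card_rest_ge : ∀ k w, restLow (Fintype.card F - 1) k w ≤ Nat.card (Rest F k w)
  | 0, w => by
    rw [restLow]
    split_ifs with h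
    · haveI := finite_rest (F := F) 0 w
      haveI : Nonempty (Rest F 0 w) := ⟨⟨Fin.elim0, fun j => j.elim0, by simp [h]⟩⟩
      exact Nat.card_pos
    · exact Nat.zero_le _
  | k + 1, w => by
    haveI : ∀ d, Finite (PolySet F d (· ≠ 0)) := fun d => (card_monic F d).1
    haveI : ∀ v, Finite (Rest F k v) := fun v => finite_rest k v
    haveI := finite_rest (F := F) (k + 1) w
    let T := Σ d : Fin (w / (k + 2) + 1), PolySet F (d : ℕ) (· ≠ 0) × Rest F k (w - (k + 2) * (d : ℕ))
    have hle : ∀ d : Fin (w / (k + 2) + 1), (k + 2) * (d : ℕ) ≤ w := fun d => by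
      have h := (Nat.le_div_iff_mul_le (show 0 < k + 2 by omega)).1 (Nat.lt_succ_iff.1 d.2)
      rwa [mul_comm] at h
    let f : T → Rest F (k + 1) w := fun x => ⟨Fin.snoc x.2.2.1 x.2.1.1, fun j => by
      refine Fin.lastCases ?_ (fun i => ?_) j
      · simpa using ⟨x.2.1.2.1.1, x.2.1.2.2⟩
      · simpa using x.2.2.2.1 i, by
      rw [Fin.sum_univ_castSucc]
      simp only [Fin.snoc_castSucc, Fin.snoc_last, Fin.val_castSucc, Fin.val_last, x.2.1.2.1.2]
      rw [x.2.2.2.2, Nat.sub_add_cancel (hle x.1)]⟩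
    have hf : Function.Injective f := by
      rintro ⟨d, P, h⟩ ⟨d', P', h'⟩ e
      have e1 := congrArg (fun t : Rest F (k + 1) w => (t.1 (Fin.last k), Fin.init t.1)) e
      simp only [f, Fin.snoc_last, Fin.init_snoc, Prod.mk.injEq] at e1
      obtain rfl : d = d' := Fin.ext (by rw [← P.2.1.2, ← P'.2.1.2, e1.1])
      rw [show P = P' from Subtype.ext e1.1, show h = h' from Subtype.ext e1.2]
    refine le_trans ?_ (Nat.card_le_card_of_injective f hf)
    rw [Nat.card_sigma, restLow, ← Fin.sum_univ_eq_sum_range]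
    exact Finset.sum_le_sum fun d _ => by
      rw [Nat.card_prod, (card_monic F (d : ℕ)).2]; exact Nat.mul_le_mul_left _ (card_rest_ge k _)

/-- The tuples with first part of degree at least two. -/
def bigCount (u m : ℕ) : ℕ :=
  ∑ w ∈ Finset.range 7, if w + 2 ≤ m then monicCount u (m - w) * restLow u (m - 1) w else 0

theorem restLow_six (u : ℕ) {w : ℕ} (hw : w ≤ 6) : ∀ k, 6 ≤ k → restLow u k w = restLow u 6 w := fun k hk => by
  induction k, hk using Nat.le_induction with
  | base => rfl
  | succ k hk ih => rw [restLow_stable u (show w ≤ k + 1 by omega), ih]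

theorem numeric (m : ℕ) (hm : 1 ≤ m) : 8 * (2 * tupCount 1 m m) ≤ 9 * 2 ^ m + 8 * bigCount 1 m := by
  rcases Nat.lt_or_ge m 8 with h | h
  · interval_cases m <;> decide
  · have h1 := (count_bound 1 m m).1
    have e : bigCount 1 m = ∑ w ∈ Finset.range 7, 2 ^ (m - w - 1) * restLow 1 6 w := by
      refine Finset.sum_congr rfl fun w hw => ?_
      rw [Finset.mem_range] at hw
      rw [if_pos (by omega), restLow_six 1 (show w ≤ 6 by omega) (m - 1) (by omega)]
      obtain ⟨d, hd⟩ : ∃ d, m - w = d + 1 := ⟨m - w - 1, by omega⟩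
      rw [hd, monicCount, one_mul, Nat.add_sub_cancel]
    obtain ⟨d, rfl⟩ : ∃ d, m = d + 8 := ⟨m - 8, by omega⟩
    have hv : ∀ w, w < 7 → restLow 1 6 w = [1, 0, 1, 1, 3, 2, 8].getD w 0 := by decide
    rw [e]
    simp only [Finset.sum_range_succ, Finset.sum_range_zero, hv _ (by norm_num : 0 < 7), hv _ (by norm_num : 1 < 7),
      hv _ (by norm_num : 2 < 7), hv _ (by norm_num : 3 < 7), hv _ (by norm_num : 4 < 7), hv _ (by norm_num : 5 < 7),
      hv _ (by norm_num : 6 < 7)]
    simp only [show d + 8 - 0 - 1 = d + 7 by omega, show d + 8 - 1 - 1 = d + 6 by omega,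
      show d + 8 - 2 - 1 = d + 5 by omega, show d + 8 - 3 - 1 = d + 4 by omega, show d + 8 - 4 - 1 = d + 3 by omega,
      show d + 8 - 5 - 1 = d + 2 by omega, show d + 8 - 6 - 1 = d + 1 by omega, pow_add, List.getD_cons_zero,
      List.getD_cons_succ]
    simp only [pow_add] at h1
    norm_num at h1 ⊢
    omega

/-- The keys of a given sign over two elements. -/
theorem card_coreSet_sign (hq : Fintype.card F = 2) {m : ℕ} (hm : 1 ≤ m) (s : ℤ) :
    16 * Nat.card {K : CoreSet F m // psi (sigmaP (corePoly K.1)) = s} ≤ 9 * 2 ^ m := by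
  classical
  obtain ⟨ε, hε⟩ := exists_eps (F := F)
  obtain ⟨k, rfl⟩ : ∃ k, m = k + 1 := ⟨m - 1, by omega⟩
  haveI := (card_tup F (k + 1) (k + 1)).1
  haveI := Fintype.ofFinite (Tup F (k + 1) (k + 1))
  let sgn : Tup F (k + 1) (k + 1) → ℤ := fun h => psi (sigmaP (∏ j : Fin (k + 1), h.1 j ^ ((j : ℕ) + 1)))
  have hsgn : ∀ h, sgn h = 1 ∨ sgn h = -1 := fun h => psi_eq _
  let A := Finset.univ.filter fun h : Tup F (k + 1) (k + 1) => sgn h = s
  have hA : Nat.card {K : CoreSet F (k + 1) // psi (sigmaP (corePoly K.1)) = s} ≤ A.card := by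
    rw [show A.card = Nat.card {h : Tup F (k + 1) (k + 1) // sgn h = s} by
      rw [Nat.card_eq_fintype_card, Fintype.card_subtype]]
    refine Nat.card_le_card_of_injective (fun K => ⟨toTup K.1, ?_⟩) fun a b e =>
      Subtype.ext (toTup_injective _ (congrArg Subtype.val e))
    show psi (sigmaP (∏ j : Fin (k + 1), coreTup (k + 1) K.1.1 j ^ ((j : ℕ) + 1))) = s
    rw [(coreTup_spec K.1.2.1 K.1.2.2).2.2]
    exact K.2
  let big := Finset.univ.filter fun h : Tup F (k + 1) (k + 1) => 2 ≤ (h.1 0).natDegree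
  -- flipping the first part
  have hdeg : ∀ h : Tup F (k + 1) (k + 1), 2 ≤ (h.1 0).natDegree →
      (C (ε * (h.1 0).coeff 0) * X).degree < (h.1 0).degree := fun h h2 => by
    rw [degree_eq_natDegree (h.2.1 0).1.ne_zero]
    exact (degree_C_mul_X_le _).trans_lt (by exact_mod_cast (show 1 < (h.1 0).natDegree by omega))
  have hnd : ∀ h : Tup F (k + 1) (k + 1), 2 ≤ (h.1 0).natDegree →
      (h.1 0 + C (ε * (h.1 0).coeff 0) * X).natDegree = (h.1 0).natDegree := fun h h2 =>
    natDegree_eq_of_degree_eq (degree_add_eq_left_of_degree_lt (hdeg h h2))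
  have h0c : ∀ h : Tup F (k + 1) (k + 1),
      (h.1 0 + C (ε * (h.1 0).coeff 0) * X).coeff 0 = (h.1 0).coeff 0 := fun h => by
    rw [coeff_add, coeff_C_mul, coeff_X_zero, mul_zero, add_zero]
  let flip : ∀ h : Tup F (k + 1) (k + 1), 2 ≤ (h.1 0).natDegree → Tup F (k + 1) (k + 1) := fun h h2 =>
    ⟨Function.update h.1 0 (h.1 0 + C (ε * (h.1 0).coeff 0) * X), fun j => by
      rcases eq_or_ne j 0 with rfl | hj
      · rw [Function.update_self]
        exact ⟨(h.2.1 0).1.add_of_left (hdeg h h2), (h0c h).symm ▸ (h.2.1 0).2⟩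
      · rw [Function.update_of_ne hj]; exact h.2.1 j, by
      refine Eq.trans (Finset.sum_congr rfl fun j _ => ?_) h.2.2
      rcases eq_or_ne j 0 with rfl | hj
      · rw [Function.update_self, hnd h h2]
      · rw [Function.update_of_ne hj]⟩
  have hflip : ∀ h h2, sgn (flip h h2) = -sgn h := fun h h2 => by
    have hne : ∀ (f : Fin (k + 1) → F[X]), (∀ j, (f j).coeff 0 ≠ 0) →
        sigmaP (∏ j : Fin (k + 1), f j ^ ((j : ℕ) + 1)) = sigmaP (f 0) + sigmaP (∏ j : Fin k, f j.succ ^ ((j : ℕ) + 2)) := by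
      intro f hf
      have e0 : ∀ (s : Finset (Fin k)), (∏ j ∈ s, f j.succ ^ ((j : ℕ) + 2)).coeff 0 ≠ 0 := fun s => by
        rw [coeff_zero_eq_eval_zero, eval_prod, Finset.prod_ne_zero_iff]
        intro j _
        rw [eval_pow, ← coeff_zero_eq_eval_zero]
        exact pow_ne_zero _ (hf _)
      rw [Fin.prod_univ_succ]
      simp only [Fin.val_zero, zero_add, pow_one, Fin.val_succ]
      exact sigmaP_mul (hf 0) (e0 _)
    have e1 := hne (flip h h2).1 fun j => ((flip h h2).2.1 j).2
    have e2 := hne h.1 fun j => (h.2.1 j).2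
    simp only [sgn, e1, e2]
    have e3 : sigmaP ((flip h h2).1 0) = sigmaP (h.1 0) + ε := by
      simp only [flip, Function.update_self, sigmaP, coeff_add, coeff_C_mul, coeff_X_one, coeff_X_zero, mul_zero,
        add_zero, mul_one]
      rw [add_div, mul_div_cancel_right₀ _ (h.2.1 0).2]
    have e4 : ∀ j : Fin k, (flip h h2).1 j.succ = h.1 j.succ := fun j => by
      simp only [flip]
      rw [Function.update_of_ne (Fin.succ_ne_zero j)]
    simp only [e3, e4, psi_add hε, psi_eps hε]
    ring
  have hhalf : (A ∩ big).card ≤ (big \ A).card := by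
    refine Finset.card_le_card_of_injOn (fun h => if h2 : 2 ≤ (h.1 0).natDegree then flip h h2 else h) ?_ ?_
    · intro h hh
      simp only [A, big, Finset.coe_inter, Finset.coe_filter, Finset.mem_univ, true_and, Set.mem_inter_iff,
        Set.mem_ofPred_eq] at hh
      simp only [A, big, Finset.coe_sdiff, Finset.coe_filter, Finset.mem_univ, true_and, Set.mem_sdiff,
        Set.mem_ofPred_eq, dif_pos hh.2]
      refine ⟨?_, fun he => ?_⟩
      · show 2 ≤ ((flip h hh.2).1 0).natDegree
        simp only [flip, Function.update_self, hnd h hh.2]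
        exact hh.2
      · rw [hflip _ hh.2, hh.1] at he
        rcases hsgn h with h1 | h1 <;> rw [hh.1] at h1 <;> omega
    · intro a ha b hb e
      simp only [A, big, Finset.coe_inter, Finset.coe_filter, Finset.mem_univ, true_and, Set.mem_inter_iff,
        Set.mem_ofPred_eq] at ha hb
      simp only [dif_pos ha.2, dif_pos hb.2] at e
      have h' := congrArg Subtype.val e
      simp only [flip] at h'
      refine Subtype.ext (funext fun j => ?_)
      rcases eq_or_ne j 0 with rfl | hj
      · have h0 := congrFun h' 0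
        rw [Function.update_self, Function.update_self] at h0
        have hc := congrArg (fun p : F[X] => p.coeff 0) h0
        simp only [h0c] at hc
        rw [hc] at h0
        exact add_right_cancel h0
      · have h0 := congrFun h' j
        rwa [Function.update_of_ne hj, Function.update_of_ne hj] at h0
  -- the big part is large
  have hbig : bigCount 1 (k + 1) ≤ big.card := by
    haveI : ∀ d, Finite (PolySet F d (· ≠ 0)) := fun d => (card_monic F d).1
    haveI : ∀ v, Finite (Rest F k v) := fun v => finite_rest k v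
    let T := Σ w : {w : Fin 7 // (w : ℕ) + 2 ≤ k + 1}, PolySet F (k + 1 - (w.1 : ℕ)) (· ≠ 0) × Rest F k (w.1 : ℕ)
    let f : T → {h : Tup F (k + 1) (k + 1) // 2 ≤ (h.1 0).natDegree} := fun x =>
      ⟨⟨Fin.cons x.2.1.1 x.2.2.1, fun j => by
        refine Fin.cases ?_ (fun i => ?_) j
        · simpa using ⟨x.2.1.2.1.1, x.2.1.2.2⟩
        · simpa using x.2.2.2.1 i, by
        rw [Fin.sum_univ_succ]
        simp only [Fin.cons_zero, Fin.cons_succ, Fin.val_zero, zero_add, one_mul, Fin.val_succ]
        rw [x.2.1.2.1.2, x.2.2.2.2]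
        have := x.1.2
        omega⟩, by
        show 2 ≤ (Fin.cons (α := fun _ => F[X]) x.2.1.1 x.2.2.1 0).natDegree
        rw [Fin.cons_zero, x.2.1.2.1.2]
        have := x.1.2
        omega⟩
    have hf : Function.Injective f := by
      rintro ⟨w, P, h⟩ ⟨w', P', h'⟩ e
      have e1 := congrArg (fun t : {h : Tup F (k + 1) (k + 1) // 2 ≤ (h.1 0).natDegree} =>
        (t.1.1 0, Fin.tail t.1.1)) e
      simp only [f, Fin.cons_zero, Fin.tail_cons, Prod.mk.injEq] at e1
      obtain rfl : w = w' := by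
        refine Subtype.ext (Fin.ext ?_)
        have := P.2.1.2; have := P'.2.1.2
        have := w.2; have := w'.2
        rw [e1.1] at *
        omega
      rw [show P = P' from Subtype.ext e1.1, show h = h' from Subtype.ext e1.2]
    rw [show big.card = Nat.card {h : Tup F (k + 1) (k + 1) // 2 ≤ (h.1 0).natDegree} by
      rw [Nat.card_eq_fintype_card, Fintype.card_subtype]]
    refine le_trans ?_ (Nat.card_le_card_of_injective f hf)
    rw [Nat.card_sigma, bigCount, ← Finset.sum_filter, ← Finset.sum_subtype (Finset.univ.filter fun w : Fin 7 => (w : ℕ) + 2 ≤ k + 1)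
      (fun w => by simp) (fun w : Fin 7 => Nat.card (PolySet F (k + 1 - (w : ℕ)) (· ≠ 0) × Rest F k (w : ℕ))),
      Finset.sum_filter, Finset.sum_filter, ← Fin.sum_univ_eq_sum_range]
    refine Finset.sum_le_sum fun w _ => ?_
    split_ifs
    · rw [Nat.card_prod, (card_monic F _).2, hq]
      refine Nat.mul_le_mul_left _ ?_
      have := card_rest_ge (F := F) k (w : ℕ)
      rwa [hq] at this
    · exact le_refl _
  have htot : Fintype.card (Tup F (k + 1) (k + 1)) ≤ tupCount 1 (k + 1) (k + 1) := by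
    have := (card_tup F (k + 1) (k + 1)).2
    rwa [hq, Nat.card_eq_fintype_card] at this
  have hnum := numeric (k + 1) hm
  have e1 := Finset.card_sdiff_add_card_inter big A
  have e2 : (A \ big).card + (A ∩ big).card = A.card := Finset.card_sdiff_add_card_inter A big
  have e3 : (A \ big).card ≤ Fintype.card (Tup F (k + 1) (k + 1)) - big.card := by
    rw [← Finset.card_univ, ← Finset.card_sdiff_of_subset (Finset.subset_univ big)]
    exact Finset.card_le_card (Finset.sdiff_subset_sdiff (Finset.subset_univ A) le_rfl)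
  have e4 : big.card ≤ Fintype.card (Tup F (k + 1) (k + 1)) := Finset.card_le_univ big
  rw [Finset.inter_comm] at e1
  omega

end CfsgLib.CharTwoClasses
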