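import Cfsg.Agent.Lib.CharTwoClasses.Core

/-!
# Decompositions of isometries and their keys

Isometries with the same key are conjugate.
-/

set_option autoImplicit false
set_option linter.unusedSectionVars false
set_option maxHeartbeats 400000

namespace CfsgLib.CharTwoClasses

open Polynomial

universe u v w

/-- A block without the eigenvalue one. -/
structure CBlk (F : Type u) [Semiring F] (V : Type v) where
  P : F[X]
  e : ℕ
  x : V

/-- The key of a block without the eigenvalue one. -/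
def CBlk.key {F : Type u} [Semiring F] {V : Type v} (c : CBlk F V) : F[X] × ℕ := (c.P, c.e)

/-- The multiset of the keys of blocks without the eigenvalue one. -/
noncomputable def coreKey {F : Type u} [Semiring F] {V : Type v} (C : List (CBlk F V)) : Multiset (F[X] × ℕ) :=
  ↑(C.map CBlk.key)

/-- Half the dimension of the blocks with given keys. -/
noncomputable def wtCore {F : Type u} [Semiring F] (K : Multiset (F[X] × ℕ)) : ℕ :=
  (K.map fun k => k.2 * k.1.natDegree).sum

/-- A key of blocks without the eigenvalue one. -/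
def GoodCore {F : Type u} [Semiring F] (K : Multiset (F[X] × ℕ)) : Prop :=
  ∀ k ∈ K, k.1.Monic ∧ Irreducible k.1 ∧ k.1 ≠ X ∧ 1 ≤ k.2

variable {F : Type u} [Field F] [CharP F 2]

namespace Sys

variable {V : Type v} [AddCommGroup V] [Module F V] (S : Sys F V)

/-- The generators of the blocks. -/
def gens (C : List (CBlk F V)) (L : List (UBlk V)) : List (V × V) :=
  C.map (fun c => (c.x, (0 : V))) ++ L.map fun b => (b.x, b.y)

/-- The span of one pair of generators. -/
def pspan (p : V × V) : Submodule F V := S.gspan p.1 p.2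

/-- Orthogonality of two pairs. -/
def POrth (p p' : V × V) : Prop := ∀ v ∈ S.pspan p, ∀ w ∈ S.pspan p', S.B v w = 0

theorem porth_symm {p p' : V × V} (h : S.POrth p p') : S.POrth p' p := fun v hv w hw => by
  rw [S.symm]; exact h w hw v hv

/-- A decomposition into blocks. -/
structure Dec (ε : F) (U : Submodule F V) (C : List (CBlk F V)) (L : List (UBlk V)) : Prop where
  core : ∀ c ∈ C, S.IsCore c.P c.e c.x
  unip : ∀ b ∈ L, S.URealises ε b
  mem : ∀ p ∈ gens C L, p.1 ∈ U ∧ p.2 ∈ U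
  orth : (gens C L).Pairwise S.POrth
  cover : U ≤ (gens C L).foldr (fun p W => S.pspan p ⊔ W) ⊥

theorem foldr_gens (L : List (UBlk V)) : (gens ([] : List (CBlk F V)) L).foldr (fun p W => S.pspan p ⊔ W) ⊥ =
    L.foldr (fun b W => S.bspan b ⊔ W) ⊥ := by
  rw [gens, List.map_nil, List.nil_append, List.foldr_map]
  rfl

variable [FiniteDimensional F V] [Finite F]

theorem exists_dec {ε : F} (hε : IsEps ε) : ∀ U : Submodule F V, S.Invt U → S.Nd U →
    ∃ C L, S.Dec ε U C L ∧ Valid S.δ (labsOf L) ∧ GoodCore (coreKey C) ∧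
      2 * (wtCore (coreKey C) + wtSum (labsOf L)) = Module.finrank F U := by
  intro U
  induction hn : Module.finrank F U using Nat.strong_induction_on generalizing U with
  | _ n ih =>
  subst hn
  intro hUi hU
  by_cases hP : ∃ P : F[X], P.Monic ∧ Irreducible P ∧ P ≠ X ∧ ∃ u ∈ U, u ≠ 0 ∧ S.pT P u = 0
  swap
  · push Not at hP
    obtain ⟨M, hM⟩ := S.nilpotent_of_no_core hUi fun P h1 h2 h3 u hu h4 => by
      by_contra hne
      exact hP P h1 h2 h3 u hu hne h4
    obtain ⟨L, hL, hV, hw, -⟩ := S.exists_udec hε U hUi hU ⟨M, hM⟩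
    refine ⟨[], L, ⟨by simp, hL.real, fun p hp => ?_, ?_, ?_⟩, hV, by simp [GoodCore, coreKey], by
      simpa [coreKey, wtCore] using hw⟩
    · simp only [gens, List.map_nil, List.nil_append, List.mem_map] at hp
      obtain ⟨b, hb, rfl⟩ := hp
      exact hL.mem b hb
    · simp only [gens, List.map_nil, List.nil_append]
      exact List.pairwise_map.2 hL.orth
    · rw [foldr_gens]; exact hL.cover
  obtain ⟨P, h1, h2, h3, u, hu, hu0, hPu⟩ := hP
  obtain ⟨e, x, hx, hc⟩ := S.exists_core hUi hU h1 h2 h3 hu hu0 hPu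
  have hWi := S.invt_gspan x 0
  have hWU : S.gspan x 0 ≤ U := S.gspan_le hUi hx U.zero_mem
  have hfr := S.finrank_core hc
  have hpos : 1 ≤ e * P.natDegree := Nat.mul_pos hc.one_le h2.natDegree_pos
  have hne : S.gspan x 0 ≠ ⊥ := fun h => by rw [h, finrank_bot] at hfr; omega
  obtain ⟨-, hsup, hU'i, hU', hlt⟩ := S.complement hUi hU hWi (S.nd_core hc) hWU
  obtain ⟨C, L, hD, hV, hG, hw⟩ := ih _ (hlt hne) _ rfl hU'i hU'
  refine ⟨⟨P, e, x⟩ :: C, L, ⟨?_, hD.unip, ?_, ?_, ?_⟩, hV, ?_, ?_⟩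
  · intro c hc'
    rcases List.mem_cons.1 hc' with rfl | hc'
    · exact hc
    · exact hD.core c hc'
  · intro p hp
    simp only [gens, List.map_cons, List.cons_append] at hp
    rcases List.mem_cons.1 hp with rfl | hp
    · exact ⟨hx, U.zero_mem⟩
    · exact ⟨(hD.mem p hp).1.1, (hD.mem p hp).2.1⟩
  · simp only [gens, List.map_cons, List.cons_append]
    refine List.pairwise_cons.2 ⟨fun p hp v hv w hw => ?_, hD.orth⟩
    rw [S.symm]
    exact (S.gspan_le hU'i (hD.mem p hp).1 (hD.mem p hp).2 hw).2 v hv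
  · simp only [gens, List.map_cons, List.cons_append, List.foldr_cons]
    exact hsup.ge.trans (sup_le_sup_left hD.cover _)
  · intro k hk
    rw [coreKey, List.map_cons, ← Multiset.cons_coe] at hk
    rcases Multiset.mem_cons.1 hk with rfl | hk
    · exact ⟨h1, h2, h3, hc.one_le⟩
    · exact hG k hk
  · have hdisj : S.gspan x 0 ⊓ (U ⊓ S.orth (S.gspan x 0)) = ⊥ := (Submodule.eq_bot_iff _).2 fun z hz =>
      S.nd_core hc z hz.1 fun w hw => hz.2.2 w hw
    have := Submodule.finrank_sup_add_finrank_inf_eq (S.gspan x 0) (U ⊓ S.orth (S.gspan x 0))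
    rw [hsup, hdisj, finrank_bot] at this
    simp only [coreKey, List.map_cons, ← Multiset.cons_coe, wtCore, Multiset.map_cons, Multiset.sum_cons, CBlk.key] at hw ⊢
    omega

variable {V' : Type w} [AddCommGroup V'] [Module F V'] [FiniteDimensional F V'] (S' : Sys F V')

/-- Two pairs of generators with the same values. -/
structure Same (p : V × V) (p' : V' × V') : Prop where
  bxx : ∀ a b : ℕ, S.B ((S.g ^ a) p.1) ((S.g ^ b) p.1) = S'.B ((S'.g ^ a) p'.1) ((S'.g ^ b) p'.1)
  bxy : ∀ a b : ℕ, S.B ((S.g ^ a) p.1) ((S.g ^ b) p.2) = S'.B ((S'.g ^ a) p'.1) ((S'.g ^ b) p'.2)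
  byy : ∀ a b : ℕ, S.B ((S.g ^ a) p.2) ((S.g ^ b) p.2) = S'.B ((S'.g ^ a) p'.2) ((S'.g ^ b) p'.2)
  qx : S.Q p.1 = S'.Q p'.1
  qy : S.Q p.2 = S'.Q p'.2

theorem ublk_rigid (hδ : S.δ = S'.δ) {ε : F} {b : UBlk V} {b' : UBlk V'} (h : S.URealises ε b) (h' : S'.URealises ε b')
    (hl : b.lab = b'.lab) : ∃ p', S'.pspan p' = S'.pspan (b'.x, b'.y) ∧ Same S S' (b.x, b.y) p' := by
  cases hp : b.lab.pr
  · obtain ⟨hc, hy⟩ := h.1 hp
    obtain ⟨hc', hy'⟩ := h'.1 (hl ▸ hp)
    rw [← hl] at hc'
    obtain ⟨x'', hs, hM, hq⟩ := S.cyc_rigid S' hδ hc hc'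
    refine ⟨(x'', 0), by rw [hy']; exact hs, ⟨S.gram_of_M S' hM, fun a c => ?_, fun a c => ?_, hq, ?_⟩⟩
    · simp [hy]
    · simp [hy]
    · simp [hy, S.q_zero, S'.q_zero]
  · have hP := h.2 hp
    have hP' := h'.2 (hl ▸ hp)
    rw [← hl] at hP'
    obtain ⟨x'', y'', hs, hxx, hxy, hyy, hqx, hqy⟩ := S.pair_rigid S' hδ hP hP'
    exact ⟨(x'', y''), hs, S.gram_of_M S' hxx, S.gram_of_M S' hxy, S.gram_of_M S' hyy, hqx, hqy⟩

theorem cblk_rigid (hδ : S.δ = S'.δ) {c : CBlk F V} {c' : CBlk F V'} (h : S.IsCore c.P c.e c.x)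
    (h' : S'.IsCore c'.P c'.e c'.x) (hl : c.key = c'.key) :
    ∃ p', S'.pspan p' = S'.pspan (c'.x, 0) ∧ Same S S' (c.x, 0) p' := by
  simp only [CBlk.key, Prod.mk.injEq] at hl
  rw [← hl.1, ← hl.2] at h'
  obtain ⟨x'', hs, hB, hq⟩ := S.core_rigid S' hδ h h'
  exact ⟨(x'', 0), hs, hB, fun a b => by simp, fun a b => by simp, hq, by simp [S.q_zero, S'.q_zero]⟩

/-- The members of the family spanned by pairs. -/
def fam (P : List (V × V)) (i : Fin P.length × Bool × ℕ) : V :=
  (S.g ^ i.2.2) (bif i.2.1 then (P.get i.1).2 else (P.get i.1).1)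

theorem fam_span {P : List (V × V)} (hcov : ⊤ ≤ P.foldr (fun p W => S.pspan p ⊔ W) ⊥) :
    Submodule.span F (Set.range (S.fam P)) = ⊤ := by
  refine top_le_iff.1 (hcov.trans ?_)
  have h : ∀ L : List (V × V), (∀ p ∈ L, p ∈ P) →
      L.foldr (fun p W => S.pspan p ⊔ W) ⊥ ≤ Submodule.span F (Set.range (S.fam P)) := by
    intro L hL
    induction L with
    | nil => simp
    | cons p L ih =>
      rw [List.foldr_cons]
      refine sup_le ?_ (ih fun q hq => hL q (List.mem_cons_of_mem _ hq))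
      obtain ⟨i, hi⟩ := List.get_of_mem (hL p (List.mem_cons_self ..))
      refine sup_le (Submodule.span_le.2 ?_) (Submodule.span_le.2 ?_) <;> rintro _ ⟨a, rfl⟩
      · exact Submodule.subset_span ⟨(i, false, a), by simp [fam, ← hi]⟩
      · exact Submodule.subset_span ⟨(i, true, a), by simp [fam, ← hi]⟩
  exact h P fun p hp => hp

theorem porth_get {P : List (V × V)} (hP : P.Pairwise S.POrth) {i j : Fin P.length} (hij : i ≠ j) :
    S.POrth (P.get i) (P.get j) := by
  rcases lt_or_gt_of_ne hij with hlt | hgt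
  · exact List.pairwise_iff_get.1 hP i j hlt
  · exact S.porth_symm (List.pairwise_iff_get.1 hP j i hgt)

theorem fam_mem (P : List (V × V)) (i : Fin P.length × Bool × ℕ) : S.fam P i ∈ S.pspan (P.get i.1) := by
  obtain ⟨i, s, a⟩ := i
  refine (S.invt_gspan (P.get i).1 (P.get i).2).pow S a ?_
  cases s
  · exact S.left_mem_gspan _ _
  · exact S.right_mem_gspan _ _

theorem q_pow : ∀ (a : ℕ) (v : V), S.Q ((S.g ^ a) v) = S.Q v
  | 0, v => by simp
  | a + 1, v => by rw [pow_succ', LinearEquiv.mul_apply, S.q_inv, q_pow a v]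

theorem exists_isometry_pairs (hδ : S.δ = S'.δ) {P : List (V × V)} {P' : List (V' × V')}
    (hO : P.Pairwise S.POrth) (hO' : P'.Pairwise S'.POrth)
    (hcov : ⊤ ≤ P.foldr (fun p W => S.pspan p ⊔ W) ⊥) (hcov' : ⊤ ≤ P'.foldr (fun p W => S'.pspan p ⊔ W) ⊥)
    (h : List.Forall₂ (Same S S') P P') :
    ∃ φ : V ≃ₗ[F] V', (∀ v w, S'.B (φ v) (φ w) = S.B v w) ∧ (∀ v, S'.Q (φ v) = S.Q v) ∧
      ∀ v, φ (S.g v) = S'.g (φ v) := by
  have hlen : P.length = P'.length := h.length_eq
  have hget : ∀ i : Fin P.length, Same S S' (P.get i) (P'.get (i.cast hlen)) := fun i =>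
    h.get i.2 (i.cast hlen).2
  let e' : Fin P.length × Bool × ℕ → V' := fun i => S'.fam P' (i.1.cast hlen, i.2)
  refine exists_isometry S S' (S.fam P) e' (fun i => (i.1, i.2.1, i.2.2 + 1)) (fun i => ?_) (fun i => ?_)
    (S.fam_span hcov) ?_ ?_ ?_ hδ
  · simp only [fam]
    rw [pow_succ', LinearEquiv.mul_apply]
  · simp only [e', fam]
    rw [pow_succ', LinearEquiv.mul_apply]
  · have hr : Set.range e' = Set.range (S'.fam P') := by
      ext v
      constructor
      · rintro ⟨i, rfl⟩; exact ⟨_, rfl⟩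
      · rintro ⟨i, rfl⟩; exact ⟨(i.1.cast hlen.symm, i.2), by simp [e']⟩
    rw [hr, S'.fam_span hcov']
  · rintro ⟨i, s, a⟩ ⟨j, t, b⟩
    by_cases hij : i = j
    · subst hij
      cases s <;> cases t <;> simp only [fam, e', cond_true, cond_false]
      · exact (hget i).bxx a b
      · exact (hget i).bxy a b
      · rw [S.symm, S'.symm]; exact (hget i).bxy b a
      · exact (hget i).byy a b
    · have hij' : i.cast hlen ≠ j.cast hlen := fun he => hij (Fin.ext (by simpa using congrArg Fin.val he))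
      exact (S.porth_get hO hij _ (S.fam_mem P (i, s, a)) _ (S.fam_mem P (j, t, b))).trans
        (S'.porth_get hO' hij' _ (S'.fam_mem P' (i.cast hlen, s, a)) _ (S'.fam_mem P' (j.cast hlen, t, b))).symm
  · rintro ⟨i, s, a⟩
    simp only [fam, e', q_pow]
    cases s
    · exact (hget i).qx
    · exact (hget i).qy

theorem forall₂_of_perm {α β γ : Type*} {f : α → γ} {f' : β → γ} : ∀ (l : List α) (l' : List β),
    (l.map f).Perm (l'.map f') → ∃ l'', l''.Perm l' ∧ List.Forall₂ (fun a b => f a = f' b) l l''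
  | [], l', h => ⟨l', List.Perm.refl _, by
      have := h.length_eq
      simp only [List.map_nil, List.length_nil, List.length_map] at this
      rw [List.length_eq_zero_iff.1 this.symm]; exact List.Forall₂.nil⟩
  | a :: l, l', h => by
    classical
    obtain ⟨b, hb, hab⟩ := List.mem_map.1 (h.subset (List.mem_map_of_mem (List.mem_cons_self ..)))
    have h1 := List.perm_cons_erase hb
    have h2 : (l.map f).Perm ((l'.erase b).map f') := by
      have h3 := h.trans (h1.map f')
      rw [List.map_cons, List.map_cons, hab] at h3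
      exact h3.cons_inv
    obtain ⟨l'', hp, hf⟩ := forall₂_of_perm l (l'.erase b) h2
    exact ⟨b :: l'', (hp.cons b).trans h1.symm, List.Forall₂.cons hab.symm hf⟩

theorem foldr_perm {P P' : List (V × V)} (h : P.Perm P') :
    P.foldr (fun p W => S.pspan p ⊔ W) ⊥ = P'.foldr (fun p W => S.pspan p ⊔ W) ⊥ := by
  induction h with
  | nil => rfl
  | cons x _ ih => rw [List.foldr_cons, List.foldr_cons, ih]
  | swap x y l => simp only [List.foldr_cons]; exact sup_left_comm ..
  | trans _ _ ih1 ih2 => exact ih1.trans ih2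

theorem forall₂_mem {α β : Type*} {R R' : α → β → Prop} {l : List α} {l' : List β} (h : List.Forall₂ R l l')
    (himp : ∀ a ∈ l, ∀ b ∈ l', R a b → R' a b) : List.Forall₂ R' l l' := by
  induction h with
  | nil => exact List.Forall₂.nil
  | cons hab _ ih =>
    exact List.Forall₂.cons (himp _ (List.mem_cons_self ..) _ (List.mem_cons_self ..) hab)
      (ih fun a ha b hb => himp a (List.mem_cons_of_mem _ ha) b (List.mem_cons_of_mem _ hb))

theorem exists_same (S' : Sys F V') {P : List (V × V)} {P' : List (V' × V')}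
    (h : List.Forall₂ (fun p p' => ∃ p'', S'.pspan p'' = S'.pspan p' ∧ Same S S' p p'') P P') :
    ∃ P'', List.Forall₂ (fun p' p'' => S'.pspan p'' = S'.pspan p') P' P'' ∧ List.Forall₂ (Same S S') P P'' := by
  induction h with
  | nil => exact ⟨[], List.Forall₂.nil, List.Forall₂.nil⟩
  | cons hab _ ih =>
    obtain ⟨p'', hs, hsame⟩ := hab
    obtain ⟨P'', h1, h2⟩ := ih
    exact ⟨p'' :: P'', List.Forall₂.cons hs h1, List.Forall₂.cons hsame h2⟩

/-- Decompositions with the same keys give an isometry. -/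
theorem exists_isometry_of_key (hδ : S.δ = S'.δ) {ε : F} {C : List (CBlk F V)} {L : List (UBlk V)}
    {C' : List (CBlk F V')} {L' : List (UBlk V')} (h : S.Dec ε ⊤ C L) (h' : S'.Dec ε ⊤ C' L')
    (hC : coreKey C = coreKey C') (hL : (labsOf L : Multiset ULab) = labsOf L') :
    ∃ φ : V ≃ₗ[F] V', (∀ v w, S'.B (φ v) (φ w) = S.B v w) ∧ (∀ v, S'.Q (φ v) = S.Q v) ∧
      ∀ v, φ (S.g v) = S'.g (φ v) := by
  obtain ⟨C₂, hCp, hCf⟩ := forall₂_of_perm C C' (Quotient.exact hC)
  obtain ⟨L₂, hLp, hLf⟩ := forall₂_of_perm L L' (Quotient.exact hL)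
  have hperm : (gens C₂ L₂).Perm (gens C' L') := (hCp.map _).append (hLp.map _)
  have hrel : List.Forall₂ (fun p p' => ∃ p'', S'.pspan p'' = S'.pspan p' ∧ Same S S' p p'') (gens C L) (gens C₂ L₂) := by
    refine List.rel_append ?_ ?_
    · rw [List.forall₂_map_left_iff, List.forall₂_map_right_iff]
      refine forall₂_mem hCf fun a ha b hb hab => ?_
      exact S.cblk_rigid S' hδ (h.core a ha) (h'.core b (hCp.subset hb)) hab
    · rw [List.forall₂_map_left_iff, List.forall₂_map_right_iff]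
      refine forall₂_mem hLf fun a ha b hb hab => ?_
      exact S.ublk_rigid S' hδ (h.unip a ha) (h'.unip b (hLp.subset hb)) hab
  obtain ⟨P'', hP, hS⟩ := exists_same S S' hrel
  have hmap : ∀ {A B : List (V' × V')}, List.Forall₂ (fun p' p'' => S'.pspan p'' = S'.pspan p') A B →
      B.map S'.pspan = A.map S'.pspan := by
    intro A B hAB
    induction hAB with
    | nil => rfl
    | cons hab _ ih => rw [List.map_cons, List.map_cons, hab, ih]
  have hspans : P''.map S'.pspan = (gens C₂ L₂).map S'.pspan := hmap hP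
  refine S.exists_isometry_pairs S' hδ h.orth ?_ h.cover ?_ hS
  · have h1 : (gens C₂ L₂).Pairwise S'.POrth := (hperm.pairwise_iff fun {_ _} => S'.porth_symm).2 h'.orth
    let R : Submodule F V' → Submodule F V' → Prop := fun A B => ∀ v ∈ A, ∀ w ∈ B, S'.B v w = 0
    have h2 : ((gens C₂ L₂).map S'.pspan).Pairwise R := List.pairwise_map.2 h1
    rw [← hspans] at h2
    exact (List.pairwise_map.1 h2).imp fun h => h
  · have e : ∀ P : List (V' × V'), P.foldr (fun p W => S'.pspan p ⊔ W) ⊥ = (P.map S'.pspan).foldr (· ⊔ ·) ⊥ :=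
      fun P => by rw [List.foldr_map]
    rw [e, hspans, ← e, S'.foldr_perm hperm]
    exact h'.cover

end Sys

end CfsgLib.CharTwoClasses
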