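import Cfsg.Agent.Lib.CharTwoClasses.Decomp

/-!
# The Gauss sum of the quadratic form on a decomposition

It is multiplicative over orthogonal sums; on a block without the eigenvalue one it is
`q ^ n * psi (H₁ / H₀)` where `H` is the polynomial of the block.
-/

set_option autoImplicit false
set_option linter.unusedSectionVars false
set_option linter.style.haveILetI false

namespace CfsgLib.CharTwoClasses

open Polynomial

universe u v w

variable {F : Type u} [Field F] [CharP F 2]

/-- The character with kernel the Artin-Schreier image. -/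
noncomputable def psi (x : F) : ℤ :=
  haveI := Classical.propDecidable (∃ c : F, c ^ 2 + c = x)
  if ∃ c : F, c ^ 2 + c = x then 1 else -1

theorem psi_sq (x : F) : psi (x ^ 2) = psi x := by
  have h : (∃ c : F, c ^ 2 + c = x ^ 2) ↔ ∃ c : F, c ^ 2 + c = x := by
    constructor <;> rintro ⟨c, hc⟩
    · refine ⟨c + x, ?_⟩
      linear_combination (norm := (ring_nf; simp [CharTwo.two_eq_zero])) hc
    · exact ⟨c + x, by linear_combination (norm := (ring_nf; simp [CharTwo.two_eq_zero])) hc⟩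
  by_cases hx : ∃ c : F, c ^ 2 + c = x
  · rw [psi, psi, if_pos (h.2 hx), if_pos hx]
  · rw [psi, psi, if_neg (fun he => hx (h.1 he)), if_neg hx]

theorem psi_zero : psi (0 : F) = 1 := if_pos ⟨0, by simp⟩

theorem psi_eq (x : F) : psi x = 1 ∨ psi x = -1 := by
  unfold psi; split_ifs <;> simp

theorem psi_add {ε : F} (hε : IsEps ε) (a b : F) : psi (a + b) = psi a * psi b := by
  have key : ∀ x : F, (¬ ∃ c : F, c ^ 2 + c = x) → ∃ c : F, c ^ 2 + c = x + ε := fun x hx => by
    obtain ⟨c, hc⟩ := hε.2 x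
    exact hc.elim (fun h => absurd ⟨c, h⟩ hx) fun h => ⟨c, h⟩
  by_cases ha : ∃ c : F, c ^ 2 + c = a <;> by_cases hb : ∃ c : F, c ^ 2 + c = b <;>
    simp only [psi, ha, hb, if_true, if_false]
  · obtain ⟨c, hc⟩ := ha; obtain ⟨d, hd⟩ := hb
    rw [if_pos ⟨c + d, by linear_combination (norm := (ring_nf; simp [CharTwo.two_eq_zero])) hc + hd⟩]; norm_num
  · obtain ⟨c, hc⟩ := ha
    rw [if_neg fun ⟨d, hd⟩ => hb ⟨c + d, by linear_combination (norm := (ring_nf; simp [CharTwo.two_eq_zero])) hc + hd⟩]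
    norm_num
  · obtain ⟨d, hd⟩ := hb
    rw [if_neg fun ⟨c, hc⟩ => ha ⟨c + d, by linear_combination (norm := (ring_nf; simp [CharTwo.two_eq_zero])) hc + hd⟩]
    norm_num
  · obtain ⟨c, hc⟩ := key a ha; obtain ⟨d, hd⟩ := key b hb
    rw [if_pos ⟨c + d, by linear_combination (norm := (ring_nf; simp [CharTwo.two_eq_zero])) hc + hd⟩]; norm_num

theorem psi_eps {ε : F} (hε : IsEps ε) : psi ε = -1 := if_neg fun ⟨c, hc⟩ => hε.1 c hc

theorem exists_eps [Finite F] : ∃ ε : F, IsEps ε := by
  classical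
  let f : F →+ F := AddMonoidHom.mk' (fun c => c ^ 2 + c) fun a b => by rw [CharTwo.add_sq]; ring
  have hker : Nat.card f.ker = 2 := by
    have h : (f.ker : Set F) = {0, 1} := by
      ext c
      constructor
      · intro hc
        have h1 : c * (c + 1) = 0 := by have := (AddMonoidHom.mem_ker).1 hc; rw [← this]; simp [f]; ring
        rcases mul_eq_zero.1 h1 with h | h
        · exact Or.inl h
        · exact Or.inr (CharTwo.add_eq_zero.1 h)
      · rintro (rfl | rfl)
        · simp [f]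
        · show (1 : F) ^ 2 + 1 = 0
          rw [one_pow, CharTwo.add_self_eq_zero]
    rw [show Nat.card f.ker = Nat.card ({0, 1} : Set F) from Nat.card_congr (Equiv.setCongr h),
      Nat.card_coe_set_eq, Set.ncard_pair zero_ne_one]
  have hidx : f.range.index = 2 := by
    have h1 := f.range.card_mul_index
    have h2 := f.ker.card_mul_index
    rw [AddSubgroup.index_ker f, hker] at h2
    have hpos : 0 < Nat.card f.range := Nat.card_pos
    nlinarith
  obtain ⟨ε, hε⟩ := AddSubgroup.index_eq_two_iff.1 hidx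
  refine ⟨ε, fun c hc => ?_, fun μ => ?_⟩
  · rcases hε 0 with ⟨-, h⟩ | ⟨-, h⟩
    · exact h (zero_mem _)
    · exact h (by rw [zero_add]; exact ⟨c, hc⟩)
  · rcases hε μ with ⟨h, -⟩ | ⟨h, -⟩
    · obtain ⟨c, hc⟩ := h; exact ⟨c, Or.inr hc⟩
    · obtain ⟨c, hc⟩ := h; exact ⟨c, Or.inl hc⟩

/-- The trace invariant of a polynomial with non-zero constant term. -/
def sigmaP (p : F[X]) : F := p.coeff 1 / p.coeff 0

theorem sigmaP_mul {p q : F[X]} (hp : p.coeff 0 ≠ 0) (hq : q.coeff 0 ≠ 0) :
    sigmaP (p * q) = sigmaP p + sigmaP q := by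
  simp only [sigmaP, mul_coeff_zero, mul_coeff_one]
  field_simp
  ring

theorem sigmaP_one : sigmaP (1 : F[X]) = 0 := by simp [sigmaP, coeff_one]

theorem coeff_zero_ne {P : F[X]} (hm : P.Monic) (hirr : Irreducible P) (hX : P ≠ X) : P.coeff 0 ≠ 0 := fun h =>
  hX (eq_of_monic_of_associated hm monic_X ((irreducible_X.associated_of_dvd hirr (X_dvd_iff.2 h)).symm))

theorem exists_sq_derivative [Finite F] (p : F[X]) : ∃ r : F[X], r * r = derivative p := by
  induction p using Polynomial.induction_on' with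
  | add p q hp hq =>
    obtain ⟨r, hr⟩ := hp; obtain ⟨s, hs⟩ := hq
    exact ⟨r + s, by rw [derivative_add, ← hr, ← hs, CharTwo.add_mul_self]⟩
  | monomial n c =>
    rcases Nat.even_or_odd n with ⟨k, hk⟩ | ⟨k, hk⟩
    · refine ⟨0, ?_⟩
      rw [derivative_monomial, show (n : F) = 0 by rw [hk, Nat.cast_add, CharTwo.add_self_eq_zero]]
      simp
    · obtain ⟨s, hs⟩ := Sys.exists_sqrt c
      refine ⟨monomial k s, ?_⟩
      rw [monomial_mul_monomial, derivative_monomial,
        show (n : F) = 1 by rw [hk, Nat.cast_add, Nat.cast_mul, Nat.cast_two, CharTwo.two_eq_zero, zero_mul, zero_add,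
          Nat.cast_one],
        mul_one, ← sq, hs, show n - 1 = k + k by omega]

/-- The coefficient functional of a monic polynomial commutes with squaring, up to the square root of the derivative. -/
theorem coeff_sq_modByMonic {H r : F[X]} (hH : H.Monic) {n : ℕ} (hn : H.natDegree = n) (h1 : 1 ≤ n)
    (hr : r * r = derivative H) (z : F[X]) :
    ((z * z) %ₘ H).coeff (n - 1) = ((r * z) %ₘ H).coeff (n - 1) ^ 2 := by
  obtain ⟨w, hw⟩ : ∃ w, w = (z * z) /ₘ H := ⟨_, rfl⟩
  obtain ⟨s, hs⟩ : ∃ s, s = (r * z) /ₘ H := ⟨_, rfl⟩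
  obtain ⟨a, ha⟩ : ∃ a, a = (z * z) %ₘ H := ⟨_, rfl⟩
  obtain ⟨b, hb⟩ : ∃ b, b = (r * z) %ₘ H := ⟨_, rfl⟩
  have e1 : a + H * w = z * z := by rw [ha, hw]; exact modByMonic_add_div _ _
  have e2 : b + H * s = r * z := by rw [hb, hs]; exact modByMonic_add_div _ _
  rw [← ha, ← hb]
  have hlt : ∀ p : F[X], (p %ₘ H).natDegree ≤ n - 1 := fun p => by
    have h2 : (p %ₘ H).natDegree < H.natDegree := natDegree_modByMonic_lt p hH (fun h => by rw [h, natDegree_one] at hn; omega)
    omega
  have hd : derivative a + (derivative H * w + H * derivative w) = 0 := by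
    have := congrArg derivative e1
    rw [derivative_add, derivative_mul, derivative_mul] at this
    rw [this, mul_comm (derivative z) z, CharTwo.add_self_eq_zero]
  have h2 : (2 : F[X]) = 0 := CharTwo.two_eq_zero
  have key : H * H * (derivative w + s * s) = derivative (H * a) + b * b := by
    have e3 : derivative H * (a + H * w) = (b + H * s) * (b + H * s) := by rw [e1, e2, ← hr]; ring
    rw [derivative_mul]
    linear_combination -e3 + H * hd + (-H * derivative a - b * H * s - b * b) * h2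
  have hdeg : (derivative (H * a) + b * b).natDegree ≤ 2 * n - 2 := by
    refine (natDegree_add_le _ _).trans (max_le ?_ ?_)
    · refine (natDegree_derivative_le _).trans ?_
      have h3 : (H * a).natDegree ≤ n + (n - 1) := natDegree_mul_le.trans (Nat.add_le_add hn.le (ha ▸ hlt _))
      omega
    · refine natDegree_mul_le.trans ?_
      have := hlt (r * z)
      rw [← hb] at this
      omega
  have hzero : derivative (H * a) + b * b = 0 := by
    by_contra hne
    have h3 : derivative w + s * s ≠ 0 := fun h => hne (by rw [← key, h, mul_zero])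
    rw [← key, natDegree_mul (mul_ne_zero hH.ne_zero hH.ne_zero) h3, natDegree_mul hH.ne_zero hH.ne_zero, hn] at hdeg
    omega
  have hc := congrArg (fun p : F[X] => p.coeff (n - 1 + (n - 1))) hzero
  have hbd : b.natDegree ≤ n - 1 := hb ▸ hlt _
  have had : a.natDegree ≤ n - 1 := ha ▸ hlt _
  simp only [coeff_add, coeff_zero, coeff_derivative] at hc
  rw [coeff_mul_add_eq_of_natDegree_le hbd hbd, show n - 1 + (n - 1) + 1 = n + (n - 1) by omega,
    coeff_mul_add_eq_of_natDegree_le hn.le had, ← hn, hH.coeff_natDegree, hn, one_mul] at hc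
  have hcast : ((n - 1 + (n - 1) : ℕ) : F) = 0 := by rw [Nat.cast_add, CharTwo.add_self_eq_zero]
  rw [hcast, zero_add, mul_one, CharTwo.add_eq_zero] at hc
  rw [hc, sq]

/-- A character sum over a nonzero functional vanishes. -/
theorem sum_psi_eq_zero {ε : F} (hε : IsEps ε) {V : Type v} [AddCommGroup V] [Module F V] [Fintype V]
    (f : V →ₗ[F] F) (hf : f ≠ 0) : ∑ v, psi (f v) = 0 := by
  obtain ⟨v₀, hv₀⟩ : ∃ v, f v ≠ 0 := by
    by_contra h; push Not at h; exact hf (LinearMap.ext h)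
  obtain ⟨v₁, hv₁⟩ : ∃ v, f v = ε := ⟨(ε / f v₀) • v₀, by rw [map_smul, smul_eq_mul, div_mul_cancel₀ _ hv₀]⟩
  have h : ∑ v, psi (f v) = ∑ v, psi (f (v + v₁)) := (Equiv.sum_comp (Equiv.addRight v₁) fun v => psi (f v)).symm
  simp only [map_add, psi_add hε, hv₁, psi_eps hε, mul_neg, mul_one, Finset.sum_neg_distrib] at h
  linarith

/-- The standard functional of a polynomial. -/
noncomputable def ell (H κ : F[X]) : F := ((X * κ) %ₘ H).coeff (H.natDegree - 1)

theorem ell_add (H κ ν : F[X]) : ell H (κ + ν) = ell H κ + ell H ν := by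
  simp [ell, mul_add, add_modByMonic]

theorem ell_smul (H : F[X]) (c : F) (κ : F[X]) : ell H (c • κ) = c * ell H κ := by
  simp [ell, smul_modByMonic]

theorem ell_dvd {H κ : F[X]} (hH : H.Monic) (h : H ∣ κ) : ell H κ = 0 := by
  rw [ell, (modByMonic_eq_zero_iff_dvd hH).2 (h.mul_left X), coeff_zero]

theorem ell_congr {H κ ν : F[X]} (hH : H.Monic) (h : H ∣ κ - ν) : ell H κ = ell H ν := by
  conv_lhs => rw [← sub_add_cancel κ ν, ell_add, ell_dvd hH h, zero_add]

theorem ell_mod {H : F[X]} (hH : H.Monic) (κ ν : F[X]) : ell H ((κ %ₘ H) * ν) = ell H (κ * ν) := by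
  refine ell_congr hH ⟨-(κ /ₘ H * ν), ?_⟩
  linear_combination ν * modByMonic_add_div κ H

theorem exists_inv_X {H : F[X]} (h0 : H.coeff 0 ≠ 0) : ∃ u v : F[X], u * X + v * H = 1 :=
  (irreducible_X.coprime_iff_not_dvd).2 fun hd => h0 (X_dvd_iff.1 hd)

theorem ell_nondeg {H : F[X]} (hH : H.Monic) {u v : F[X]} (huv : u * X + v * H = 1) {a : F[X]}
    (ha : a.degree < H.degree) (h : ∀ κ, ell H (κ * a) = 0) : a = 0 := by
  by_contra hne
  have hd : a.natDegree < H.natDegree := natDegree_lt_natDegree hne ha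
  obtain ⟨k, hk⟩ : ∃ k, a.natDegree + k + 1 = H.natDegree := ⟨H.natDegree - a.natDegree - 1, by omega⟩
  have h1 := h (u * X ^ k)
  have e1 : (X * (u * X ^ k * a)) %ₘ H = (X ^ k * a) %ₘ H := by
    rw [← sub_eq_zero, ← sub_modByMonic, modByMonic_eq_zero_iff_dvd hH]
    exact ⟨-(v * (X ^ k * a)), by linear_combination X ^ k * a * huv⟩
  have e2 : (X ^ k * a).degree < H.degree := by
    rw [degree_eq_natDegree (mul_ne_zero (pow_ne_zero k X_ne_zero) hne), degree_eq_natDegree hH.ne_zero,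
      natDegree_mul (pow_ne_zero k X_ne_zero) hne, natDegree_X_pow]
    exact_mod_cast (show k + a.natDegree < H.natDegree by omega)
  rw [ell, e1, (modByMonic_eq_self_iff hH).2 e2, show H.natDegree - 1 = a.natDegree + k by omega, coeff_X_pow_mul] at h1
  exact hne (leadingCoeff_eq_zero.1 h1)

theorem ell_square [Finite F] {H r u v : F[X]} (hH : H.Monic) (h1 : 1 ≤ H.natDegree) (huv : u * X + v * H = 1)
    (hr : r * r = derivative H) (p : F[X]) :
    psi (ell H (u * u * X * (p * p))) = psi (ell H (u * r * p)) := by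
  have huX : ∀ κ : F[X], ((u * X * κ) %ₘ H) = κ %ₘ H := fun κ => by
    rw [← sub_eq_zero, ← sub_modByMonic, modByMonic_eq_zero_iff_dvd hH]
    exact ⟨-(v * κ), by linear_combination κ * huv⟩
  rw [ell, ell, show X * (u * u * X * (p * p)) = u * X * (u * X * (p * p)) by ring, huX, huX,
    coeff_sq_modByMonic hH rfl h1 hr, psi_sq, show X * (u * r * p) = u * X * (r * p) by ring, huX]

theorem ell_c_square [Finite F] {H r u v : F[X]} (hH : H.Monic) (h1 : 1 ≤ H.natDegree) (h00 : H.coeff 0 ≠ 0)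
    (huv : u * X + v * H = 1) (hr : r * r = derivative H) : ell H (u * r * (u * r)) = sigmaP H := by
  obtain ⟨n, hn⟩ : ∃ n, H.natDegree = n := ⟨_, rfl⟩
  have huX : ∀ κ : F[X], ((u * X * κ) %ₘ H) = κ %ₘ H := fun κ => by
    rw [← sub_eq_zero, ← sub_modByMonic, modByMonic_eq_zero_iff_dvd hH]
    exact ⟨-(v * κ), by linear_combination κ * huv⟩
  rw [ell, show X * (u * r * (u * r)) = u * X * (u * (r * r)) by ring, huX, hr]
  obtain ⟨σ, hσ⟩ : ∃ σ, σ = sigmaP H := ⟨_, rfl⟩
  rw [← hσ, hn]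
  obtain ⟨T', hT'⟩ : X ∣ derivative H - C σ * H := by
    rw [X_dvd_iff, coeff_sub, coeff_C_mul, coeff_derivative, hσ, sigmaP, div_mul_cancel₀ _ h00]
    simp
  have hT : (u * derivative H) %ₘ H = T' %ₘ H := by
    rw [← huX T', ← sub_eq_zero, ← sub_modByMonic, modByMonic_eq_zero_iff_dvd hH]
    exact ⟨u * C σ, by linear_combination u * hT'⟩
  have hd1 : (derivative H - C σ * H).natDegree ≤ n := (natDegree_sub_le _ _).trans
    (max_le ((natDegree_derivative_le _).trans (by omega)) ((natDegree_C_mul_le _ _).trans hn.le))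
  have hT'd : T'.degree < H.degree := by
    rcases eq_or_ne T' 0 with rfl | hne
    · rw [degree_zero, degree_eq_natDegree hH.ne_zero]; exact WithBot.bot_lt_coe _
    rw [hT', natDegree_mul X_ne_zero hne, natDegree_X] at hd1
    rw [degree_eq_natDegree hne, degree_eq_natDegree hH.ne_zero, hn]
    exact_mod_cast (show T'.natDegree < n by omega)
  rw [hT, (modByMonic_eq_self_iff hH).2 hT'd]
  have h4 := congrArg (fun p : F[X] => p.coeff n) hT'
  simp only [coeff_sub, coeff_C_mul] at h4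
  rw [coeff_derivative, coeff_eq_zero_of_natDegree_lt (show H.natDegree < n + 1 by omega), zero_mul, zero_sub,
    ← hn, hH.coeff_natDegree, hn, mul_one, show n = n - 1 + 1 by omega, coeff_X_mul, CharTwo.neg_eq] at h4
  exact h4.symm

/-- The Gauss sum of the standard form of a polynomial. -/
theorem sum_ell [Finite F] {ε : F} (hε : IsEps ε) {H u v : F[X]} (hH : H.Monic) (h1 : 1 ≤ H.natDegree)
    (h00 : H.coeff 0 ≠ 0) (huv : u * X + v * H = 1) [Fintype (degreeLT F H.natDegree)] :
    ∑ p : degreeLT F H.natDegree × degreeLT F H.natDegree,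
      psi (ell H (u * u * X * (p.1.1 * p.1.1)) + ell H (u * u * X * (p.2.1 * p.2.1)) + ell H (p.1.1 * p.2.1)) =
      (Nat.card F : ℤ) ^ H.natDegree * psi (sigmaP H) := by
  obtain ⟨r, hr⟩ := exists_sq_derivative H
  obtain ⟨c, hc⟩ : ∃ c, c = u * r := ⟨_, rfl⟩
  have hdeg : H.degree = (H.natDegree : WithBot ℕ) := degree_eq_natDegree hH.ne_zero
  obtain ⟨c₀, hc₀⟩ : ∃ c₀ : degreeLT F H.natDegree, c₀.1 = c %ₘ H :=
    ⟨⟨_, mem_degreeLT.2 (by rw [← hdeg]; exact degree_modByMonic_lt _ hH)⟩, rfl⟩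
  rw [Fintype.sum_prod_type]
  have hstep : ∀ a b : F[X], psi (ell H (u * u * X * (a * a)) + ell H (u * u * X * (b * b)) + ell H (a * b)) =
      psi (ell H (c * a)) * psi (ell H ((c + a) * b)) := fun a b => by
    rw [psi_add hε, psi_add hε, ell_square hH h1 huv hr, ell_square hH h1 huv hr, add_mul, ell_add, psi_add hε, hc,
      mul_assoc]
  simp only [hstep]
  rw [Fintype.sum_eq_single c₀ fun a ha => ?_]
  · have hz0 : ∀ b : degreeLT F H.natDegree, psi (ell H ((c + c₀.1) * b.1)) = 1 := fun b => by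
      rw [add_mul, ell_add, hc₀, ell_mod hH, CharTwo.add_self_eq_zero, psi_zero]
    simp only [hz0, mul_one, Finset.sum_const, Finset.card_univ, nsmul_eq_mul]
    rw [← Nat.card_eq_fintype_card, Nat.card_congr (degreeLTEquiv F _).toEquiv, Nat.card_fun, Nat.card_fin,
      Nat.cast_pow]
    congr 2
    rw [mul_comm c, hc₀, ell_mod hH, hc, ell_c_square hH h1 h00 huv hr]
  · rw [← Finset.mul_sum]
    let f : degreeLT F H.natDegree →ₗ[F] F :=
      { toFun := fun b => ell H ((c + a.1) * b.1)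
        map_add' := fun b b' => by rw [Submodule.coe_add, mul_add, ell_add]
        map_smul' := fun k b => by rw [Submodule.coe_smul, mul_smul_comm, ell_smul]; rfl }
    rw [show ∑ b : degreeLT F H.natDegree, psi (ell H ((c + a.1) * b.1)) = ∑ b, psi (f b) from rfl,
      sum_psi_eq_zero hε f fun hf => ha ?_, mul_zero]
    have hd := ell_nondeg hH huv (degree_modByMonic_lt (c + a.1) hH) fun κ => by
      rw [mul_comm, ell_mod hH, mul_comm, ← ell_mod hH, mul_comm]
      exact congrArg (fun g : degreeLT F H.natDegree →ₗ[F] F =>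
        g ⟨_, mem_degreeLT.2 (by rw [← hdeg]; exact degree_modByMonic_lt κ hH)⟩) hf
    refine Subtype.ext ?_
    rw [hc₀, ← (modByMonic_eq_self_iff hH).2 (show a.1.degree < H.degree by rw [hdeg]; exact mem_degreeLT.1 a.2),
      ← CharTwo.add_eq_zero, add_comm, ← add_modByMonic]
    exact hd

namespace Sys

variable {V : Type v} [AddCommGroup V] [Module F V] (S : Sys F V)

/-- The same form with the trivial isometry. -/
def plain : Sys F V :=
  { S with g := LinearEquiv.refl F V, inv := fun _ _ => rfl, q_inv := fun _ => rfl }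

/-- The restriction to an invariant nondegenerate subspace. -/
noncomputable def restr [FiniteDimensional F V] (W : Submodule F V) (hWi : S.Invt W) (hW : S.Nd W) : Sys F W where
  B := S.B.compl₁₂ W.subtype W.subtype
  Q := fun v => S.Q v
  δ := S.δ
  g := LinearEquiv.ofBijective ((S.g : V →ₗ[F] V).restrict hWi)
    ⟨fun _ _ h => Subtype.ext (S.g.injective (congrArg Subtype.val h)),
      LinearMap.injective_iff_surjective.1 fun _ _ h => Subtype.ext (S.g.injective (congrArg Subtype.val h))⟩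
  alt := fun v => S.alt v
  nondeg := fun v h => Subtype.ext (hW v v.2 fun w hw => h ⟨w, hw⟩)
  inv := fun v w => S.inv v w
  q_add := fun v w => S.q_add v w
  q_smul := fun c v => S.q_smul c v
  q_inv := fun v => S.q_inv v
  q_kind := S.q_kind.imp id fun h => ⟨h.1, fun v => h.2 v⟩

/-- The Gauss sum on a subspace. -/
noncomputable def gauss (W : Submodule F V) : ℤ := ∑ᶠ v : W, psi (S.Q v)

theorem gauss_eq (W : Submodule F V) [Fintype W] : S.gauss W = ∑ v : W, psi (S.Q v) := finsum_eq_sum_of_fintype _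

theorem gauss_bot : S.gauss (⊥ : Submodule F V) = 1 := by
  haveI : Fintype (⊥ : Submodule F V) := Fintype.ofSubsingleton 0
  rw [gauss_eq, Fintype.sum_subsingleton _ (0 : (⊥ : Submodule F V)), Submodule.coe_zero, S.q_zero, psi_zero]

variable [Finite V]

theorem gauss_mul {ε : F} (hε : IsEps ε) {W W' U : Submodule F V} (hW : S.Nd W)
    (horth : ∀ v ∈ W, ∀ w ∈ W', S.B v w = 0) (hU : W ⊔ W' = U) : S.gauss U = S.gauss W * S.gauss W' := by
  haveI := Fintype.ofFinite W
  haveI := Fintype.ofFinite W'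
  haveI := Fintype.ofFinite U
  have hmem : ∀ (a : W) (b : W'), (a : V) + b ∈ U := fun a b => hU ▸ Submodule.add_mem_sup a.2 b.2
  have hbij : Function.Bijective (fun p : W × W' => (⟨_, hmem p.1 p.2⟩ : U)) := by
    constructor
    · rintro ⟨a, b⟩ ⟨a', b'⟩ h
      have h' : (a : V) + b = a' + b' := congrArg Subtype.val h
      have ha : (a : V) - a' = 0 := hW _ (W.sub_mem a.2 a'.2) fun w hw => by
        rw [show (a : V) - a' = (b' : V) - b by rw [sub_eq_sub_iff_add_eq_add, h', add_comm], map_sub,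
          LinearMap.sub_apply, S.symm, horth w hw _ b'.2, S.symm, horth w hw _ b.2, sub_zero]
      obtain rfl : a = a' := Subtype.ext (sub_eq_zero.1 ha)
      exact Prod.ext rfl (Subtype.ext (add_left_cancel h'))
    · rintro ⟨u, hu⟩
      rw [← hU] at hu
      obtain ⟨a, ha, b, hb, rfl⟩ := Submodule.mem_sup.1 hu
      exact ⟨(⟨a, ha⟩, ⟨b, hb⟩), rfl⟩
  rw [gauss_eq, gauss_eq, gauss_eq, Finset.sum_mul_sum, ← Fintype.sum_prod_type']
  refine (Fintype.sum_bijective _ hbij _ _ fun p => ?_).symm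
  rw [show ((⟨_, hmem p.1 p.2⟩ : U) : V) = p.1 + p.2 from rfl, S.q_add, horth _ p.1.2 _ p.2.2, mul_zero, add_zero,
    psi_add hε]

theorem gauss_top_sq {ε : F} (hε : IsEps ε) (hδ : S.δ = 1) : S.gauss ⊤ * S.gauss ⊤ = Nat.card V := by
  classical
  haveI := Fintype.ofFinite V
  haveI := Fintype.ofFinite (⊤ : Submodule F V)
  have h1 : S.gauss ⊤ = ∑ v : V, psi (S.Q v) := by
    rw [gauss_eq]
    exact Fintype.sum_equiv (Equiv.subtypeUnivEquiv fun _ => Submodule.mem_top) _ _ fun v => rfl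
  rw [h1, Finset.sum_mul_sum]
  have h2 : ∀ v : V, ∑ w, psi (S.Q v) * psi (S.Q w) = ∑ w, psi (S.Q w) * psi (S.B v w) := fun v => by
    conv_lhs => rw [← Equiv.sum_comp (Equiv.addLeft v) fun w => psi (S.Q v) * psi (S.Q w)]
    refine Finset.sum_congr rfl fun w _ => ?_
    rw [Equiv.coe_addLeft, S.q_add, hδ, one_mul, psi_add hε, psi_add hε, ← mul_assoc, ← mul_assoc]
    rcases psi_eq (S.Q v) with h | h <;> rw [h] <;> ring
  rw [Finset.sum_congr rfl fun v _ => h2 v, Finset.sum_comm, Finset.sum_congr rfl fun w _ => (Finset.mul_sum _ _ _).symm,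
    Fintype.sum_eq_single 0 fun w hw => ?_]
  · simp [S.q_zero, psi_zero]
  · rw [show ∑ i, psi (S.B i w) = 0 from sum_psi_eq_zero hε (S.B.flip w) fun h => hw (S.nondeg w fun v => by
      rw [S.symm]; exact congrArg (fun f : V →ₗ[F] F => f v) h), mul_zero]

theorem gauss_congr {V' : Type w} [AddCommGroup V'] [Module F V'] (S' : Sys F V') [Finite V'] {W : Submodule F V}
    {W' : Submodule F V'} (φ : W ≃ₗ[F] W') (h : ∀ v : W, S'.Q (φ v) = S.Q v) : S.gauss W = S'.gauss W' := by
  haveI := Fintype.ofFinite W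
  haveI := Fintype.ofFinite W'
  rw [gauss_eq, gauss_eq]
  exact Fintype.sum_equiv φ.toEquiv _ _ fun v => by rw [← h v]; rfl

variable [Finite F]

/-- The Gauss sum of a block without the eigenvalue one. -/
theorem gauss_core {ε : F} (hε : IsEps ε) (hδ : S.δ = 1) {P : F[X]} {e : ℕ} {x : V} (h : S.IsCore P e x) :
    S.gauss (S.gspan x 0) = (Nat.card F : ℤ) ^ (e * P.natDegree) * psi (sigmaP (P ^ e)) := by
  haveI : FiniteDimensional F V := Module.Finite.of_finite
  obtain ⟨H, hH⟩ : ∃ H, H = P ^ e := ⟨_, rfl⟩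
  have hHm : H.Monic := hH ▸ h.monic_pow
  have hn : H.natDegree = e * P.natDegree := by rw [hH, h.monic.natDegree_pow]
  have hn1 : 1 ≤ H.natDegree := hn ▸ Nat.mul_pos h.one_le h.irr.natDegree_pos
  have hdeg : (P ^ e).degree = (H.natDegree : WithBot ℕ) := by rw [← hH, degree_eq_natDegree hHm.ne_zero]
  have h00 : H.coeff 0 ≠ 0 := by
    rw [hH, coeff_zero_eq_eval_zero, eval_pow, ← coeff_zero_eq_eval_zero]
    exact pow_ne_zero _ (coeff_zero_ne h.monic h.irr h.ne_X)
  obtain ⟨u, v, huv⟩ := exists_inv_X h00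
  -- a generator with the standard functional
  obtain ⟨x₁, hspan, hc, hom⟩ : ∃ x₁, S.gspan x₁ 0 = S.gspan x 0 ∧ S.IsCore P e x₁ ∧
      ∀ κ, S.omega x₁ κ = ell H κ := by
    refine S.retarget h (ell H) (ell_add H) (ell_smul H) (fun κ hd => ell_dvd hHm (hH ▸ hd)) ?_
    by_contra hcon
    push Not at hcon
    have hP := h.irr.natDegree_pos
    have hlt : (P ^ (e - 1)).degree < H.degree := by
      rw [degree_eq_natDegree (pow_ne_zero _ h.monic.ne_zero), degree_eq_natDegree hHm.ne_zero, hn,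
        h.monic.natDegree_pow]
      exact_mod_cast Nat.mul_lt_mul_of_pos_right (show e - 1 < e by have := h.one_le; omega) hP
    exact pow_ne_zero _ h.monic.ne_zero (ell_nondeg hHm huv hlt hcon)
  rw [← hspan]
  -- Q on the multiples of the generator
  have hQ : ∀ p : F[X], S.Q (S.pT p x₁) = ell H (u * u * X * (p * p)) := fun p => by
    have hkill : S.pT H (S.pT p x₁) = 0 := by rw [← pT_mul, mul_comm, pT_mul, hH, hc.kill, pT_map_zero]
    have hz : S.pT p x₁ = S.g (S.pT (u * p) x₁) + S.g.symm (S.pT (u * p) x₁) := by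
      rw [← T_apply, ← pT_X, ← pT_mul, ← mul_assoc, mul_comm X u, pT_mul, ← S.pT_mul (u * X)]
      conv_lhs => rw [← S.pT_one (S.pT p x₁), ← huv, pT_add, S.pT_mul v, hkill, pT_map_zero, add_zero, ← pT_mul]
    have hq : ∀ z, S.Q (S.g.symm z) = S.Q z := fun z => by
      conv_rhs => rw [← S.g.apply_symm_apply z, S.q_inv]
    rw [hz, S.q_add, S.q_inv, hq, CharTwo.add_self_eq_zero, zero_add, hδ, one_mul, S.symm, inv_symm, S.symm, g_g,
      map_add, LinearMap.add_apply, S.alt, add_zero, ← pT_X, S.pT_adj, ← pT_mul, ← pT_g, S.symm, omega_eq, hom]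
    congr 1
    ring
  -- the sum over coefficients
  haveI : Module.Finite F (degreeLT F H.natDegree) := Module.Finite.equiv (degreeLTEquiv F _).symm
  haveI : Finite (degreeLT F H.natDegree) := Module.finite_of_finite F
  haveI := Fintype.ofFinite (degreeLT F H.natDegree)
  haveI := Fintype.ofFinite (S.gspan x₁ 0)
  have hmem : ∀ a b : F[X], S.pT a x₁ + S.pT b (S.g x₁) ∈ S.gspan x₁ 0 := fun a b =>
    Submodule.add_mem _ ((S.invt_gspan x₁ 0).pT S a (S.left_mem_gspan x₁ 0))
      ((S.invt_gspan x₁ 0).pT S b (S.invt_gspan x₁ 0 _ (S.left_mem_gspan x₁ 0)))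
  have hbij : Function.Bijective
      (fun p : degreeLT F H.natDegree × degreeLT F H.natDegree => (⟨_, hmem p.1.1 p.2.1⟩ : S.gspan x₁ 0)) := by
    constructor
    · rintro ⟨⟨a, ha⟩, b, hb⟩ ⟨⟨a', ha'⟩, b', hb'⟩ heq
      have h' : S.pT a x₁ + S.pT b (S.g x₁) = S.pT a' x₁ + S.pT b' (S.g x₁) := congrArg Subtype.val heq
      obtain ⟨h1, h2⟩ := S.coeff_core hc (a := a - a') (b := b - b') fun w _ => by
        simp only [pT, map_sub, LinearMap.sub_apply] at h' ⊢
        rw [show (aeval S.T a) x₁ - (aeval S.T a') x₁ + ((aeval S.T b) (S.g x₁) - (aeval S.T b') (S.g x₁)) =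
          ((aeval S.T a) x₁ + (aeval S.T b) (S.g x₁)) - ((aeval S.T a') x₁ + (aeval S.T b') (S.g x₁)) by abel, h',
          sub_self, map_zero, LinearMap.zero_apply]
      rw [mem_degreeLT, ← hdeg] at ha ha' hb hb'
      have e1 := sub_eq_zero.1 (eq_zero_of_dvd_of_degree_lt h1 ((degree_sub_le _ _).trans_lt (max_lt ha ha')))
      have e2 := sub_eq_zero.1 (eq_zero_of_dvd_of_degree_lt h2 ((degree_sub_le _ _).trans_lt (max_lt hb hb')))
      simp [e1, e2]
    · rintro ⟨z, hz⟩
      obtain ⟨a, b, ha, hb, rfl⟩ := (S.mem_core_span hc).1 hz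
      rw [hdeg] at ha hb
      exact ⟨(⟨a, mem_degreeLT.2 ha⟩, ⟨b, mem_degreeLT.2 hb⟩), rfl⟩
  rw [gauss_eq, ← hn, ← hH, ← sum_ell hε hHm hn1 h00 huv]
  refine (Fintype.sum_bijective _ hbij _ _ fun p => ?_).symm
  have e1 : S.B (S.pT p.1.1 x₁) (S.pT p.2.1 (S.g x₁)) = ell H (p.2.1 * p.1.1) := by rw [S.omega_eq, hom]
  show _ = psi (S.Q (S.pT p.1.1 x₁ + S.pT p.2.1 (S.g x₁)))
  rw [S.q_add, hδ, one_mul, e1, pT_g, S.q_inv, hQ, hQ, mul_comm (p.2.1 : F[X]) p.1.1]

end Sys

end CfsgLib.CharTwoClasses
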