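import Cfsg.Agent.Lib.CharTwoClasses.Classes

/-!
# Lower bounds for the number of classes
-/

set_option autoImplicit false
set_option linter.unusedSectionVars false
set_option linter.style.haveILetI false

namespace CfsgLib.CharTwoClasses

open Polynomial

universe u v

variable {F : Type u} [Field F] [CharP F 2] [Finite F] {V : Type v} [AddCommGroup V] [Module F V] [Finite V]
  (S : Sys F V)

/-- The monic polynomials of degree `n`. -/
abbrev MonicDeg (F : Type u) [Field F] (n : ℕ) : Type u := {p : F[X] // p.Monic ∧ p.natDegree = n}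

theorem card_monicDeg (n : ℕ) : Finite (MonicDeg F n) ∧ Nat.card (MonicDeg F n) = Nat.card F ^ n := by
  have e : MonicDeg F n ≃ (Fin n → F) := (monicEquivDegreeLT n).trans (degreeLTEquiv F n).toEquiv
  exact ⟨Finite.of_equiv _ e.symm, by rw [Nat.card_congr e, Nat.card_fun, Nat.card_fin]⟩

theorem exists_split {n : ℕ} (p : MonicDeg F n) :
    ∃ (i : ℕ) (H : F[X]), p.1 = X ^ i * H ∧ H.Monic ∧ H.coeff 0 ≠ 0 ∧ H.natDegree + i = n := by
  obtain ⟨H, hH, hnd⟩ := Polynomial.exists_eq_pow_rootMultiplicity_mul_and_not_dvd p.1 p.2.1.ne_zero 0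
  rw [map_zero, sub_zero] at hH hnd
  have hm : H.Monic := (monic_X_pow _).of_mul_monic_left (hH ▸ p.2.1)
  refine ⟨_, H, hH, hm, fun h => hnd (X_dvd_iff.2 h), ?_⟩
  have h2 := p.2.2
  rw [hH, (monic_X_pow _).natDegree_mul hm, natDegree_X_pow] at h2
  omega

/-- The polynomials for which an element exists. -/
def Attained {n : ℕ} (p : MonicDeg F n) : Prop :=
  S.δ = 1 → p.1.coeff 0 = 0 ∨ (Nat.card F : ℤ) ^ n * psi (sigmaP p.1) = S.gauss ⊤

theorem exists_element {ε : F} (hε : IsEps ε) {n : ℕ} (hn : Module.finrank F V = 2 * n) (hn1 : 1 ≤ n)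
    {p : MonicDeg F n} (hp : Attained S p) :
    ∃ (φ : S.isoms) (i : ℕ) (H : F[X]), p.1 = X ^ i * H ∧ H.Monic ∧ H.coeff 0 ≠ 0 ∧ H.natDegree + i = n ∧
      ∀ r : F[X], (∀ v, (S.withG φ).pT r v = 0) ↔ H ∣ r ∧ (0 < i → X ∣ r) := by
  haveI : FiniteDimensional F V := Module.Finite.of_finite
  obtain ⟨i, H, hpH, hH, h00, hdeg⟩ := exists_split p
  have ht : ∃ t : Fin i → F, S.δ = 1 → (Nat.card F : ℤ) ^ n * psi (sigmaP H + ∑ j, t j) = S.gauss ⊤ := by
    rcases Nat.eq_zero_or_pos i with rfl | hi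
    · refine ⟨fun _ => 0, fun hd => ?_⟩
      rw [Finset.sum_eq_zero fun j _ => rfl, add_zero]
      rw [pow_zero, one_mul] at hpH
      have := (hp hd).resolve_left (hpH ▸ h00)
      rwa [hpH] at this
    · by_cases hd : S.δ = 1
      swap
      · exact ⟨fun _ => 0, fun h => absurd h hd⟩
      obtain ⟨τ, hτ⟩ : ∃ τ, (Nat.card F : ℤ) ^ n * psi (sigmaP H + τ) = S.gauss ⊤ := by
        rcases S.gauss_top_eq hε hd hn with hg | hg <;> rcases psi_eq (sigmaP H) with hs | hs
        · exact ⟨0, by rw [add_zero, hs, hg, mul_one]⟩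
        · exact ⟨ε, by rw [psi_add hε, hs, psi_eps hε, hg]; ring⟩
        · exact ⟨ε, by rw [psi_add hε, hs, psi_eps hε, hg]; ring⟩
        · exact ⟨0, by rw [add_zero, hs, hg]; ring⟩
      exact ⟨Pi.single ⟨0, hi⟩ τ, fun _ => by rw [Finset.sum_pi_single']; simpa using hτ⟩
  obtain ⟨t, ht⟩ := ht
  have hδ : S.δ = 1 ∨ S.δ = 0 := S.q_kind.imp id fun h => h.1
  obtain ⟨M, hMd, hMg, hMr, hMp⟩ := exists_model H hH h00 hε i S.δ hδ t
  haveI : Module.Finite F (degreeLT F H.natDegree) := Module.Finite.equiv (degreeLTEquiv F _).symm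
  haveI : Finite (degreeLT F H.natDegree) := Module.finite_of_finite F
  haveI : Finite (MSp H i) := inferInstance
  haveI : FiniteDimensional F (MSp H i) := Module.Finite.of_finite
  obtain ⟨ψ, hB, hQ⟩ := M.exists_isometry_plain S hε hMd (by rw [hMr, hn, hdeg]) fun h1 => by
    rw [hMg (hMd.symm.trans h1) (by omega), hdeg, ht (hMd.symm.trans h1)]
  have hsB : ∀ v w, M.B (ψ.symm v) (ψ.symm w) = S.B v w := fun v w => by
    rw [← hB, ψ.apply_symm_apply, ψ.apply_symm_apply]
  have hsQ : ∀ v, M.Q (ψ.symm v) = S.Q v := fun v => by rw [← hQ, ψ.apply_symm_apply]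
  refine ⟨⟨(ψ.symm.trans M.g).trans ψ, fun v w => ?_, fun v => ?_⟩, i, H, hpH, hH, h00, hdeg, fun r => ?_⟩
  · show S.B (ψ (M.g (ψ.symm v))) (ψ (M.g (ψ.symm w))) = _
    rw [hB, M.inv, hsB]
  · show S.Q (ψ (M.g (ψ.symm v))) = _
    rw [hQ, M.q_inv, hsQ]
  · rw [← hMp r]
    have htr := M.pT_transport (S.withG ⟨(ψ.symm.trans M.g).trans ψ, fun v w => by
        show S.B (ψ (M.g (ψ.symm v))) (ψ (M.g (ψ.symm w))) = _
        rw [hB, M.inv, hsB], fun v => by
        show S.Q (ψ (M.g (ψ.symm v))) = _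
        rw [hQ, M.q_inv, hsQ]⟩) ψ (fun v => by
        show _ = ψ (M.g (ψ.symm (ψ v)))
        rw [ψ.symm_apply_apply]) r
    constructor
    · intro h v
      exact ψ.injective (by rw [htr, h, map_zero])
    · intro h v
      rw [← ψ.apply_symm_apply v, ← htr, h, map_zero]

theorem card_attained_le {ε : F} (hε : IsEps ε) {n : ℕ} (hn : Module.finrank F V = 2 * n) (hn1 : 1 ≤ n) :
    Nat.card {p : MonicDeg F n // Attained S p} ≤ Nat.card (ConjClasses S.isoms) := by
  haveI : Finite (V ≃ₗ[F] V) :=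
    Finite.of_injective (fun φ => (φ : V → V)) fun a b h => LinearEquiv.ext (congrFun h)
  choose φ i H hpH hH h00 hdeg hann using fun p : {p : MonicDeg F n // Attained S p} => exists_element S hε hn hn1 p.2
  refine Nat.card_le_card_of_injective (fun p => ConjClasses.mk (φ p)) fun p p' h => ?_
  obtain ⟨c, hc⟩ := isConj_iff.1 (ConjClasses.mk_eq_mk_iff_isConj.1 h)
  have hcg : ∀ v, c.1 ((S.withG (φ p)).g v) = (S.withG (φ p')).g (c.1 v) := fun v => by
    have := congrArg (fun ψ : S.isoms => ψ.1 (c.1 v)) hc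
    simp only [Subgroup.coe_mul, Subgroup.coe_inv, LinearEquiv.mul_apply] at this
    rw [show (c.1)⁻¹ (c.1 v) = v from c.1.symm_apply_apply v] at this
    exact this
  have hiff : ∀ r : F[X], (H p ∣ r ∧ (0 < i p → X ∣ r)) ↔ (H p' ∣ r ∧ (0 < i p' → X ∣ r)) := fun r => by
    rw [← hann p r, ← hann p' r]
    have htr := (S.withG (φ p)).pT_transport (S.withG (φ p')) c.1 hcg r
    constructor
    · intro h v
      rw [← c.1.apply_symm_apply v, ← htr, h, map_zero]
    · intro h v
      exact c.1.injective (by rw [htr, h, map_zero])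
  have key : ∀ a b, (∀ r : F[X], (H a ∣ r ∧ (0 < i a → X ∣ r)) → (H b ∣ r ∧ (0 < i b → X ∣ r))) → H b ∣ H a := by
    intro a b hab
    have h1 := (hab (H a * X) ⟨dvd_mul_right _ _, fun _ => dvd_mul_left _ _⟩).1
    exact ((irreducible_X.coprime_iff_not_dvd).2 fun hd => h00 b (X_dvd_iff.1 hd)).symm.dvd_of_dvd_mul_right h1
  have hHH : H p = H p' := eq_of_monic_of_associated (hH p) (hH p')
    (associated_of_dvd_dvd (key p' p fun r => (hiff r).2) (key p p' fun r => (hiff r).1))
  refine Subtype.ext (Subtype.ext ?_)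
  rw [hpH p, hpH p', hHH, show i p = i p' by have := hdeg p; have := hdeg p'; rw [hHH] at *; omega]

/-- The symplectic lower bound. -/
theorem card_classes_ge {ε : F} (hε : IsEps ε) {n : ℕ} (hn : Module.finrank F V = 2 * n) (hn1 : 1 ≤ n)
    (hδ : S.δ = 0) : Nat.card F ^ n ≤ Nat.card (ConjClasses S.isoms) := by
  refine le_trans (le_of_eq ?_) (card_attained_le S hε hn hn1)
  have h : ∀ p : MonicDeg F n, Attained S p := fun p h1 => absurd (hδ.symm.trans h1) zero_ne_one
  rw [Nat.card_congr (Equiv.subtypeUnivEquiv h), (card_monicDeg n).2]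

/-- The orthogonal lower bound. -/
theorem card_classes_ge_orth {ε : F} (hε : IsEps ε) {n : ℕ} (hn : Module.finrank F V = 2 * n) (hn2 : 2 ≤ n)
    (hδ : S.δ = 1) : Nat.card F ^ n ≤ 2 * Nat.card (ConjClasses S.isoms) := by
  classical
  haveI := (card_monicDeg (F := F) n).1
  haveI := Fintype.ofFinite (MonicDeg F n)
  refine le_trans ?_ (Nat.mul_le_mul_left 2 (card_attained_le S hε hn (by omega)))
  have hdeg : ∀ p : MonicDeg F n, (C (ε * p.1.coeff 0) * X).degree < p.1.degree := fun p => by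
    rw [degree_eq_natDegree p.2.1.ne_zero, p.2.2]
    exact (degree_C_mul_X_le _).trans_lt (by exact_mod_cast (show 1 < n by omega))
  let flip : MonicDeg F n → MonicDeg F n := fun p =>
    ⟨p.1 + C (ε * p.1.coeff 0) * X, p.2.1.add_of_left (hdeg p), by
      rw [natDegree_eq_of_degree_eq (degree_add_eq_left_of_degree_lt (hdeg p)), p.2.2]⟩
  have hle : Nat.card {p : MonicDeg F n // ¬ Attained S p} ≤ Nat.card {p : MonicDeg F n // Attained S p} := by
    refine Nat.card_le_card_of_injective (fun p => ⟨flip p.1, fun _ => Or.inr ?_⟩) fun a b h => ?_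
    · have hbad := p.2
      simp only [Attained, Classical.not_imp, not_or] at hbad
      obtain ⟨-, h0, hne⟩ := hbad
      have hs : sigmaP (flip p.1).1 = sigmaP p.1.1 + ε := by
        simp only [flip, sigmaP, coeff_add, coeff_C_mul, coeff_X_one, coeff_X_zero, mul_zero, add_zero, mul_one]
        rw [add_div, mul_div_cancel_right₀ _ h0]
      rw [hs, psi_add hε, psi_eps hε]
      rcases S.gauss_top_eq hε hδ hn with hg | hg <;> rcases psi_eq (sigmaP p.1.1) with hs1 | hs1 <;>
        rw [hs1, hg] at hne ⊢ <;> first | ring1 | exact absurd (by ring) hne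
    · have h' := congrArg (fun x : {p : MonicDeg F n // Attained S p} => x.1.1) h
      have h0 := congrArg (fun x : F[X] => x.coeff 0) h'
      simp only [flip, coeff_add, coeff_C_mul, coeff_X_zero, mul_zero, add_zero] at h0
      simp only [flip] at h'
      rw [h0] at h'
      exact Subtype.ext (Subtype.ext (add_right_cancel h'))
  rw [← (card_monicDeg (F := F) n).2, Nat.card_eq_fintype_card, Nat.card_eq_fintype_card]
  simp only [Nat.card_eq_fintype_card, Fintype.card_subtype_compl] at hle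
  omega

end CfsgLib.CharTwoClasses
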