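import Cfsg.Agent.Lib.CharTwoClasses.Peel
import Cfsg.Agent.Lib.CharTwoClasses.CodeSeries

/-!
# Counting the admissible label multisets
-/

set_option autoImplicit false

namespace CfsgLib.CharTwoClasses

open Finset

/-- The admissible label multisets; `d` says that a quadratic form is present. -/
structure UOK (d : Bool) (s : Multiset ULab) : Prop where
  good : ∀ l ∈ s, (l.pr = false → 2 ≤ l.size ∧ Even l.size) ∧
    (l.pr = true → 1 ≤ l.size ∧ (l.tau = true → Odd l.size)) ∧
    (d = false → l.tau = true → (l.pr = false → 3 ≤ l.size) ∧ (l.pr = true → 2 ≤ l.size))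
  cyc_le : ∀ m, s.count ⟨false, m, false⟩ + s.count ⟨false, m, true⟩ ≤ 2
  tw_le : ∀ pr m, s.count ⟨pr, m, true⟩ ≤ 1
  cyc_tw : ∀ m, ⟨false, m, true⟩ ∈ s → ∀ l ∈ s, ¬ (l.pr = true ∧ l.size + 1 = m) ∧ ¬ (l.pr = false ∧ l.size + 2 = m)
  pair_tw : ∀ m, ⟨true, m, true⟩ ∈ s → ∀ l ∈ s, ¬ (l.pr = false ∧ l.size + 1 = m)

theorem countP_cyc (L : List ULab) (m : ℕ) :
    cntCyc L m = L.count ⟨false, m, false⟩ + L.count ⟨false, m, true⟩ := by
  induction L with
  | nil => rfl
  | cons a L ih =>
    obtain ⟨pr, k, τ⟩ := a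
    simp only [cntCyc, List.countP_cons, List.count_cons, beq_iff_eq, ULab.mk.injEq] at ih ⊢
    rw [ih]
    cases pr <;> cases τ <;> simp <;> omega

theorem countP_tw (L : List ULab) (pr : Bool) (m : ℕ) : cntTw L pr m = L.count ⟨pr, m, true⟩ := by
  rw [cntTw, List.count]
  refine congrArg (fun p => List.countP p L) (funext fun l => ?_)
  obtain ⟨a, b, c⟩ := l
  rw [Bool.eq_iff_iff]
  simp [and_assoc]

theorem Valid.uok {F : Type*} [Field F] {δ : F} {L : List ULab} (h : Valid δ L) {d : Bool} (hd : d = false → δ = 0) :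
    UOK d (L : Multiset ULab) where
  good l hl := ⟨(h.good l hl).1, (h.good l hl).2.1, fun e => (h.good l hl).2.2 (hd e)⟩
  cyc_le m := by rw [Multiset.coe_count, Multiset.coe_count, ← countP_cyc]; exact h.cyc_le m
  tw_le pr m := by rw [Multiset.coe_count, ← countP_tw]; exact h.tw_le pr m
  cyc_tw m hm l hl := h.cyc_tw m hm l hl
  pair_tw m hm l hl := h.pair_tw m hm l hl

/-- Only pairs of even size. -/
def UPlain (s : Multiset ULab) : Prop := ∀ l ∈ s, l.pr = true ∧ Even l.size

/-- The total weight. -/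
def uwt (s : Multiset ULab) : ℕ := (s.map ULab.wt).sum

/-- The multiplicities at layer `k`. -/
def codeOf (s : Multiset ULab) (k : ℕ) : Code :=
  ⟨s.count ⟨true, 2 * k + 1, false⟩, s.count ⟨true, 2 * k + 1, true⟩, s.count ⟨false, 2 * k + 2, false⟩,
    s.count ⟨false, 2 * k + 2, true⟩, s.count ⟨true, 2 * k + 2, false⟩⟩

/-- The first layers, last one first. -/
def codesOf (s : Multiset ULab) : ℕ → List Code
  | 0 => []
  | k + 1 => codeOf s k :: codesOf s k

theorem codesOf_length (s : Multiset ULab) : ∀ K, (codesOf s K).length = K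
  | 0 => rfl
  | k + 1 => by simp [codesOf, codesOf_length s k]

theorem clearTop_codes {d : Bool} {s : Multiset ULab} (h : UOK d s) (k : ℕ)
    (hno : ∀ l ∈ s, ¬ (l.pr = false ∧ l.size = 2 * k)) : clearTop (codesOf s k) = true := by
  rcases k with _ | k
  · rfl
  have e : ∀ τ, s.count ⟨false, 2 * k + 2, τ⟩ = 0 := fun τ =>
    Multiset.count_eq_zero.2 fun hm => hno _ hm ⟨rfl, by show 2 * k + 2 = 2 * (k + 1); omega⟩
  simp [codesOf, clearTop, Code.clear, codeOf, e]

theorem codesOf_mem {d : Bool} {s : Multiset ULab} (h : UOK d s) {N : ℕ} (hN : s.card < N) :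
    ∀ K, codesOf s K ∈ conf d N K
  | 0 => by simp [codesOf, conf]
  | k + 1 => by
    simp only [conf, mem_image, mem_filter, mem_product]
    refine ⟨(codesOf s k, codeOf s k), ⟨⟨codesOf_mem h hN k, ?_⟩, ?_⟩, rfl⟩
    · have hc : ∀ a, s.count a < N := fun a => lt_of_le_of_lt (Multiset.count_le_card a s) hN
      have h1 := h.tw_le true (2 * k + 1)
      have h2 := h.tw_le false (2 * k + 2)
      have h3 := h.cyc_le (2 * k + 2)
      rw [mem_box]
      exact ⟨hc _, by simp only [codeOf]; omega, by simp only [codeOf]; omega, by simp only [codeOf]; omega, hc _⟩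
    · refine ⟨h.tw_le _ _, h.cyc_le _, h.tw_le _ _, fun e => ?_, fun e => ?_⟩
      · have hm : (⟨true, 2 * k + 1, true⟩ : ULab) ∈ s := by
          rw [← Multiset.one_le_count_iff_mem]; exact le_of_eq e.symm
        rw [freeAt, clearTop_codes h k fun l hl hl' => h.pair_tw _ hm l hl ⟨hl'.1, by rw [hl'.2]⟩, Bool.true_and,
          codesOf_length]
        cases hd : d
        · have := ((h.good _ hm).2.2 hd rfl).2 rfl
          simp only at this
          simp only [Bool.false_or, decide_eq_true_eq]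
          omega
        · rfl
      · have hm : (⟨false, 2 * k + 2, true⟩ : ULab) ∈ s := by
          rw [← Multiset.one_le_count_iff_mem]; exact le_of_eq e.symm
        refine ⟨?_, ?_⟩
        · have e' : ∀ τ, s.count ⟨true, 2 * k + 1, τ⟩ = 0 := fun τ =>
            Multiset.count_eq_zero.2 fun hm' => (h.cyc_tw _ hm _ hm').1 ⟨rfl, rfl⟩
          simp [codeOf, e']
        · rw [freeAt, clearTop_codes h k fun l hl hl' => (h.cyc_tw _ hm l hl).2 ⟨hl'.1, by rw [hl'.2]⟩, Bool.true_and,
            codesOf_length]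
          cases hd : d
          · have := ((h.good _ hm).2.2 hd rfl).1 rfl
            simp only at this
            simp only [Bool.false_or, decide_eq_true_eq]
            omega
          · rfl

theorem plainAll_codes {s : Multiset ULab} (h : UPlain s) : ∀ K, plainAll (codesOf s K) = true
  | 0 => rfl
  | k + 1 => by
    have e1 : ∀ τ, s.count ⟨true, 2 * k + 1, τ⟩ = 0 := fun τ =>
      Multiset.count_eq_zero.2 fun hm => Nat.not_even_iff_odd.2 ⟨k, rfl⟩ (h _ hm).2
    have e2 : ∀ τ, s.count ⟨false, 2 * k + 2, τ⟩ = 0 := fun τ =>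
      Multiset.count_eq_zero.2 fun hm => by simpa using (h _ hm).1
    have ih := plainAll_codes h k
    simp only [plainAll, codesOf, List.all_cons, Bool.and_eq_true] at ih ⊢
    exact ⟨by simp [Code.plain, codeOf, e1, e2], ih⟩

theorem codeOf_eq_of_codesOf {s t : Multiset ULab} : ∀ {K : ℕ}, codesOf s K = codesOf t K →
    ∀ k < K, codeOf s k = codeOf t k
  | 0, _, k, hk => absurd hk (Nat.not_lt_zero k)
  | K + 1, h, k, hk => by
    simp only [codesOf, List.cons.injEq] at h
    rcases Nat.lt_succ_iff_lt_or_eq.1 hk with hk | rfl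
    · exact codeOf_eq_of_codesOf h.2 k hk
    · exact h.1

theorem codesOf_inj {d : Bool} {s t : Multiset ULab} (hs : UOK d s) (ht : UOK d t) {K : ℕ}
    (hsK : ∀ l ∈ s, l.size ≤ 2 * K) (htK : ∀ l ∈ t, l.size ≤ 2 * K) (h : codesOf s K = codesOf t K) : s = t := by
  refine Multiset.ext.2 fun a => ?_
  by_cases hmem : a ∈ s ∨ a ∈ t
  swap
  · simp only [not_or] at hmem
    rw [Multiset.count_eq_zero.2 hmem.1, Multiset.count_eq_zero.2 hmem.2]
  have hg : a.size ≤ 2 * K ∧ (a.pr = false → 2 ≤ a.size ∧ Even a.size) ∧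
      (a.pr = true → 1 ≤ a.size ∧ (a.tau = true → Odd a.size)) := by
    rcases hmem with hm | hm
    · exact ⟨hsK a hm, (hs.good a hm).1, (hs.good a hm).2.1⟩
    · exact ⟨htK a hm, (ht.good a hm).1, (ht.good a hm).2.1⟩
  obtain ⟨pr, m, τ⟩ := a
  simp only at hg
  obtain ⟨hmK, hcyc, hpair⟩ := hg
  cases pr
  · obtain ⟨h2, r, hr⟩ := hcyc rfl
    have e := codeOf_eq_of_codesOf h (r - 1) (by omega)
    simp only [codeOf, Code.mk.injEq, show 2 * (r - 1) + 2 = m by omega] at e
    cases τ
    · exact e.2.2.1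
    · exact e.2.2.2.1
  · obtain ⟨h1, hodd⟩ := hpair rfl
    rcases Nat.even_or_odd m with ⟨r, hr⟩ | ⟨r, hr⟩
    · cases τ
      · have e := codeOf_eq_of_codesOf h (r - 1) (by omega)
        simp only [codeOf, Code.mk.injEq, show 2 * (r - 1) + 2 = m by omega] at e
        exact e.2.2.2.2
      · exact absurd (hodd rfl) (Nat.not_odd_iff_even.2 ⟨r, hr⟩)
    · have e := codeOf_eq_of_codesOf h r (by omega)
      simp only [codeOf, Code.mk.injEq, show 2 * r + 1 = m by omega] at e
      cases τ
      · exact e.1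
      · exact e.2.1

theorem codesWt_codesOf : ∀ (s : Multiset ULab) (K : ℕ),
    (∀ l ∈ s, l.size ≤ 2 * K ∧ (l.pr = false → 2 ≤ l.size ∧ Even l.size) ∧
      (l.pr = true → 1 ≤ l.size ∧ (l.tau = true → Odd l.size))) → codesWt (codesOf s K) = uwt s := by
  intro s K
  have z : ∀ K, codesWt (codesOf 0 K) = 0 := fun K => by
    induction K with
    | zero => rfl
    | succ k ih => simp [codesOf, codesWt, ih, codeOf, Code.wt]
  induction s using Multiset.induction with
  | empty => intro _; rw [z]; rfl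
  | cons a s ih =>
    intro h
    obtain ⟨haK, hcyc, hpair⟩ := h a (Multiset.mem_cons_self a s)
    have hstep : ∀ K, codesWt (codesOf (a ::ₘ s) K) = codesWt (codesOf s K) + if a.size ≤ 2 * K then a.wt else 0 := by
      intro K
      induction K with
      | zero =>
        rcases Nat.eq_zero_or_pos a.size with h0 | hp
        · exfalso
          cases hpr : a.pr
          · have := (hcyc hpr).1; omega
          · have := (hpair hpr).1; omega
        · rw [if_neg (by omega)]; rfl
      | succ k ihk =>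
        simp only [codesOf, codesWt, codesOf_length, ihk]
        obtain ⟨pr, m, τ⟩ := a
        simp only [codeOf, Code.wt, Multiset.count_cons, ULab.mk.injEq, ULab.wt] at haK hcyc hpair ⊢
        cases pr
        · obtain ⟨h2, r, hr⟩ := hcyc rfl
          cases τ <;> simp <;> split_ifs <;> (try simp only [Nat.mul_add, Nat.add_mul, Nat.mul_one]) <;> omega
        · obtain ⟨h1, hodd⟩ := hpair rfl
          cases τ
          · simp <;> split_ifs <;> (try simp only [Nat.mul_add, Nat.add_mul, Nat.mul_one]) <;> omega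
          · obtain ⟨r, hr⟩ := hodd rfl
            simp <;> split_ifs <;> (try simp only [Nat.mul_add, Nat.add_mul, Nat.mul_one]) <;> omega
    rw [hstep, if_pos haK, ih fun l hl => h l (Multiset.mem_cons_of_mem hl)]
    simp [uwt, Nat.add_comm]

theorem wt_bounds {d : Bool} {s : Multiset ULab} (h : UOK d s) :
    s.card ≤ uwt s ∧ ∀ l ∈ s, l.size ≤ 2 * uwt s := by
  have h1 : ∀ l ∈ s, 1 ≤ l.wt ∧ l.size ≤ 2 * l.wt := fun l hl => by
    obtain ⟨hc, hp, -⟩ := h.good l hl
    cases hpr : l.pr
    · obtain ⟨h2, r, hr⟩ := hc hpr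
      simp only [ULab.wt, hpr, cond_false]
      omega
    · have := (hp hpr).1
      simp only [ULab.wt, hpr, cond_true]
      omega
  refine ⟨?_, fun l hl => ?_⟩
  · have := Multiset.card_nsmul_le_sum (s := s.map ULab.wt) (a := 1) fun x hx => by
      obtain ⟨l, hl, rfl⟩ := Multiset.mem_map.1 hx
      exact (h1 l hl).1
    simpa [uwt] using this
  · exact (h1 l hl).2.trans (Nat.mul_le_mul_left 2 (Multiset.le_sum_of_mem (Multiset.mem_map_of_mem _ hl)))

/-- The codes of a multiset of bounded weight. -/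
theorem codes_spec {d : Bool} {s : Multiset ULab} (h : UOK d s) {M : ℕ} (hM : uwt s ≤ M) :
    codesOf s (M + 12) ∈ conf d (M + 1) (M + 12) ∧ (∀ l ∈ s, l.size ≤ 2 * (M + 12)) ∧
      codesWt (codesOf s (M + 12)) = uwt s := by
  obtain ⟨hc, hsz⟩ := wt_bounds h
  have hsz' : ∀ l ∈ s, l.size ≤ 2 * (M + 12) := fun l hl => (hsz l hl).trans (by omega)
  exact ⟨codesOf_mem h (by omega) _, hsz', codesWt_codesOf s _ fun l hl => ⟨hsz' l hl, (h.good l hl).1, (h.good l hl).2.1⟩⟩

theorem uset_finite (d : Bool) (m : ℕ) : {s : Multiset ULab | UOK d s ∧ uwt s = m}.Finite := by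
  refine Set.Finite.of_finite_image ((conf d (m + 1) (m + 12)).finite_toSet.subset ?_)
    (f := fun s => codesOf s (m + 12)) fun s hs t ht e => ?_
  · rintro _ ⟨s, hs, rfl⟩
    exact (codes_spec hs.1 hs.2.le).1
  · exact codesOf_inj hs.1 ht.1 (codes_spec hs.1 hs.2.le).2.1 (codes_spec ht.1 ht.2.le).2.1 e

/-- The admissible multisets of a weight. -/
noncomputable def uset (d : Bool) (m : ℕ) : Finset (Multiset ULab) := (uset_finite d m).toFinset

theorem mem_uset {d : Bool} {m : ℕ} {s : Multiset ULab} : s ∈ uset d m ↔ UOK d s ∧ uwt s = m := by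
  simp [uset]

attribute [local instance] Classical.propDecidable

/-- The plain multisets of a weight. -/
noncomputable def eset (m : ℕ) : Finset (Multiset ULab) := (uset true m).filter UPlain

theorem series_map {d : Bool} (M : ℕ) (A : ℕ → Finset (Multiset ULab)) (hA : ∀ m, A m ⊆ uset d m)
    (T : Finset (List Code)) (hT : ∀ m < M, ∀ s ∈ A m, codesOf s (M + 12) ∈ T) :
    ∑ m ∈ range M, ((A m).card : ℝ) * (1 / 2) ^ m ≤ ∑ l ∈ T, (1 / 2 : ℝ) ^ codesWt l := by
  have hmem : ∀ p ∈ (range M).sigma A, UOK d p.2 ∧ uwt p.2 = p.1 ∧ uwt p.2 ≤ M ∧ p.1 < M := fun p hp => by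
    rw [mem_sigma, mem_range] at hp
    obtain ⟨h1, h2⟩ := mem_uset.1 (hA _ hp.2)
    exact ⟨h1, h2, by omega, hp.1⟩
  calc _ = ∑ p ∈ (range M).sigma A, (1 / 2 : ℝ) ^ p.1 := by
        rw [sum_sigma]; exact sum_congr rfl fun m _ => by simp
    _ = ∑ l ∈ ((range M).sigma A).image (fun p => codesOf p.2 (M + 12)), (1 / 2 : ℝ) ^ codesWt l := by
        rw [sum_image fun p hp p' hp' e => ?_]
        · exact sum_congr rfl fun p hp => by
            obtain ⟨h1, h2, h3, -⟩ := hmem p hp
            rw [(codes_spec h1 h3).2.2, h2]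
        · obtain ⟨h1, h2, h3, -⟩ := hmem p hp
          obtain ⟨h1', h2', h3', -⟩ := hmem p' hp'
          have es := codesOf_inj h1 h1' (codes_spec h1 h3).2.1 (codes_spec h1' h3').2.1 e
          refine Sigma.ext ?_ (heq_of_eq es)
          rw [← h2, ← h2', es]
    _ ≤ _ := sum_le_sum_of_subset_of_nonneg (fun l hl => by
        obtain ⟨p, hp, rfl⟩ := mem_image.1 hl
        exact hT _ (hmem p hp).2.2.2 _ (mem_sigma.1 hp).2) fun _ _ _ => by positivity

theorem sum_uset_sp (M : ℕ) : ∑ m ∈ range M, ((uset false m).card : ℝ) * (1 / 2) ^ m ≤ 76 / 5 := by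
  refine (series_map M _ (fun m => Subset.refl _) (conf false (M + 1) (M + 12)) fun m hm s hs => ?_).trans
    (sp_series_le (by omega))
  obtain ⟨h1, h2⟩ := mem_uset.1 hs
  exact (codes_spec h1 (by omega)).1

theorem sum_uset_o_only (M : ℕ) : ∑ m ∈ range M, ((uset true m).card : ℝ) * (1 / 2) ^ m ≤ 128 / 5 := by
  refine (series_map M _ (fun m => Subset.refl _) (conf true (M + 1) (M + 12)) fun m hm s hs => ?_).trans
    (o_series_only_le (by omega))
  obtain ⟨h1, h2⟩ := mem_uset.1 hs
  exact (codes_spec h1 (by omega)).1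

theorem sum_uset_o (M : ℕ) :
    ∑ m ∈ range M, (((uset true m).card : ℝ) + (eset m).card) * (1 / 2) ^ m ≤ 30 := by
  simp only [add_mul, sum_add_distrib]
  refine (add_le_add
    (series_map (d := true) M _ (fun m => Subset.refl _) (conf true (M + 1) (M + 12)) fun m hm s hs => ?_)
    (series_map (d := true) M eset (fun m => filter_subset _ _)
      ((conf true (M + 1) (M + 12)).filter fun l => plainAll l = true) fun m hm s hs => ?_)).trans (o_series_le (by omega))
  · obtain ⟨h1, h2⟩ := mem_uset.1 hs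
    exact (codes_spec h1 (by omega)).1
  · rw [eset, mem_filter] at hs
    obtain ⟨h1, h2⟩ := mem_uset.1 hs.1
    exact mem_filter.2 ⟨(codes_spec h1 (by omega)).1, plainAll_codes hs.2 _⟩

/-! ### Monotonicity -/

/-- One more pair of size one, or `V(2)` with bit traded for a pair of size two. -/
noncomputable def bump (s : Multiset ULab) : Multiset ULab :=
  if (⟨false, 2, true⟩ : ULab) ∈ s then ⟨true, 2, false⟩ ::ₘ s.erase ⟨false, 2, true⟩ else ⟨true, 1, false⟩ ::ₘ s

theorem UOK.of_le {d : Bool} {s t : Multiset ULab} (h : UOK d s) (hts : t ≤ s) : UOK d t where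
  good l hl := h.good l (Multiset.mem_of_le hts hl)
  cyc_le m := (add_le_add (Multiset.count_le_of_le _ hts) (Multiset.count_le_of_le _ hts)).trans (h.cyc_le m)
  tw_le pr m := (Multiset.count_le_of_le _ hts).trans (h.tw_le pr m)
  cyc_tw m hm l hl := h.cyc_tw m (Multiset.mem_of_le hts hm) l (Multiset.mem_of_le hts hl)
  pair_tw m hm l hl := h.pair_tw m (Multiset.mem_of_le hts hm) l (Multiset.mem_of_le hts hl)

theorem UOK.cons_pair {d : Bool} {s : Multiset ULab} (h : UOK d s) {m : ℕ} (hm : 1 ≤ m)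
    (hno : (⟨false, m + 1, true⟩ : ULab) ∉ s) : UOK d (⟨true, m, false⟩ ::ₘ s) where
  good l hl := by
    rcases Multiset.mem_cons.1 hl with rfl | hl
    · exact ⟨fun e => absurd e (by simp), fun _ => ⟨hm, fun e => absurd e (by simp)⟩, fun _ e => absurd e (by simp)⟩
    · exact h.good l hl
  cyc_le k := by
    rw [Multiset.count_cons_of_ne (by simp), Multiset.count_cons_of_ne (by simp)]
    exact h.cyc_le k
  tw_le pr k := by
    rw [Multiset.count_cons_of_ne (by simp)]
    exact h.tw_le pr k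
  cyc_tw k hk l hl := by
    have hk' : (⟨false, k, true⟩ : ULab) ∈ s := (Multiset.mem_cons.1 hk).resolve_left (by simp)
    rcases Multiset.mem_cons.1 hl with rfl | hl
    · exact ⟨fun e => hno (by rw [show m + 1 = k from e.2]; exact hk'), fun e => by simp at e⟩
    · exact h.cyc_tw k hk' l hl
  pair_tw k hk l hl := by
    have hk' : (⟨true, k, true⟩ : ULab) ∈ s := (Multiset.mem_cons.1 hk).resolve_left (by simp)
    rcases Multiset.mem_cons.1 hl with rfl | hl
    · exact fun e => by simp at e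
    · exact h.pair_tw k hk' l hl

theorem uwt_cons (a : ULab) (s : Multiset ULab) : uwt (a ::ₘ s) = a.wt + uwt s := by simp [uwt]

theorem bump_spec {d : Bool} {m : ℕ} {s : Multiset ULab} (hs : s ∈ uset d m) : bump s ∈ uset d (m + 1) := by
  obtain ⟨h, hw⟩ := mem_uset.1 hs
  rw [mem_uset, bump]
  split_ifs with hc
  · refine ⟨(h.of_le (Multiset.erase_le _ s)).cons_pair (by omega) fun hm => ?_, ?_⟩
    · have := (h.good _ (Multiset.mem_of_mem_erase hm)).1 rfl
      exact Nat.not_even_iff_odd.2 ⟨1, rfl⟩ this.2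
    · rw [← Multiset.cons_erase hc, uwt_cons] at hw
      simp only [uwt_cons, ULab.wt, cond_true, cond_false] at hw ⊢
      omega
  · exact ⟨h.cons_pair le_rfl hc, by rw [uwt_cons, hw]; simp [ULab.wt]; omega⟩

theorem bump_injOn (d : Bool) (m : ℕ) : Set.InjOn bump (uset d m : Set (Multiset ULab)) := by
  have key : ∀ s, UOK d s → ((⟨false, 2, true⟩ : ULab) ∈ s ↔ (⟨true, 1, false⟩ : ULab) ∉ bump s) := fun s h => by
    rw [bump]
    constructor
    · intro hc hm
      rw [if_pos hc] at hm
      rcases Multiset.mem_cons.1 hm with e | hm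
      · simp at e
      · exact (h.cyc_tw 2 hc _ (Multiset.mem_of_mem_erase hm)).1 ⟨rfl, rfl⟩
    · intro hn
      by_contra hc
      rw [if_neg hc] at hn
      exact hn (Multiset.mem_cons_self _ _)
  intro s hs t ht e
  rw [Finset.mem_coe, mem_uset] at hs ht
  have hst : (⟨false, 2, true⟩ : ULab) ∈ s ↔ (⟨false, 2, true⟩ : ULab) ∈ t := by rw [key s hs.1, key t ht.1, e]
  rw [bump, bump] at e
  by_cases hc : (⟨false, 2, true⟩ : ULab) ∈ s
  · rw [if_pos hc, if_pos (hst.1 hc), Multiset.cons_inj_right] at e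
    rw [← Multiset.cons_erase hc, e, Multiset.cons_erase (hst.1 hc)]
  · rw [if_neg hc, if_neg (mt hst.2 hc), Multiset.cons_inj_right] at e
    exact e

theorem card_uset_mono (d : Bool) (m : ℕ) : (uset d m).card ≤ (uset d (m + 1)).card :=
  card_le_card_of_injOn bump (fun _ hs => bump_spec hs) (bump_injOn d m)

/-! ### The label sets of a form -/

variable {F : Type*} [Field F]

/-- The label multisets of the normal forms of a weight. -/
abbrev LabSet (delta : F) (n : ℕ) : Type :=
  {L : Multiset ULab // ∃ l : List ULab, (l : Multiset ULab) = L ∧ Valid delta l ∧ wtSum l = n}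

theorem labSet_mem {delta : F} {d : Bool} (hd : d = false → delta = 0) {n : ℕ} (L : LabSet delta n) :
    L.1 ∈ uset d n := by
  obtain ⟨l, hl, hv, hw⟩ := L.2
  rw [mem_uset, ← hl]
  refine ⟨hv.uok hd, ?_⟩
  rw [← hw, uwt, wtSum, Multiset.map_coe, Multiset.sum_coe]

theorem finite_labSet (delta : F) (n : ℕ) : Finite (LabSet delta n) :=
  Finite.of_injective (fun L => (⟨L.1, labSet_mem (d := true) (by simp) L⟩ : ↥(uset true n)))
    fun _ _ e => Subtype.ext (congrArg (fun x : ↥(uset true n) => x.1) e)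

theorem valid_of_uok {delta : F} {d : Bool} (hd : delta = 0 → d = false) {l : List ULab} (h : UOK d (l : Multiset ULab)) :
    Valid delta l where
  good a ha := ⟨(h.good a ha).1, (h.good a ha).2.1, fun e => (h.good a ha).2.2 (hd e)⟩
  cyc_le m := by rw [countP_cyc]; simpa using h.cyc_le m
  tw_le pr m := by rw [countP_tw]; simpa using h.tw_le pr m
  cyc_tw m hm a ha := h.cyc_tw m hm a ha
  pair_tw m hm a ha := h.pair_tw m hm a ha

theorem card_labSet_eq {delta : F} {d : Bool} (hd : delta = 0 ↔ d = false) (n : ℕ) :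
    Nat.card (LabSet delta n) = (uset d n).card := by
  rw [← Nat.card_eq_finsetCard]
  refine Nat.card_congr {
    toFun := fun L => ⟨L.1, labSet_mem hd.2 L⟩
    invFun := fun s => ⟨s.1, ?_⟩
    left_inv := fun L => rfl
    right_inv := fun s => rfl }
  obtain ⟨h, hw⟩ := mem_uset.1 s.2
  refine ⟨s.1.toList, s.1.coe_toList, valid_of_uok hd.1 (by rw [s.1.coe_toList]; exact h), ?_⟩
  refine Eq.trans ?_ hw
  conv_rhs => rw [← s.1.coe_toList]
  rw [uwt, wtSum, Multiset.map_coe, Multiset.sum_coe]

theorem sum_labSet_zero_le (N : ℕ) :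
    ∑ n ∈ range N, (Nat.card (LabSet (0 : F) n) : ℝ) * (1 / 2) ^ n ≤ 76 / 5 := by
  simp only [card_labSet_eq (delta := (0 : F)) (d := false) (by simp)]
  exact sum_uset_sp N

theorem sum_labSet_one_le (N : ℕ) :
    ∑ n ∈ range N, (Nat.card (LabSet (1 : F) n) : ℝ) * (1 / 2) ^ n ≤ 128 / 5 := by
  simp only [card_labSet_eq (delta := (1 : F)) (d := true) (by simp)]
  exact sum_uset_o_only N

theorem card_labSet_mono (delta : F) (n : ℕ) : Nat.card (LabSet delta n) ≤ Nat.card (LabSet delta (n + 1)) := by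
  by_cases h : delta = 0
  · simp only [card_labSet_eq (delta := delta) (d := false) (by simp [h])]
    exact card_uset_mono _ _
  · simp only [card_labSet_eq (delta := delta) (d := true) (by simp [h])]
    exact card_uset_mono _ _

end CfsgLib.CharTwoClasses
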