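import Cfsg.Agent.Lib.CharTwoClasses.Classes
import Cfsg.Agent.Lib.CharTwoClasses.CoreCount
import Cfsg.Agent.Lib.CharTwoClasses.LabelCount

/-!
# Upper bounds for the number of classes
-/

set_option autoImplicit false
set_option linter.unusedSectionVars false
set_option linter.style.haveILetI false

namespace CfsgLib.CharTwoClasses

open Polynomial

universe u v

variable {F : Type u} [Field F] [CharP F 2] [Finite F] {V : Type v} [AddCommGroup V] [Module F V] [Finite V]
  (S : Sys F V)

theorem card_labSet_le_one (δ : F) : Nat.card (LabSet δ 0) ≤ 1 := by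
  haveI : Subsingleton (LabSet δ 0) := by
    refine ⟨fun a b => ?_⟩
    have h0 : ∀ L : LabSet δ 0, L.1 = 0 := fun L => by
      obtain ⟨l, hl, hv, hw⟩ := L.2
      rcases l with _ | ⟨x, t⟩
      · exact hl.symm
      · obtain ⟨h1, h2, -⟩ := hv.good x List.mem_cons_self
        simp only [wtSum, List.map_cons, List.sum_cons] at hw
        obtain ⟨pr, m, τ⟩ := x
        cases pr
        · have := (h1 rfl).1; simp only [ULab.wt, cond_false] at hw this; omega
        · have := (h2 rfl).1; simp only [ULab.wt, cond_true] at hw this; omega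
    exact Subtype.ext ((h0 a).trans (h0 b).symm)
  exact Finite.card_le_one_iff_subsingleton.2 inferInstance

/-- The labels of each class, and its core with the sign fixed by the labels. -/
theorem card_classes_le_sigma {ε : F} (hε : IsEps ε) {n : ℕ} (hn : Module.finrank F V = 2 * n) :
    ∃ s : ∀ j : ℕ, LabSet S.δ j → ℤ, Nat.card (ConjClasses S.isoms) ≤
      ∑ j : Fin (n + 1), ∑ᶠ L : LabSet S.δ (j : ℕ),
        Nat.card {K : CoreSet F (n - (j : ℕ)) // S.δ = 1 → psi (sigmaP (corePoly K.1)) = s j L} := by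
  classical
  haveI := Fintype.ofFinite F
  obtain ⟨key, hinj, hmem, hsign⟩ := S.exists_key hε hn
  let s : ∀ j : ℕ, LabSet S.δ j → ℤ := fun j L =>
    if h : ∃ c, (key c).1 = L.1 then psi (sigmaP (corePoly (key h.choose).2)) else 1
  refine ⟨s, ?_⟩
  haveI : ∀ j, Finite (LabSet S.δ j) := fun j => finite_labSet _ j
  haveI : ∀ j, Finite (CoreSet F j) := fun j => finite_coreSet j
  haveI : ∀ j, Fintype (LabSet S.δ j) := fun j => Fintype.ofFinite _
  have h : ∀ c, ∃ (j : Fin (n + 1)) (L : LabSet S.δ (j : ℕ)) (K : CoreSet F (n - (j : ℕ))),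
      L.1 = (key c).1 ∧ K.1 = (key c).2 := fun c => by
    obtain ⟨⟨l, hl, hv, hw⟩, hG⟩ := hmem c
    exact ⟨⟨wtSum l, by omega⟩, ⟨_, l, hl, hv, rfl⟩, ⟨_, hG, by simp only; omega⟩, rfl, rfl⟩
  choose j L K hL hK using h
  let T := Σ x : Fin (n + 1), Σ L : LabSet S.δ (x : ℕ),
    {K : CoreSet F (n - (x : ℕ)) // S.δ = 1 → psi (sigmaP (corePoly K.1)) = s x L}
  let f : ConjClasses S.isoms → T := fun c => ⟨j c, L c, K c, fun hδ => by
    have hex : ∃ c', (key c').1 = (L c).1 := ⟨c, (hL c).symm⟩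
    simp only [s, dif_pos hex, hK c]
    exact hsign hδ c hex.choose ((hL c).symm.trans hex.choose_spec.symm)⟩
  have hf : Function.Injective f := fun c c' e => by
    refine hinj (Prod.ext ?_ ?_)
    · rw [← hL c, ← hL c']
      exact congrArg (fun t : T => t.2.1.1) e
    · rw [← hK c, ← hK c']
      exact congrArg (fun t : T => t.2.2.1.1) e
  refine (Nat.card_le_card_of_injective f hf).trans (le_of_eq ?_)
  rw [Nat.card_sigma]
  refine Finset.sum_congr rfl fun x _ => ?_
  rw [Nat.card_sigma, finsum_eq_sum_of_fintype]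

theorem card_classes_le_sum {ε : F} (hε : IsEps ε) {n : ℕ} (hn : Module.finrank F V = 2 * n) :
    Nat.card (ConjClasses S.isoms) ≤
      ∑ j ∈ Finset.range (n + 1), Nat.card (LabSet S.δ j) * Nat.card F ^ (n - j) := by
  classical
  haveI := Fintype.ofFinite F
  obtain ⟨s, hs⟩ := card_classes_le_sigma S hε hn
  haveI : ∀ j, Finite (CoreSet F j) := fun j => finite_coreSet j
  haveI : ∀ j, Finite (LabSet S.δ j) := fun j => finite_labSet _ j
  haveI : ∀ j, Fintype (LabSet S.δ j) := fun j => Fintype.ofFinite _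
  rw [← Fin.sum_univ_eq_sum_range (fun j => Nat.card (LabSet S.δ j) * Nat.card F ^ (n - j))]
  refine hs.trans (Finset.sum_le_sum fun x _ => ?_)
  rw [finsum_eq_sum_of_fintype, Nat.card_eq_fintype_card (α := LabSet S.δ (x : ℕ)), ← smul_eq_mul,
    ← Finset.card_univ]
  refine Finset.sum_le_card_nsmul _ _ _ fun L _ => ?_
  refine (Nat.card_le_card_of_injective _ Subtype.val_injective).trans ?_
  rw [Nat.card_eq_fintype_card (α := F)]
  exact card_coreSet_le _

/-- A sum of counts is a series in the reciprocal of the field order. -/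
theorem cast_sum_mul_pow (u : ℕ → ℕ) (q n : ℕ) (hq : 0 < q) :
    ((∑ j ∈ Finset.range (n + 1), u j * q ^ (n - j) : ℕ) : ℝ) =
      (q : ℝ) ^ n * ∑ j ∈ Finset.range (n + 1), (u j : ℝ) * (1 / (q : ℝ)) ^ j := by
  push_cast
  rw [Finset.mul_sum]
  refine Finset.sum_congr rfl fun j hj => ?_
  have hjn : j ≤ n := Nat.lt_succ_iff.1 (Finset.mem_range.1 hj)
  have hq0 : (q : ℝ) ≠ 0 := by positivity
  rw [show (q : ℝ) ^ n = (q : ℝ) ^ (n - j) * (q : ℝ) ^ j by rw [← pow_add, Nat.sub_add_cancel hjn], div_pow, one_pow]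
  field_simp

theorem two_le_card : 2 ≤ Nat.card F := Finite.one_lt_card

/-- The symplectic upper bound. -/
theorem card_classes_le {ε : F} (hε : IsEps ε) {n : ℕ} (hn : Module.finrank F V = 2 * n) (hδ : S.δ = 0) :
    5 * Nat.card (ConjClasses S.isoms) ≤ 76 * Nat.card F ^ n := by
  have h1 := card_classes_le_sum S hε hn
  rw [hδ] at h1
  have h2 : (Nat.card (ConjClasses S.isoms) : ℝ) ≤ _ := Nat.cast_le.2 h1
  rw [cast_sum_mul_pow _ _ _ (by have := two_le_card (F := F); omega)] at h2
  have hq : (2 : ℝ) ≤ (Nat.card F : ℝ) := by exact_mod_cast two_le_card (F := F)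
  have h3 : ∑ j ∈ Finset.range (n + 1), (Nat.card (LabSet (0 : F) j) : ℝ) * (1 / (Nat.card F : ℝ)) ^ j ≤ 76 / 5 := by
    refine le_trans (Finset.sum_le_sum fun j _ => ?_) (sum_labSet_zero_le (F := F) (n + 1))
    exact mul_le_mul_of_nonneg_left (pow_le_pow_left₀ (by positivity)
      (one_div_le_one_div_of_le (by norm_num) hq) j) (Nat.cast_nonneg _)
  have h4 := h2.trans (mul_le_mul_of_nonneg_left h3 (by positivity))
  have h5 : (5 : ℝ) * Nat.card (ConjClasses S.isoms) ≤ 76 * (Nat.card F : ℝ) ^ n := by linarith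
  exact_mod_cast h5

/-- The orthogonal upper bound over two elements. -/
theorem card_classes_le_two (hq : Nat.card F = 2) {ε : F} (hε : IsEps ε) {n : ℕ} (hn : Module.finrank F V = 2 * n)
    (hδ : S.δ = 1) :
    16 * Nat.card (ConjClasses S.isoms) ≤
      ∑ j ∈ Finset.range n, Nat.card (LabSet S.δ j) * (9 * 2 ^ (n - j)) + 16 * Nat.card (LabSet S.δ n) := by
  classical
  haveI := Fintype.ofFinite F
  obtain ⟨s, hs⟩ := card_classes_le_sigma S hε hn
  haveI : ∀ j, Finite (CoreSet F j) := fun j => finite_coreSet j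
  haveI : ∀ j, Finite (LabSet S.δ j) := fun j => finite_labSet _ j
  haveI : ∀ j, Fintype (LabSet S.δ j) := fun j => Fintype.ofFinite _
  refine (Nat.mul_le_mul_left 16 hs).trans ?_
  rw [Fin.sum_univ_castSucc, Nat.mul_add, Finset.mul_sum]
  refine Nat.add_le_add ?_ ?_
  · rw [← Fin.sum_univ_eq_sum_range (fun j => Nat.card (LabSet S.δ j) * (9 * 2 ^ (n - j)))]
    refine Finset.sum_le_sum fun x _ => ?_
    simp only [Fin.val_castSucc]
    rw [finsum_eq_sum_of_fintype, Finset.mul_sum, Nat.card_eq_fintype_card (α := LabSet S.δ (x : ℕ)), ← smul_eq_mul,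
      ← Finset.card_univ]
    refine Finset.sum_le_card_nsmul _ _ _ fun L _ => ?_
    refine le_trans (Nat.mul_le_mul_left 16 ?_) (card_coreSet_sign (F := F)
      (by rw [← Nat.card_eq_fintype_card, hq]) (show 1 ≤ n - (x : ℕ) by have := x.2; omega) (s x L))
    exact Nat.card_le_card_of_injective (fun K => ⟨K.1, K.2 hδ⟩) fun a b e =>
      Subtype.ext (by simpa [Subtype.ext_iff] using e)
  · simp only [Fin.val_last]
    refine Nat.mul_le_mul_left 16 ?_
    rw [finsum_eq_sum_of_fintype, Nat.card_eq_fintype_card (α := LabSet S.δ n), ← mul_one (Fintype.card _),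
      ← smul_eq_mul, ← Finset.card_univ]
    refine Finset.sum_le_card_nsmul _ _ _ fun L _ => ?_
    refine (Nat.card_le_card_of_injective _ Subtype.val_injective).trans ((card_coreSet_le _).trans ?_)
    simp

/-- The orthogonal upper bound. -/
theorem card_classes_le_orth {ε : F} (hε : IsEps ε) (heven : Even (Nat.card F)) {n : ℕ}
    (hn : Module.finrank F V = 2 * n) (hn1 : 1 ≤ n) (hδ : S.δ = 1) :
    Nat.card (ConjClasses S.isoms) ≤ 15 * Nat.card F ^ n := by
  have hU := fun N => sum_labSet_one_le (F := F) N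
  rcases Nat.lt_or_ge (Nat.card F) 4 with h | h
  · have hq : Nat.card F = 2 := by
      have := two_le_card (F := F); obtain ⟨r, hr⟩ := heven; omega
    have h1 := card_classes_le_two S hq hε hn hδ
    rw [hδ] at h1
    rw [hq]
    have h2 := (Nat.cast_le (α := ℝ)).2 h1
    push_cast at h2
    have ha : ∀ i, i ≤ 3 → (Nat.card (LabSet (1 : F) n) : ℝ) * (1 / 2) ^ (n + i) ≤
        (Nat.card (LabSet (1 : F) (n + i)) : ℝ) * (1 / 2) ^ (n + i) := fun i _ => by
      refine mul_le_mul_of_nonneg_right (Nat.cast_le.2 ?_) (by positivity)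
      induction i with
      | zero => exact le_rfl
      | succ i ih => exact (ih (by omega)).trans (card_labSet_mono _ _)
    have e : ∑ j ∈ Finset.range n, (Nat.card (LabSet (1 : F) j) : ℝ) * (9 * 2 ^ (n - j)) =
        9 * 2 ^ n * ∑ j ∈ Finset.range n, (Nat.card (LabSet (1 : F) j) : ℝ) * (1 / 2) ^ j := by
      rw [Finset.mul_sum]
      refine Finset.sum_congr rfl fun j hj => ?_
      have hjn : j ≤ n := (Finset.mem_range.1 hj).le
      rw [show (2 : ℝ) ^ n = 2 ^ (n - j) * 2 ^ j by rw [← pow_add, Nat.sub_add_cancel hjn], div_pow, one_pow]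
      field_simp
    rw [e] at h2
    have h3 := hU (n + 4)
    rw [Finset.sum_range_add] at h3
    simp only [Finset.sum_range_succ, Finset.sum_range_zero, zero_add] at h3
    have a1 := ha 1 (by norm_num); have a2 := ha 2 (by norm_num); have a3 := ha 3 (by norm_num)
    simp only [pow_add, pow_one, add_zero] at h3 a1 a2 a3
    have hp : (1 / 2 : ℝ) ^ n * 2 ^ n = 1 := by rw [← mul_pow]; norm_num
    set P : ℝ := 2 ^ n with hP
    set R : ℝ := (1 / 2 : ℝ) ^ n with hR
    set A : ℝ := ∑ j ∈ Finset.range n, (Nat.card (LabSet (1 : F) j) : ℝ) * (1 / 2) ^ j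
    set U : ℝ := (Nat.card (LabSet (1 : F) n) : ℝ)
    have hU0 : 0 ≤ U * R := by positivity
    have hA : A + 15 / 8 * (U * R) ≤ 128 / 5 := by linarith
    have hP0 : 0 ≤ P := by positivity
    have h4 : (Nat.card (ConjClasses S.isoms) : ℝ) ≤ 15 * P := by
      have e2 : U = U * R * P := by rw [mul_assoc, hp, mul_one]
      have : 9 * P * A + 16 * U ≤ 240 * P := by
        rw [e2]
        nlinarith
      linarith
    rw [hP] at h4
    exact_mod_cast h4
  · have h1 := card_classes_le_sum S hε hn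
    rw [hδ] at h1
    have h2 : (Nat.card (ConjClasses S.isoms) : ℝ) ≤ _ := Nat.cast_le.2 h1
    rw [cast_sum_mul_pow _ _ _ (by omega)] at h2
    have hq : (4 : ℝ) ≤ (Nat.card F : ℝ) := by exact_mod_cast h
    have h3 := hU (n + 1)
    rw [Finset.sum_range_succ'] at h3 h2
    have h4 : ∀ j : ℕ, (Nat.card (LabSet (1 : F) (j + 1)) : ℝ) * (1 / (Nat.card F : ℝ)) ^ (j + 1) ≤
        1 / 2 * ((Nat.card (LabSet (1 : F) (j + 1)) : ℝ) * (1 / 2) ^ (j + 1)) := fun j => by
      have h5 : (1 / (Nat.card F : ℝ)) ^ (j + 1) ≤ 1 / 2 * (1 / 2) ^ (j + 1) := by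
        refine (pow_le_pow_left₀ (by positivity) (one_div_le_one_div_of_le (by norm_num) hq) _).trans ?_
        rw [show (1 / 4 : ℝ) = 1 / 2 * (1 / 2) by norm_num, mul_pow]
        refine mul_le_mul_of_nonneg_right ?_ (by positivity)
        exact pow_le_of_le_one (by norm_num) (by norm_num) (by omega)
      calc _ ≤ (Nat.card (LabSet (1 : F) (j + 1)) : ℝ) * (1 / 2 * (1 / 2) ^ (j + 1)) :=
            mul_le_mul_of_nonneg_left h5 (Nat.cast_nonneg _)
        _ = _ := by ring
    have h6 := Finset.sum_le_sum (s := Finset.range n) fun j _ => h4 j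
    rw [← Finset.mul_sum] at h6
    have h7 : (Nat.card (LabSet (1 : F) 0) : ℝ) ≤ 1 := by exact_mod_cast card_labSet_le_one (1 : F)
    simp only [pow_zero, mul_one] at h2 h3
    have h8 := h2.trans (mul_le_mul_of_nonneg_left (show _ ≤ (15 : ℝ) by linarith) (by positivity))
    rw [mul_comm] at h8
    exact_mod_cast h8

end CfsgLib.CharTwoClasses
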