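import Cfsg.Prelude.Def_Classical
import Cfsg.Agent.Lib.CharTwoClasses.Upper
import Cfsg.Agent.Lib.CharTwoClasses.Lower

/-!
# The classical groups as isometry groups of systems
-/

set_option autoImplicit false
set_option linter.unusedSectionVars false
set_option linter.style.haveILetI false

namespace CfsgLib.CharTwoClasses

open Matrix

variable {F : Type*} [Field F]

theorem nat_card_classes_congr {G H : Type*} [Group G] [Group H] (e : G ≃* H) :
    Nat.card (ConjClasses G) = Nat.card (ConjClasses H) := by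
  refine Nat.card_congr (Equiv.ofBijective (ConjClasses.map e.toMonoidHom) ⟨fun a b => ?_, ?_⟩)
  · obtain ⟨a, rfl⟩ := a.exists_rep
    obtain ⟨b, rfl⟩ := b.exists_rep
    intro h
    refine ConjClasses.mk_eq_mk_iff_isConj.2 ?_
    have h' : IsConj (e a) (e b) := ConjClasses.mk_eq_mk_iff_isConj.1 h
    simpa using e.symm.toMonoidHom.map_isConj h'
  · exact ConjClasses.map_surjective e.surjective

/-- Invertible matrices as linear equivalences. -/
noncomputable def glToLinEquiv (ι : Type) [Fintype ι] [DecidableEq ι] (F : Type*) [Field F] :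
    Matrix.GeneralLinearGroup ι F ≃* ((ι → F) ≃ₗ[F] (ι → F)) :=
  Matrix.GeneralLinearGroup.toLin.trans (LinearMap.GeneralLinearGroup.generalLinearEquiv F _)

theorem glToLinEquiv_apply {ι : Type} [Fintype ι] [DecidableEq ι] (A : Matrix.GeneralLinearGroup ι F) (v : ι → F) :
    glToLinEquiv ι F A v = (A : Matrix ι ι F) *ᵥ v := rfl

theorem mem_isometryGroup {ι : Type} [Fintype ι] [DecidableEq ι] {Q : (ι → F) → F} {A : Matrix.GeneralLinearGroup ι F} :
    A ∈ Cfsg.isometryGroup F Q ↔ ∀ v, Q ((A : Matrix ι ι F) *ᵥ v) = Q v :=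
  ⟨fun h v => h v v, fun h u _ => h u⟩

theorem card_isometryGroup_classes {ι : Type} [Fintype ι] [DecidableEq ι] [CharP F 2] (S : Sys F (ι → F)) (hδ : S.δ = 1)
    (Q : (ι → F) → F) (hQ : ∀ v, S.Q v = Q v) :
    Nat.card (ConjClasses ↥(Cfsg.isometryGroup F Q)) = Nat.card (ConjClasses S.isoms) := by
  refine nat_card_classes_congr (((glToLinEquiv ι F).subgroupMap _).trans (MulEquiv.subgroupCongr ?_))
  ext φ
  constructor
  · rintro ⟨A, hA, rfl⟩
    have h : ∀ v, S.Q (glToLinEquiv ι F A v) = S.Q v := fun v => by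
      rw [hQ, hQ, glToLinEquiv_apply]
      exact mem_isometryGroup.1 hA v
    refine ⟨fun v w => ?_, h⟩
    have h1 := h (v + w)
    rw [map_add, S.q_add, S.q_add, h, h, hδ, one_mul, one_mul] at h1
    exact add_left_cancel h1
  · intro hφ
    obtain ⟨A, rfl⟩ := (glToLinEquiv ι F).surjective φ
    refine ⟨A, mem_isometryGroup.2 fun v => ?_, rfl⟩
    rw [← glToLinEquiv_apply, ← hQ, ← hQ]
    exact hφ.2 v

/-- The standard alternating form in characteristic two. -/
def hypForm (m : ℕ) (F : Type*) [Field F] : LinearMap.BilinForm F (Fin m ⊕ Fin m → F) :=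
  LinearMap.mk₂ F (fun v w => ∑ i : Fin m, (v (.inl i) * w (.inr i) + v (.inr i) * w (.inl i)))
    (fun v v' w => by simp only [Pi.add_apply, add_mul, Finset.sum_add_distrib]; ring)
    (fun c v w => by
      simp only [Pi.smul_apply, smul_eq_mul, Finset.mul_sum]
      exact Finset.sum_congr rfl fun i _ => by ring)
    (fun v w w' => by simp only [Pi.add_apply, mul_add, Finset.sum_add_distrib]; ring)
    (fun c v w => by
      simp only [Pi.smul_apply, smul_eq_mul, Finset.mul_sum]
      exact Finset.sum_congr rfl fun i _ => by ring)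

theorem hypForm_apply {m : ℕ} (v w : Fin m ⊕ Fin m → F) :
    hypForm m F v w = ∑ i : Fin m, (v (.inl i) * w (.inr i) + v (.inr i) * w (.inl i)) := rfl

theorem hypForm_self [CharP F 2] {m : ℕ} (v : Fin m ⊕ Fin m → F) : hypForm m F v v = 0 := by
  rw [hypForm_apply]
  exact Finset.sum_eq_zero fun i _ => by rw [mul_comm (v (.inr i)), CharTwo.add_self_eq_zero]

theorem hypForm_nondeg {m : ℕ} (v : Fin m ⊕ Fin m → F) (h : ∀ w, hypForm m F v w = 0) : v = 0 := by
  classical
  funext j
  rcases j with j | j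
  · simpa [hypForm_apply, Pi.single_apply] using h (Pi.single (.inr j) 1)
  · simpa [hypForm_apply, Pi.single_apply] using h (Pi.single (.inl j) 1)

/-- The symplectic system. -/
def sysSp (m : ℕ) (F : Type*) [Field F] [CharP F 2] : Sys F (Fin m ⊕ Fin m → F) where
  B := hypForm m F
  Q := fun _ => 0
  δ := 0
  g := LinearEquiv.refl F _
  alt := hypForm_self
  nondeg := hypForm_nondeg
  inv _ _ := rfl
  q_add _ _ := by simp
  q_smul _ _ := by simp
  q_inv _ := rfl
  q_kind := Or.inr ⟨rfl, fun _ => rfl⟩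

theorem quadFormPlus_add {m : ℕ} (v w : Fin m ⊕ Fin m → F) :
    Cfsg.quadFormPlus m F (v + w) = Cfsg.quadFormPlus m F v + Cfsg.quadFormPlus m F w + hypForm m F v w := by
  simp only [Cfsg.quadFormPlus, hypForm_apply, ← Finset.sum_add_distrib, Pi.add_apply]
  exact Finset.sum_congr rfl fun i _ => by ring

theorem quadFormPlus_smul {m : ℕ} (c : F) (v : Fin m ⊕ Fin m → F) :
    Cfsg.quadFormPlus m F (c • v) = c ^ 2 * Cfsg.quadFormPlus m F v := by
  simp only [Cfsg.quadFormPlus, Finset.mul_sum, Pi.smul_apply, smul_eq_mul]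
  exact Finset.sum_congr rfl fun i _ => by ring

/-- The system of the plus type form. -/
def sysPlus (m : ℕ) (F : Type*) [Field F] [CharP F 2] : Sys F (Fin m ⊕ Fin m → F) where
  B := hypForm m F
  Q := Cfsg.quadFormPlus m F
  δ := 1
  g := LinearEquiv.refl F _
  alt := hypForm_self
  nondeg := hypForm_nondeg
  inv _ _ := rfl
  q_add v w := by rw [quadFormPlus_add, one_mul]
  q_smul := quadFormPlus_smul
  q_inv _ := rfl
  q_kind := Or.inl rfl

/-- The polar form of the minus type form. -/
def minusForm (m : ℕ) (F : Type*) [Field F] (a : F) : LinearMap.BilinForm F ((Fin m ⊕ Fin m) ⊕ Fin 2 → F) :=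
  LinearMap.mk₂ F (fun v w => hypForm m F (fun i => v (.inl i)) (fun i => w (.inl i)) +
      a * (v (.inr 0) * w (.inr 1) + v (.inr 1) * w (.inr 0)))
    (fun v v' w => by
      simp only [hypForm_apply, Pi.add_apply, add_mul, Finset.sum_add_distrib]; ring)
    (fun c v w => by
      simp only [hypForm_apply, Pi.smul_apply, smul_eq_mul, mul_add, Finset.mul_sum]
      exact congrArg₂ (· + ·) (Finset.sum_congr rfl fun i _ => by ring) (by ring))
    (fun v w w' => by
      simp only [hypForm_apply, Pi.add_apply, mul_add, Finset.sum_add_distrib]; ring)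
    (fun c v w => by
      simp only [hypForm_apply, Pi.smul_apply, smul_eq_mul, mul_add, Finset.mul_sum]
      exact congrArg₂ (· + ·) (Finset.sum_congr rfl fun i _ => by ring) (by ring))

theorem minusForm_apply {m : ℕ} (a : F) (v w : (Fin m ⊕ Fin m) ⊕ Fin 2 → F) :
    minusForm m F a v w = hypForm m F (fun i => v (.inl i)) (fun i => w (.inl i)) +
      a * (v (.inr 0) * w (.inr 1) + v (.inr 1) * w (.inr 0)) := rfl

theorem quadFormMinus_eq {m : ℕ} (a b : F) (v : (Fin m ⊕ Fin m) ⊕ Fin 2 → F) :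
    Cfsg.quadFormMinus m F a b v = Cfsg.quadFormPlus m F (fun i => v (.inl i)) +
      (v (.inr 0) ^ 2 + a * v (.inr 0) * v (.inr 1) + b * v (.inr 1) ^ 2) := rfl

/-- The system of the minus type form. -/
def sysMinus (m : ℕ) (F : Type*) [Field F] [CharP F 2] (a b : F) (ha : a ≠ 0) :
    Sys F ((Fin m ⊕ Fin m) ⊕ Fin 2 → F) where
  B := minusForm m F a
  Q := Cfsg.quadFormMinus m F a b
  δ := 1
  g := LinearEquiv.refl F _
  alt v := by rw [minusForm_apply, hypForm_self, mul_comm (v (.inr 1)), CharTwo.add_self_eq_zero, mul_zero, add_zero]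
  nondeg v h := by
    classical
    have h0 : ∀ i, v (.inl i) = 0 := fun i => by
      refine congrFun (hypForm_nondeg (fun i => v (.inl i)) fun w => ?_) i
      have := h (Sum.elim w 0)
      simpa [minusForm_apply] using this
    funext j
    rcases j with j | j
    · exact h0 j
    · fin_cases j
      · simpa [minusForm_apply, hypForm_apply, ha, h0] using h (Pi.single (.inr 1) 1)
      · simpa [minusForm_apply, hypForm_apply, ha, h0] using h (Pi.single (.inr 0) 1)
  inv _ _ := rfl
  q_add v w := by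
    have h2 : (2 : F) = 0 := CharTwo.two_eq_zero
    simp only [quadFormMinus_eq, minusForm_apply, Pi.add_apply, one_mul]
    rw [show (fun i => v (.inl i) + w (.inl i)) = (fun i => v (.inl i)) + fun i => w (.inl i) from rfl,
      quadFormPlus_add]
    linear_combination (v (.inr 0) * w (.inr 0) + b * v (.inr 1) * w (.inr 1)) * h2
  q_smul c v := by
    simp only [quadFormMinus_eq, Pi.smul_apply, smul_eq_mul]
    rw [show (fun i => c * v (.inl i)) = c • fun i => v (.inl i) from rfl, quadFormPlus_smul]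
    ring
  q_inv _ := rfl
  q_kind := Or.inl rfl

theorem ne_zero_of_aniso [Finite F] [CharP F 2] {a b : F}
    (hab : ∀ z₁ z₂ : F, z₁ ^ 2 + a * z₁ * z₂ + b * z₂ ^ 2 = 0 → z₁ = 0 ∧ z₂ = 0) : a ≠ 0 := by
  rintro rfl
  obtain ⟨c, hc⟩ := Sys.exists_sqrt b
  exact one_ne_zero (hab c 1 (by simp [hc, CharTwo.add_self_eq_zero])).2

theorem hypForm_eq [CharP F 2] {m : ℕ} (v w : Fin m ⊕ Fin m → F) : hypForm m F v w = v ⬝ᵥ (Matrix.J (Fin m) F *ᵥ w) := by
  rw [Matrix.J, Matrix.fromBlocks_mulVec, hypForm_apply]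
  simp [dotProduct, Fintype.sum_sum_type, Finset.sum_add_distrib, Function.comp_def, Matrix.neg_mulVec, Matrix.one_mulVec]
  exact (CharTwo.neg_eq _).symm

theorem card_symplectic_classes [CharP F 2] (n : ℕ) :
    Nat.card (ConjClasses (Matrix.symplecticGroup (Fin n) F)) = Nat.card (ConjClasses (sysSp n F).isoms) := by
  let f : Matrix.symplecticGroup (Fin n) F →* ((Fin n ⊕ Fin n → F) ≃ₗ[F] (Fin n ⊕ Fin n → F)) :=
    (glToLinEquiv (Fin n ⊕ Fin n) F).toMonoidHom.comp
      ((Units.map (Matrix.symplecticGroup (Fin n) F).subtype).comp toUnits.toMonoidHom)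
  have hf1 : ∀ (A : Matrix.symplecticGroup (Fin n) F) v, f A v = A.1 *ᵥ v := fun A v => rfl
  have hf : Function.Injective f := fun A B e => Subtype.ext (Matrix.toLin'.injective
    (LinearMap.ext fun v => by
      have := congrArg (fun φ : (Fin n ⊕ Fin n → F) ≃ₗ[F] (Fin n ⊕ Fin n → F) => φ v) e
      simpa [hf1] using this))
  refine nat_card_classes_congr ((MonoidHom.ofInjective hf).trans (MulEquiv.subgroupCongr ?_))
  have hB : ∀ (M : Matrix (Fin n ⊕ Fin n) (Fin n ⊕ Fin n) F) v w, hypForm n F (M *ᵥ v) (M *ᵥ w) =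
      v ⬝ᵥ ((Mᵀ * Matrix.J (Fin n) F * M) *ᵥ w) := fun M v w => by
    rw [hypForm_eq, ← Matrix.mulVec_mulVec, ← Matrix.mulVec_mulVec, Matrix.dotProduct_mulVec v Mᵀ,
      Matrix.vecMul_transpose]
  ext φ
  constructor
  · rintro ⟨A, rfl⟩
    refine ⟨fun v w => ?_, fun _ => rfl⟩
    show hypForm n F (f A v) (f A w) = hypForm n F v w
    rw [hf1, hf1, hB, SymplecticGroup.mem_iff'.1 A.2, hypForm_eq]
  · intro hφ
    have hM : ∀ v, LinearMap.toMatrix' (φ : (Fin n ⊕ Fin n → F) →ₗ[F] (Fin n ⊕ Fin n → F)) *ᵥ v = φ v := fun v => by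
      rw [← Matrix.toLin'_apply, Matrix.toLin'_toMatrix']; rfl
    have hmem : LinearMap.toMatrix' (φ : (Fin n ⊕ Fin n → F) →ₗ[F] (Fin n ⊕ Fin n → F)) ∈
        Matrix.symplecticGroup (Fin n) F := by
      refine SymplecticGroup.mem_iff'.2 (Matrix.ext fun i j => ?_)
      have h : hypForm n F (φ (Pi.single i 1)) (φ (Pi.single j 1)) = hypForm n F (Pi.single i 1) (Pi.single j 1) :=
        hφ.1 _ _
      rw [← hM, ← hM, hB, hypForm_eq] at h
      simpa using h
    exact ⟨⟨_, hmem⟩, LinearEquiv.ext fun v => by rw [hf1]; exact hM v⟩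

theorem finrank_fun_eq {ι : Type} [Fintype ι] (h : ℕ) (hι : Fintype.card ι = h) :
    Module.finrank F (ι → F) = h := by rw [Module.finrank_pi, hι]

theorem charTwo_of_even [Fintype F] (heven : Even (Fintype.card F)) : CharP F 2 :=
  ringChar.of_eq (FiniteField.even_card_iff_char_two.2 (Nat.even_iff.1 heven))

end CfsgLib.CharTwoClasses
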