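import Cfsg.Agent.Lib.CharTwoClasses.Unipotent

/-!
# Existence of the unipotent normal form
-/

set_option autoImplicit false
set_option linter.unusedSectionVars false

namespace CfsgLib.CharTwoClasses

universe u v

/-- The labels of a list of blocks. -/
def labsOf {V : Type v} (L : List (UBlk V)) : List ULab := L.map UBlk.lab

/-- Half the dimension of a list of labels. -/
def wtSum (L : List ULab) : ℕ := (L.map ULab.wt).sum

variable {F : Type u} [Field F] [CharP F 2]

namespace Sys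

variable {V : Type v} [AddCommGroup V] [Module F V] (S : Sys F V)

theorem foldr_le {U : Submodule F V} (hUi : S.Invt U) {L : List (UBlk V)} (h : ∀ b ∈ L, b.x ∈ U ∧ b.y ∈ U) :
    L.foldr (fun b W => S.bspan b ⊔ W) ⊥ ≤ U := by
  induction L with
  | nil => simp
  | cons b L ih =>
    rw [List.foldr_cons]
    exact sup_le (S.gspan_le hUi (h b (List.mem_cons_self ..)).1 (h b (List.mem_cons_self ..)).2)
      (ih fun c hc => h c (List.mem_cons_of_mem _ hc))

theorem M_orth {W : Submodule F V} {U' : Submodule F V} (hWi : S.Invt W) (hUi : S.Invt U') (hU' : U' ≤ S.orth W)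
    {x z : V} (hx : x ∈ W) (hz : z ∈ U') (p q : ℕ) : S.M x z p q = 0 := by
  rw [S.M_symm]
  exact hU' (hUi.N_pow S q hz) _ (hWi.N_pow S p hx)

theorem real_kill {ε : F} {b : UBlk V} (h : S.URealises ε b) :
    (S.N ^ b.lab.size) b.x = 0 ∧ (S.N ^ b.lab.size) b.y = 0 ∧ 1 ≤ b.lab.size ∧
      ∀ k, k < b.lab.size → (S.N ^ k) b.x ≠ 0 := by
  cases hp : b.lab.pr
  · obtain ⟨hc, hy⟩ := h.1 hp
    refine ⟨hc.kill, by rw [hy, map_zero], by have := hc.two_le; omega, fun k hk h0 => ?_⟩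
    have := hc.top
    rw [M_def, S.pow_eq_zero_of_le h0 (show k ≤ b.lab.size - 1 by omega), map_zero, LinearMap.zero_apply] at this
    exact zero_ne_one this
  · have hc := h.2 hp
    refine ⟨hc.killx, hc.killy, hc.one_le, fun k hk h0 => ?_⟩
    have := hc.topxy
    rw [M_def, S.pow_eq_zero_of_le h0 (show k ≤ b.lab.size - 1 by omega), map_zero, LinearMap.zero_apply] at this
    exact zero_ne_one this

theorem good_lab {ε : F} (hε : IsEps ε) {b : UBlk V} (h : S.URealises ε b) : b.lab.Good S.δ := by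
  have hQ : S.δ = 0 → ∀ v, S.Q v = 0 := fun hd =>
    ((S.q_kind).resolve_left (by rw [hd]; exact zero_ne_one)).2
  refine ⟨fun hp => ⟨(h.1 hp).1.two_le, (h.1 hp).1.even⟩, fun hp => ⟨(h.2 hp).one_le, fun ht => ?_⟩,
    fun hd ht => ⟨fun hp => ?_, fun hp => ?_⟩⟩
  · rcases Nat.even_or_odd b.lab.size with he | ho
    · have hc := h.2 hp
      have h1 := hc.one_le
      have h2 := hc.twisty
      rw [S.lev_even (by obtain ⟨r, hr⟩ := he; omega) he hc.killy hc.topy, ht] at h2
      exact absurd h2.symm hε.ne_zero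
    · exact ho
  · by_contra hlt
    have hc := (h.1 hp).1
    have h2 := hc.twist
    rw [show b.lab.size - 2 = 0 by omega, ht] at h2
    exact hε.ne_zero (h2.symm.trans (hQ hd _))
  · by_contra hlt
    have hc := h.2 hp
    have h2 := hc.twisty
    rw [show b.lab.size - 1 = 0 by omega, ht] at h2
    exact hε.ne_zero (h2.symm.trans (hQ hd _))

theorem real_nd {ε : F} {b : UBlk V} (h : S.URealises ε b) : S.Nd (S.bspan b) := by
  cases hp : b.lab.pr
  · obtain ⟨hc, hy⟩ := h.1 hp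
    rw [bspan, hy]; exact S.nd_cyc hc
  · exact S.nd_pair (h.2 hp).toIsPair0

variable [FiniteDimensional F V]

theorem invt_inf_orth {U W : Submodule F V} (hUi : S.Invt U) (hWi : S.Invt W) (hW : S.Nd W) :
    S.Invt (U ⊓ S.orth W) := fun v hv =>
  ⟨hUi v hv.1, ((S.complement (U := ⊤) (fun _ _ => trivial) S.nd_top hWi hW le_top).2.2.1 v ⟨trivial, hv.2⟩).2⟩

theorem real_finrank {ε : F} {b : UBlk V} (h : S.URealises ε b) :
    Module.finrank F (S.bspan b) = 2 * b.lab.wt := by
  cases hp : b.lab.pr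
  · obtain ⟨hc, hy⟩ := h.1 hp
    rw [bspan, hy, S.finrank_cyc hc, ULab.wt, hp, cond_false]
    obtain ⟨r, hr⟩ := hc.even
    omega
  · rw [bspan, S.finrank_pair (h.2 hp).toIsPair0, ULab.wt, hp, cond_true]

variable [Finite F]

theorem exists_wit_or {U : Submodule F V} (hUi : S.Invt U) (hU : S.Nd U) {m : ℕ} (hm1 : 1 ≤ m)
    (hm : ∀ z ∈ U, (S.N ^ m) z = 0) :
    ∃ v₀ ∈ U, ∀ z ∈ U, S.beta m z z = S.beta m z v₀ ^ 2 := by
  choose r hr using fun c : F => exists_sqrt (F := F) c
  have hroot : ∀ a b : F, a ^ 2 = b ^ 2 → a = b := fun a b h => CharTwo.sq_injective h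
  let l : U →ₗ[F] F :=
    { toFun := fun z => r (S.beta m (z : V) z)
      map_add' := fun a b => hroot _ _ (by
        rw [CharTwo.add_sq, hr, hr, hr, Submodule.coe_add]
        simp only [beta, M_add_left, M_add_right]
        rw [S.M_symm (b : V) a (m - 1) 0, S.M_top hm1 (hm _ a.2) (hm _ b.2) (show 0 + (m - 1) = m - 1 by omega)]
        linear_combination (norm := (ring_nf; simp [CharTwo.two_eq_zero])))
      map_smul' := fun c a => hroot _ _ (by
        rw [RingHom.id_apply, smul_eq_mul, mul_pow, hr, hr, Submodule.coe_smul]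
        simp only [beta, M_smul_left, M_smul_right]
        ring) }
  have hUpow : ∀ z ∈ U, (S.N ^ (m - 1)) z ∈ U := fun z hz => hUi.N_pow S _ hz
  have hl : l ∈ (LinearMap.ker ((S.N ^ (m - 1)).restrict hUpow)).dualAnnihilator := by
    rw [Submodule.mem_dualAnnihilator]
    intro z hz
    refine hroot _ _ ?_
    show r (S.beta m (z : V) z) ^ 2 = 0 ^ 2
    rw [hr, zero_pow two_ne_zero]
    exact S.beta_eq_zero (congrArg Subtype.val (LinearMap.mem_ker.1 hz))
  rw [← LinearMap.range_dualMap_eq_dualAnnihilator_ker] at hl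
  obtain ⟨l', hl'⟩ := LinearMap.mem_range.1 hl
  obtain ⟨w, hw, hrep⟩ := hU.exists_rep S l'
  refine ⟨w, hw, fun z hz => ?_⟩
  have h1 := congrArg (fun f : Module.Dual F U => f ⟨z, hz⟩) hl'
  simp only [LinearMap.dualMap_apply] at h1
  rw [hrep] at h1
  have h2 : S.beta m z w = r (S.beta m z z) := by
    rw [beta, M_def, pow_zero]
    exact h1
  rw [h2, hr]

/-- An admissible head exists when the top layer is not alternating. -/
theorem exists_head {U : Submodule F V} (hUi : S.Invt U) (hU : S.Nd U) {m : ℕ} (hm1 : 1 ≤ m)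
    (hm : ∀ z ∈ U, (S.N ^ m) z = 0) (hna : ∃ z ∈ U, S.beta m z z ≠ 0) :
    ∃ x, S.Head U m x ∧ ((∀ v, ¬ S.Wit U m v) → ∃ w ∈ U, S.beta m w x = 0 ∧ S.beta m w w = 1 ∧
      ∀ z ∈ U, S.beta m z x = 0 → S.beta m z w = 0 → S.beta m z z = 0) := by
  obtain ⟨v₀, hv₀, hv⟩ := S.exists_wit_or hUi hU hm1 hm
  obtain ⟨z₁, hz₁, hne⟩ := hna
  by_cases h0 : S.beta m v₀ v₀ = 0
  · obtain ⟨t, ht⟩ := exists_sqrt (S.beta m z₁ z₁)
    have ht0 : t ≠ 0 := fun e => hne (by rw [← ht, e]; ring)
    obtain ⟨x, hxdef⟩ : ∃ x, x = t⁻¹ • z₁ := ⟨_, rfl⟩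
    have hxU : x ∈ U := hxdef ▸ U.smul_mem _ hz₁
    have hxx : S.beta m x x = 1 := by
      rw [hxdef]
      simp only [beta, M_smul_left, M_smul_right]
      rw [← beta, ← ht]
      field_simp
    have hxv : S.beta m x v₀ = 1 := CharTwo.sq_injective (by
      show S.beta m x v₀ ^ 2 = 1 ^ 2
      rw [← hv x hxU, hxx, one_pow])
    have key : ∀ v ∈ U, S.beta m v v = 1 → ¬ ∀ z ∈ U, S.beta m z v = 0 → S.beta m z z = 0 := by
      intro v hvU hvv hall
      have h1 : S.beta m v₀ v = 0 ∨ S.beta m v₀ v ≠ 0 := em _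
      have hvv0 : S.beta m v v₀ = 1 := CharTwo.sq_injective (by
        show S.beta m v v₀ ^ 2 = 1 ^ 2
        rw [← hv v hvU, hvv, one_pow])
      have hz : S.beta m (v + v₀) v = 0 := by
        simp only [beta, M_add_left]
        rw [← beta, ← beta, hvv, S.beta_symm hm1 (hm _ hv₀) (hm _ hvU), hvv0, CharTwo.add_self_eq_zero]
      have h2 := hall _ (U.add_mem hvU hv₀) hz
      rw [hv _ (U.add_mem hvU hv₀)] at h2
      simp only [beta, M_add_left] at h2
      rw [← beta, ← beta, hvv0, h0, add_zero, one_pow] at h2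
      exact one_ne_zero h2
    refine ⟨x, ⟨hxU, hxx, fun ⟨v, hw⟩ => absurd hw.2.2 (key v hw.1 hw.2.1)⟩, fun _ => ⟨x + v₀, U.add_mem hxU hv₀, ?_, ?_, ?_⟩⟩
    · simp only [beta, M_add_left]
      rw [← beta, ← beta, hxx, S.beta_symm hm1 (hm _ hv₀) (hm _ hxU), hxv, CharTwo.add_self_eq_zero]
    · rw [hv _ (U.add_mem hxU hv₀)]
      simp only [beta, M_add_left]
      rw [← beta, ← beta, hxv, h0, add_zero, one_pow]
    · intro z hz h1 h2
      simp only [beta, M_add_right] at h2
      rw [← beta, ← beta, h1, zero_add] at h2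
      rw [hv z hz, h2, zero_pow two_ne_zero]
  · obtain ⟨t, ht⟩ := exists_sqrt (S.beta m v₀ v₀)
    have ht0 : t ≠ 0 := fun e => h0 (by rw [← ht, e]; ring)
    have hW : S.Wit U m (t⁻¹ • v₀) := by
      refine ⟨U.smul_mem _ hv₀, ?_, fun z hz h1 => ?_⟩
      · simp only [beta, M_smul_left, M_smul_right]
        rw [← beta, ← ht]
        field_simp
      · simp only [beta, M_smul_right] at h1
        rw [← beta, mul_eq_zero] at h1
        rw [hv z hz, h1.resolve_left (inv_ne_zero ht0), zero_pow two_ne_zero]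
    exact ⟨_, ⟨hW.1, hW.2.1, fun _ => hW⟩, fun hno => absurd hW (hno _)⟩

/-- A value of the twist functional on the pair spanned by the generators. -/
theorem pair_value {ε : F} {b : UBlk V} (h : S.IsPair ε b.lab.size b.lab.tau b.x b.y) (hodd : Odd b.lab.size)
    (hδ : b.lab.size = 1 → S.δ = 1) (μ : F) :
    ∃ a c : F, S.lev (b.lab.size - 1) (a • b.x + c • b.y) = μ := by
  have hx := h.twistx
  have hy := h.twisty
  cases ht : b.lab.tau
  · rw [ht] at hx hy
    refine ⟨μ, 1, ?_⟩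
    rw [S.lev_lin, hx, hy, S.cross_pair h.toIsPair0 hodd hδ, show px (F := F) false = 0 from rfl,
      show tw ε false = 0 from rfl]
    ring
  · rw [ht] at hx hy
    obtain ⟨t, ht'⟩ := exists_sqrt μ
    refine ⟨t, 0, ?_⟩
    rw [S.lev_lin, hx, show px (F := F) true = 1 from rfl, ← ht']
    ring

/-- Removing the bit of a cyclic head when the rest has a neighbour. -/
theorem shift_cyc {ε : F} (hε : IsEps ε) {U : Submodule F V} (hUi : S.Invt U) {m : ℕ}
    (hm : ∀ z ∈ U, (S.N ^ m) z = 0) {x : V} (hH : S.Head U m x) (hc : S.IsCyc ε m true x)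
    {L : List (UBlk V)} (hL : S.UDec ε (U ⊓ S.orth (S.gspan x 0)) L) {l : ULab} (hl : l ∈ labsOf L)
    (hnb : (l.pr = false ∧ l.size = m) ∨ (l.pr = true ∧ l.size + 1 = m) ∨ (l.pr = false ∧ l.size + 2 = m)) :
    ∃ x', S.Head U m x' ∧ S.IsCyc ε m false x' := by
  obtain ⟨hxU, htop, hwit⟩ := hH
  have hxk := hc.kill
  have hm2 := hc.two_le
  have hδ : m = 2 → S.δ = 1 := fun e => S.q_kind.resolve_right fun hk => hε.ne_zero (by
    have := hc.twist
    rw [e, Nat.sub_self, lev, hk.2 x] at this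
    exact this.symm)
  obtain ⟨b, hbL, rfl⟩ := List.mem_map.1 hl
  have hb := hL.real b hbL
  obtain ⟨hbx, hby⟩ := hL.mem b hbL
  have hWi := S.invt_gspan x 0
  have hWU : S.gspan x 0 ≤ U := S.gspan_le hUi hxU U.zero_mem
  have hU'i : S.Invt (U ⊓ S.orth (S.gspan x 0)) := S.invt_inf_orth hUi hWi (S.nd_cyc hc)
  -- the vector to add
  have main : ∀ μ : F, ∃ z ∈ U ⊓ S.orth (S.gspan x 0), (S.N ^ (m - 1)) z = 0 ∧ S.lev (m - 2) z = μ := by
    intro μ
    obtain ⟨t, ht⟩ := exists_sqrt μ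
    rcases hnb with ⟨hp, hs⟩ | ⟨hp, hs⟩ | ⟨hp, hs⟩
    · obtain ⟨hbc, -⟩ := hb.1 hp
      rw [hs] at hbc
      refine ⟨t • (S.N ^ 1) b.x, Submodule.smul_mem _ _ (hU'i.N_pow S 1 hbx), ?_, ?_⟩
      · rw [map_smul, S.pow_add_apply, show m - 1 + 1 = m by omega, hbc.kill, smul_zero]
      · rcases Nat.lt_or_ge m 3 with hlt | hge
        · rw [show m - 2 = 0 by omega, lev, S.q_smul, pow_one, S.q_N, hδ (by omega), one_mul]
          have := hbc.top
          rw [show m - 1 = 1 by omega] at this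
          rw [show S.B (S.N b.x) b.x = 1 by simpa [M] using this, mul_one, ht]
        · rw [show m - 2 = m - 3 + 1 by omega, lev, M_smul_left, M_smul_right, M_pow_left, M_pow_right,
            S.M_top (by omega) hbc.kill hbc.kill (show m - 3 + 1 + (0 + 1) = m - 1 by omega), hbc.top, mul_one, ← sq, ht]
    · have hbp := hb.2 hp
      have hodd : Odd b.lab.size := by
        obtain ⟨r, hr⟩ := hc.even
        exact ⟨r - 1, by omega⟩
      obtain ⟨a, c, hac⟩ := S.pair_value hbp hodd (fun e => hδ (by omega)) μ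
      refine ⟨a • b.x + c • b.y, Submodule.add_mem _ (Submodule.smul_mem _ _ hbx) (Submodule.smul_mem _ _ hby), ?_, ?_⟩
      · rw [map_add, map_smul, map_smul, S.pow_eq_zero_of_le hbp.killx (show b.lab.size ≤ m - 1 by omega),
          S.pow_eq_zero_of_le hbp.killy (show b.lab.size ≤ m - 1 by omega), smul_zero, smul_zero, add_zero]
      · rw [show m - 2 = b.lab.size - 1 by omega]; exact hac
    · obtain ⟨hbc, -⟩ := hb.1 hp
      have h2 := hbc.two_le
      refine ⟨t • b.x, Submodule.smul_mem _ _ hbx, ?_, ?_⟩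
      · rw [map_smul, S.pow_eq_zero_of_le hbc.kill (show b.lab.size ≤ m - 1 by omega), smul_zero]
      · rw [show m - 2 = b.lab.size - 1 + 1 by omega, lev, M_smul_left, M_smul_right, hbc.top, mul_one, ← sq, ht]
  obtain ⟨z, hzU, hz0, hzl⟩ := main (S.lev (m - 2) x)
  have hxz : ∀ p q, S.M x z p q = 0 :=
    S.M_orth hWi hU'i inf_le_right (S.left_mem_gspan x 0) hzU
  have hbl : ∀ w ∈ U, S.beta m w (x + z) = S.beta m w x := fun w hw => by
    rw [S.beta_symm (by omega) (hm w hw) (hm _ (U.add_mem hxU hzU.1)), S.beta_symm (by omega) (hm w hw) hxk]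
    simp only [beta, M_add_left]
    rw [show S.M z w (m - 1) 0 = 0 from S.beta_eq_zero hz0, add_zero]
  have h1 : S.beta m (x + z) (x + z) = 1 := by
    rw [hbl _ (U.add_mem hxU hzU.1), S.beta_symm (by omega) (hm _ (U.add_mem hxU hzU.1)) hxk, hbl x hxU, htop]
  refine ⟨x + z, ⟨U.add_mem hxU hzU.1, h1, fun hv => ⟨U.add_mem hxU hzU.1, h1, fun w hw h0 => ?_⟩⟩,
    hm2, hm _ (U.add_mem hxU hzU.1), h1, ?_⟩
  · exact (hwit hv).2.2 w hw (hbl w hw ▸ h0)
  · rw [S.lev_orth _ hxz, hzl]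
    exact CharTwo.add_self_eq_zero _

/-- Removing the bit of a paired head when the rest has a neighbour. -/
theorem shift_pair {ε : F} (hε : IsEps ε) {U : Submodule F V} (hUi : S.Invt U) {m : ℕ} {x y : V}
    (hxU : x ∈ U) (hyU : y ∈ U) (hc : S.IsPair ε m true x y)
    {L : List (UBlk V)} (hL : S.UDec ε (U ⊓ S.orth (S.gspan x y)) L) {l : ULab} (hl : l ∈ labsOf L)
    (hnb : (l.pr = true ∧ l.size = m) ∨ (l.pr = false ∧ l.size + 1 = m)) :
    ∃ x' ∈ U, ∃ y' ∈ U, S.IsPair ε m false x' y' := by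
  have hg := S.good_lab hε (b := ⟨⟨true, m, true⟩, x, y⟩) ⟨fun h => absurd h (by simp), fun _ => hc⟩
  have hodd : Odd m := (hg.2.1 rfl).2 rfl
  have hδ : m = 1 → S.δ = 1 := fun e => S.q_kind.resolve_right fun hk => by
    have h2 := (hg.2.2 hk.1 rfl).2 rfl
    simp only at h2
    omega
  obtain ⟨b, hbL, rfl⟩ := List.mem_map.1 hl
  have hb := hL.real b hbL
  obtain ⟨hbx, hby⟩ := hL.mem b hbL
  have hWi := S.invt_gspan x y
  have hU'i : S.Invt (U ⊓ S.orth (S.gspan x y)) := S.invt_inf_orth hUi hWi (S.nd_pair hc.toIsPair0)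
  have main : ∃ z ∈ U ⊓ S.orth (S.gspan x y), (S.N ^ m) z = 0 ∧ S.beta m z z = 0 ∧ S.lev (m - 1) z = 1 := by
    rcases hnb with ⟨hp, hs⟩ | ⟨hp, hs⟩
    · have hbp := hb.2 hp
      obtain ⟨a, c, hac⟩ := S.pair_value hbp (by rw [hs]; exact hodd) (by rw [hs]; exact hδ) 1
      rw [hs] at hbp hac
      refine ⟨a • b.x + c • b.y, Submodule.add_mem _ (Submodule.smul_mem _ _ hbx) (Submodule.smul_mem _ _ hby), ?_, ?_, hac⟩
      · rw [map_add, map_smul, map_smul, hbp.killx, hbp.killy, smul_zero, smul_zero, add_zero]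
      · simp only [beta, M_add_left, M_add_right, M_smul_left, M_smul_right, hbp.topx, hbp.topy, hbp.topxy,
          (hbp.toIsPair0.swap S).topxy, mul_zero, mul_one, zero_add, add_zero]
        rw [mul_comm c a, CharTwo.add_self_eq_zero]
    · obtain ⟨hbc, -⟩ := hb.1 hp
      have h2 := hbc.two_le
      refine ⟨b.x, hbx, S.pow_eq_zero_of_le hbc.kill (by omega), S.beta_eq_zero (S.pow_eq_zero_of_le hbc.kill (by omega)), ?_⟩
      rw [show m - 1 = b.lab.size - 1 + 1 by omega, lev, hbc.top]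
  obtain ⟨z, hzU, hzk, hzb, hzl⟩ := main
  have hxz : ∀ p q, S.M x z p q = 0 := S.M_orth hWi hU'i inf_le_right (S.left_mem_gspan x y) hzU
  have hyz : ∀ p q, S.M y z p q = 0 := S.M_orth hWi hU'i inf_le_right (S.right_mem_gspan x y) hzU
  have hzy : ∀ p q, S.M z y p q = 0 := fun p q => by rw [S.M_symm]; exact hyz q p
  have hzx : ∀ p q, S.M z x p q = 0 := fun p q => by rw [S.M_symm]; exact hxz q p
  have hzb' : S.M z z (m - 1) 0 = 0 := hzb
  have P : S.IsPair0 m (x + z) y :=
    ⟨hc.one_le, by rw [map_add, hc.killx, hzk, add_zero], hc.killy,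
      by simp only [M_add_left, M_add_right, hxz, hzx, hc.topx, hzb', add_zero], hc.topy,
      by simp only [M_add_left, hzy, hc.topxy, add_zero]⟩
  have hlx : S.lev (m - 1) (x + z) = 0 := by
    rw [S.lev_orth _ hxz, hzl, hc.twistx]
    exact CharTwo.add_self_eq_zero _
  have hcr := S.cross_pair P hodd hδ
  refine ⟨x + z, U.add_mem hxU hzU.1, ε • (x + z) + (1 : F) • y, U.add_mem (U.smul_mem _ (U.add_mem hxU hzU.1))
    (U.smul_mem _ hyU), ⟨hc.one_le, P.killx, by simp [P.killy, hc.killx, hzk],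
      P.topx, ?_, ?_⟩, hlx, ?_⟩
  · rw [M_add_left, M_add_right, M_add_right]
    simp only [M_smul_left, M_smul_right, P.topx, P.topy, P.topxy, (P.swap S).topxy]
    linear_combination (norm := (ring_nf; simp [CharTwo.two_eq_zero]))
  · rw [M_add_right]
    simp only [M_smul_right, P.topx, P.topxy]
    ring
  · rw [S.lev_lin, hlx, hcr, hc.twisty]
    show _ = (0 : F)
    simp only [tw, cond_true]
    linear_combination (norm := (ring_nf; simp [CharTwo.two_eq_zero]))

/-- The unipotent normal form. -/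
theorem exists_udec {ε : F} (hε : IsEps ε) : ∀ U : Submodule F V, S.Invt U → S.Nd U →
    (∃ M, ∀ z ∈ U, (S.N ^ M) z = 0) →
    ∃ L, S.UDec ε U L ∧ Valid S.δ (labsOf L) ∧ 2 * wtSum (labsOf L) = Module.finrank F U ∧
      ∀ m, (∀ z ∈ U, (S.N ^ m) z = 0) → (∃ v, S.Wit U m v) → cntCyc (labsOf L) m ≤ 1 := by
  intro U
  induction hn : Module.finrank F U using Nat.strong_induction_on generalizing U with
  | _ n ih =>
  subst hn
  intro hUi hU hM
  classical
  obtain ⟨m, hm, hmin⟩ : ∃ m, (∀ z ∈ U, (S.N ^ m) z = 0) ∧ ∀ k, (∀ z ∈ U, (S.N ^ k) z = 0) → m ≤ k :=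
    ⟨Nat.find hM, Nat.find_spec hM, fun k hk => Nat.find_le hk⟩
  rcases Nat.eq_zero_or_pos m with rfl | hm1
  · have hbot : U = ⊥ := (Submodule.eq_bot_iff U).2 fun z hz => by simpa using hm z hz
    exact ⟨[], ⟨by simp, by simp, List.Pairwise.nil, by simp [hbot]⟩, valid_nil _, by (rw [hbot, finrank_bot]; simp [wtSum, labsOf]),
      fun k _ _ => by simp [cntCyc, labsOf]⟩
  obtain ⟨z₁, hz₁, hz₁ne⟩ : ∃ z ∈ U, (S.N ^ (m - 1)) z ≠ 0 := by
    by_contra hcon
    push Not at hcon
    have := hmin (m - 1) hcon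
    omega
  -- splitting off a head
  have step : ∀ b : UBlk V, S.URealises ε b → b.x ∈ U → b.y ∈ U → 1 ≤ b.lab.wt →
      ∃ L, S.UDec ε (U ⊓ S.orth (S.bspan b)) L ∧ Valid S.δ (labsOf L) ∧
        2 * (b.lab.wt + wtSum (labsOf L)) = Module.finrank F U ∧
        (∀ k, (∀ z ∈ U ⊓ S.orth (S.bspan b), (S.N ^ k) z = 0) →
          (∃ v, S.Wit (U ⊓ S.orth (S.bspan b)) k v) → cntCyc (labsOf L) k ≤ 1) ∧
        S.UDec ε U (b :: L) ∧ ∀ l ∈ labsOf L, l.size ≤ m := by
    intro b hb hbx hby hwt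
    have hWi : S.Invt (S.bspan b) := S.invt_gspan _ _
    have hWU : S.bspan b ≤ U := S.gspan_le hUi hbx hby
    have hfr := S.real_finrank hb
    have hne : S.bspan b ≠ ⊥ := fun e => by rw [e, finrank_bot] at hfr; omega
    obtain ⟨-, hsup, hU'i, hU', hlt⟩ := S.complement hUi hU hWi (S.real_nd hb) hWU
    obtain ⟨L, hL, hV, hw, hinv⟩ := ih _ (hlt hne) _ rfl hU'i hU' ⟨m, fun z hz => hm z hz.1⟩
    refine ⟨L, hL, hV, ?_, hinv, ⟨?_, ?_, ?_, ?_⟩, ?_⟩
    · have hdisj : S.bspan b ⊓ (U ⊓ S.orth (S.bspan b)) = ⊥ := (Submodule.eq_bot_iff _).2 fun z hz =>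
        S.real_nd hb z hz.1 fun w hw => hz.2.2 w hw
      have := Submodule.finrank_sup_add_finrank_inf_eq (S.bspan b) (U ⊓ S.orth (S.bspan b))
      rw [hsup, hdisj, finrank_bot] at this
      omega
    · intro c hc
      rcases List.mem_cons.1 hc with rfl | hc
      · exact hb
      · exact hL.real c hc
    · intro c hc
      rcases List.mem_cons.1 hc with rfl | hc
      · exact ⟨hbx, hby⟩
      · exact ⟨(hL.mem c hc).1.1, (hL.mem c hc).2.1⟩
    · refine List.pairwise_cons.2 ⟨fun c hc v hv w hw => ?_, hL.orth⟩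
      rw [S.symm]
      exact (S.gspan_le hU'i (hL.mem c hc).1 (hL.mem c hc).2 hw).2 v hv
    · rw [List.foldr_cons]
      exact hsup.ge.trans (sup_le_sup_left hL.cover _)
    · intro l hl
      obtain ⟨c, hc, rfl⟩ := List.mem_map.1 hl
      by_contra hlt'
      exact (S.real_kill (hL.real c hc)).2.2.2 m (by omega) (hm _ (hL.mem c hc).1.1)
  -- no cyclic blocks of the top size below an alternating layer
  have nocyc : ∀ (U' : Submodule F V) (L : List (UBlk V)), S.UDec ε U' L → (∀ z ∈ U', S.beta m z z = 0) →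
      cntCyc (labsOf L) m = 0 := by
    intro U' L hL halt
    rw [cntCyc, List.countP_eq_zero]
    intro l hl he
    simp only [Bool.and_eq_true, beq_iff_eq] at he
    obtain ⟨c, hc, rfl⟩ := List.mem_map.1 hl
    obtain ⟨hcc, -⟩ := (hL.real c hc).1 he.1
    have := hcc.top
    rw [he.2] at this
    exact zero_ne_one ((halt _ (hL.mem c hc).1).symm.trans this)
  have wt_pos : ∀ b : UBlk V, S.URealises ε b → 1 ≤ b.lab.wt := fun b hb => by
    have hg := S.good_lab hε hb
    cases hp : b.lab.pr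
    · have := hg.1 hp
      simp only [ULab.wt, hp, cond_false]
      omega
    · have := hg.2.1 hp
      simp only [ULab.wt, hp, cond_true]
      omega
  by_cases hna : ∃ z ∈ U, S.beta m z z ≠ 0
  · obtain ⟨x₀, hx₀, hsecond⟩ := S.exists_head hUi hU hm1 hm hna
    obtain ⟨x, hx, τ, hc⟩ := S.exists_cyc_norm hε hUi hm hx₀
    have hm2 := hc.two_le
    -- the count of cyclic blocks after any admissible head
    have finish : ∀ (x : V) (τ : Bool), S.Head U m x → S.IsCyc ε m τ x →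
        ∀ L, S.UDec ε (U ⊓ S.orth (S.gspan x 0)) L → Valid S.δ (labsOf L) →
        2 * ((⟨false, m, τ⟩ : ULab).wt + wtSum (labsOf L)) = Module.finrank F U →
        (∀ k, (∀ z ∈ U ⊓ S.orth (S.gspan x 0), (S.N ^ k) z = 0) →
          (∃ v, S.Wit (U ⊓ S.orth (S.gspan x 0)) k v) → cntCyc (labsOf L) k ≤ 1) →
        S.UDec ε U (⟨⟨false, m, τ⟩, x, 0⟩ :: L) → (∀ l ∈ labsOf L, l.size ≤ m) →
        (τ = true → ∀ l ∈ labsOf L, ¬ (l.pr = false ∧ l.size = m) ∧ ¬ (l.pr = true ∧ l.size + 1 = m) ∧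
          ¬ (l.pr = false ∧ l.size + 2 = m)) →
        ∃ L, S.UDec ε U L ∧ Valid S.δ (labsOf L) ∧ 2 * wtSum (labsOf L) = Module.finrank F U ∧
          ∀ k, (∀ z ∈ U, (S.N ^ k) z = 0) → (∃ v, S.Wit U k v) → cntCyc (labsOf L) k ≤ 1 := by
      intro x τ hx hc L hL hV hw hinv hdec hsize hnb
      have hWi := S.invt_gspan x 0
      have hWU : S.gspan x 0 ≤ U := S.gspan_le hUi hx.1 U.zero_mem
      obtain ⟨hsplit, -, hU'i, -, -⟩ := S.complement hUi hU hWi (S.nd_cyc hc) hWU
      have horth : ∀ z ∈ U ⊓ S.orth (S.gspan x 0), S.beta m z x = 0 := fun z hz => by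
        rw [beta, S.M_symm]
        exact S.M_orth hWi hU'i inf_le_right (S.left_mem_gspan x 0) hz 0 (m - 1)
      have hcnt : cntCyc (labsOf L) m ≤ 1 ∧ ((∃ v, S.Wit U m v) → cntCyc (labsOf L) m = 0) := by
        by_cases hv : ∃ v, S.Wit U m v
        · have := nocyc _ L hL fun z hz => (hx.2.2 hv).2.2 z hz.1 (horth z hz)
          exact ⟨by omega, fun _ => this⟩
        refine ⟨hinv m (fun z hz => hm z hz.1) ?_, fun h => absurd h hv⟩
        push Not at hv
        obtain ⟨v₀, hv₀, hvp⟩ := S.exists_wit_or hUi hU hm1 hm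
        have hxv : S.beta m x v₀ = 1 := CharTwo.sq_injective (by
          show S.beta m x v₀ ^ 2 = 1 ^ 2
          rw [← hvp x hx.1, hx.2.1, one_pow])
        have h00 : S.beta m v₀ v₀ = 0 := by
          by_contra h0
          obtain ⟨t, ht⟩ := exists_sqrt (S.beta m v₀ v₀)
          have ht0 : t ≠ 0 := fun e => h0 (by rw [← ht, e]; ring)
          refine hv (t⁻¹ • v₀) ⟨U.smul_mem _ hv₀, ?_, fun z hz h1 => ?_⟩
          · simp only [beta, M_smul_left, M_smul_right]
            rw [← beta, ← ht]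
            field_simp
          · simp only [beta, M_smul_right] at h1
            rw [← beta, mul_eq_zero] at h1
            rw [hvp z hz, h1.resolve_left (inv_ne_zero ht0), zero_pow two_ne_zero]
        obtain ⟨s, hs, r, hr, hsr⟩ := hsplit v₀ hv₀
        -- on the rest, the value at v₀ is the value at its component
        have hrz : ∀ z ∈ U ⊓ S.orth (S.gspan x 0), S.beta m z v₀ = S.beta m z r := fun z hz => by
          rw [hsr, beta, M_add_right, S.M_symm, S.M_orth hWi hU'i inf_le_right hs hz 0 (m - 1), zero_add]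
          rfl
        have hsx : S.beta m x s = 1 := by
          have h1 := hxv
          rw [hsr, beta, M_add_right, S.M_orth hWi hU'i inf_le_right (S.left_mem_gspan x 0) hr (m - 1) 0, add_zero] at h1
          exact h1
        obtain ⟨a, b, hab⟩ := S.gspan_le_range hc.kill (show (S.N ^ m) (0 : V) = 0 by simp) s hs
        have hpow : (S.N ^ (m - 1)) s = a 0 • (S.N ^ (m - 1)) x := by
          obtain ⟨k, rfl⟩ : ∃ k, m = k + 1 := ⟨m - 1, by omega⟩
          rw [hab, map_sum, Finset.sum_range_succ', Finset.sum_eq_zero fun i _ => ?_]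
          · simp
          · simp only [map_zero, smul_zero, add_zero, map_smul, S.pow_add_apply]
            rw [S.pow_eq_zero_of_le hc.kill (by omega), smul_zero]
        have ha0 : a 0 = 1 := by
          have h1 := hsx
          rw [S.beta_symm hm1 hc.kill (hm _ (hWU hs)), beta, M_def, hpow, map_smul, LinearMap.smul_apply,
            smul_eq_mul, ← S.M_def, ← beta, hx.2.1, mul_one] at h1
          exact h1
        have hss : ∀ w, w ∈ U → S.beta m s w = S.beta m x w := fun w _ => by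
          rw [beta, beta, M_def, M_def, hpow, ha0, one_smul]
        refine ⟨r, hr, ?_, fun z hz h1 => ?_⟩
        · have h1 := h00
          rw [hsr] at h1
          simp only [beta, M_add_left, M_add_right] at h1
          rw [← beta, ← beta, ← beta, ← beta, hss s (hWU hs), hss r hr.1,
            S.beta_symm hm1 hc.kill (hm _ (hWU hs)), hss x hx.1, S.beta_symm hm1 hc.kill (hm _ hr.1), horth r hr,
            hx.2.1, S.beta_symm hm1 (hm _ hr.1) (hm _ (hWU hs)), hss r hr.1, S.beta_symm hm1 hc.kill (hm _ hr.1),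
            horth r hr, add_zero, zero_add] at h1
          linear_combination (norm := (ring_nf; simp [CharTwo.two_eq_zero])) h1
        · rw [hvp z hz.1, hrz z hz, h1, zero_pow two_ne_zero]
      refine ⟨⟨⟨false, m, τ⟩, x, 0⟩ :: L, hdec, ?_, ?_, fun k hk hv => ?_⟩
      · refine valid_cons hV (S.good_lab hε (hdec.real _ (List.mem_cons_self ..))) hsize (fun _ => hcnt.1)
          (fun he => hnb ?_) (fun he => ?_)
        · rw [ULab.mk.injEq] at he; exact he.2.2
        · rw [ULab.mk.injEq] at he; exact absurd he.1 (by simp)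
      · rw [← hw]; simp [wtSum, labsOf]
      · have hkm : m ≤ k := hmin k hk
        show cntCyc ((⟨false, m, τ⟩ : ULab) :: labsOf L) k ≤ 1
        rcases eq_or_lt_of_le hkm with rfl | hlt
        · have := hcnt.2 hv
          simp only [cntCyc, List.countP_cons] at this ⊢
          rw [this]
          split_ifs <;> omega
        · obtain ⟨v, hvU, hvv, -⟩ := hv
          exfalso
          rw [S.beta_eq_zero (S.pow_eq_zero_of_le (hm v hvU) (by omega))] at hvv
          exact zero_ne_one hvv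
    obtain ⟨L, hL, hV, hw, hinv, hdec, hsize⟩ :=
      step ⟨⟨false, m, τ⟩, x, 0⟩ ⟨fun _ => ⟨hc, rfl⟩, fun h => absurd h (by simp)⟩ hx.1 U.zero_mem
        (wt_pos _ ⟨fun _ => ⟨hc, rfl⟩, fun h => absurd h (by simp)⟩)
    by_cases hnb : τ = true → ∀ l ∈ labsOf L, ¬ (l.pr = false ∧ l.size = m) ∧ ¬ (l.pr = true ∧ l.size + 1 = m) ∧
        ¬ (l.pr = false ∧ l.size + 2 = m)
    · exact finish x τ hx hc L hL hV hw hinv hdec hsize hnb
    · push Not at hnb
      obtain ⟨rfl, l, hl, hl'⟩ := hnb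
      obtain ⟨x', hx', hc'⟩ := S.shift_cyc hε hUi hm hx hc hL hl (by
        by_contra hcon
        simp only [not_or] at hcon
        tauto)
      obtain ⟨L', hL', hV', hw', hinv', hdec', hsize'⟩ :=
        step ⟨⟨false, m, false⟩, x', 0⟩ ⟨fun _ => ⟨hc', rfl⟩, fun h => absurd h (by simp)⟩ hx'.1 U.zero_mem
          (wt_pos _ ⟨fun _ => ⟨hc', rfl⟩, fun h => absurd h (by simp)⟩)
      exact finish x' false hx' hc' L' hL' hV' hw' hinv' hdec' hsize' (by simp)
  · push Not at hna
    obtain ⟨y₀, hy₀, hy₀ne⟩ : ∃ y ∈ U, S.beta m z₁ y ≠ 0 := by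
      by_contra hcon
      push Not at hcon
      refine hz₁ne (hU _ (hUi.N_pow S _ hz₁) fun w hw => ?_)
      have := hcon w hw
      rwa [beta, M_def, pow_zero, Module.End.one_apply] at this
    obtain ⟨c, hc⟩ : ∃ c, c = S.beta m z₁ y₀ := ⟨_, rfl⟩
    have hP : S.IsPair0 m z₁ (c⁻¹ • y₀) := by
      refine ⟨hm1, hm _ hz₁, hm _ (U.smul_mem _ hy₀), hna _ hz₁, hna _ (U.smul_mem _ hy₀), ?_⟩
      rw [M_smul_right, show S.M z₁ y₀ (m - 1) 0 = c from hc.symm]
      exact inv_mul_cancel₀ (hc ▸ hy₀ne)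
    obtain ⟨x, hxU, y, hyU, τ, hPr⟩ := S.exists_pair_norm hε hP hz₁ (U.smul_mem _ hy₀)
    have finish : ∀ (x y : V) (τ : Bool), x ∈ U → y ∈ U → S.IsPair ε m τ x y →
        ∀ L, S.UDec ε (U ⊓ S.orth (S.gspan x y)) L → Valid S.δ (labsOf L) →
        2 * ((⟨true, m, τ⟩ : ULab).wt + wtSum (labsOf L)) = Module.finrank F U →
        S.UDec ε U (⟨⟨true, m, τ⟩, x, y⟩ :: L) → (∀ l ∈ labsOf L, l.size ≤ m) →
        (τ = true → ∀ l ∈ labsOf L, ¬ (l.pr = true ∧ l.size = m) ∧ ¬ (l.pr = false ∧ l.size + 1 = m)) →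
        ∃ L, S.UDec ε U L ∧ Valid S.δ (labsOf L) ∧ 2 * wtSum (labsOf L) = Module.finrank F U ∧
          ∀ k, (∀ z ∈ U, (S.N ^ k) z = 0) → (∃ v, S.Wit U k v) → cntCyc (labsOf L) k ≤ 1 := by
      intro x y τ hxU hyU hP L hL hV hw hdec hsize hnb
      refine ⟨⟨⟨true, m, τ⟩, x, y⟩ :: L, hdec, ?_, ?_, fun k hk hv => ?_⟩
      · refine valid_cons hV (S.good_lab hε (hdec.real _ (List.mem_cons_self ..))) hsize (fun h => absurd h (by simp))
          (fun he => ?_) (fun he => hnb ?_)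
        · rw [ULab.mk.injEq] at he; exact absurd he.1 (by simp)
        · rw [ULab.mk.injEq] at he; exact he.2.2
      · rw [← hw]; simp [wtSum, labsOf]
      · obtain ⟨v, hvU, hvv, -⟩ := hv
        rcases eq_or_lt_of_le (hmin k hk) with rfl | hlt
        · exact absurd ((hna v hvU).symm.trans hvv) zero_ne_one
        · rw [S.beta_eq_zero (S.pow_eq_zero_of_le (hm v hvU) (by omega))] at hvv
          exact absurd hvv zero_ne_one
    obtain ⟨L, hL, hV, hw, hinv, hdec, hsize⟩ :=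
      step ⟨⟨true, m, τ⟩, x, y⟩ ⟨fun h => absurd h (by simp), fun _ => hPr⟩ hxU hyU
        (wt_pos _ ⟨fun h => absurd h (by simp), fun _ => hPr⟩)
    by_cases hnb : τ = true → ∀ l ∈ labsOf L, ¬ (l.pr = true ∧ l.size = m) ∧ ¬ (l.pr = false ∧ l.size + 1 = m)
    · exact finish x y τ hxU hyU hPr L hL hV hw hdec hsize hnb
    · push Not at hnb
      obtain ⟨rfl, l, hl, hl'⟩ := hnb
      obtain ⟨x', hx', y', hy', hP'⟩ := S.shift_pair hε hUi hxU hyU hPr hL hl (by
        by_contra hcon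
        simp only [not_or] at hcon
        tauto)
      obtain ⟨L', hL', hV', hw', hinv', hdec', hsize'⟩ :=
        step ⟨⟨true, m, false⟩, x', y'⟩ ⟨fun h => absurd h (by simp), fun _ => hP'⟩ hx' hy'
          (wt_pos _ ⟨fun h => absurd h (by simp), fun _ => hP'⟩)
      exact finish x' y' false hx' hy' hP' L' hL' hV' hw' hdec' hsize' (by simp)

end Sys

end CfsgLib.CharTwoClasses
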