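import Cfsg.Agent.Lib.CharTwoClasses.Gauss

/-!
# The sign of a decomposition and the classification of the forms

For `δ = 1` the Gauss sum of the space is `q ^ n * psi (σ (Π P ^ e))` times a number depending only on
the unipotent labels. The forms of given dimension are classified by the Gauss sum.
-/

set_option autoImplicit false
set_option linter.unusedSectionVars false
set_option linter.style.haveILetI false

namespace CfsgLib.CharTwoClasses

open Polynomial

universe u v w

/-- The product of the polynomials of a key. -/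
noncomputable def corePoly {F : Type u} [CommSemiring F] (K : Multiset (F[X] × ℕ)) : F[X] :=
  (K.map fun k => k.1 ^ k.2).prod

variable {F : Type u} [Field F] [CharP F 2]

theorem corePoly_spec {K : Multiset (F[X] × ℕ)} (hK : GoodCore K) :
    (corePoly K).Monic ∧ (corePoly K).natDegree = wtCore K ∧ (corePoly K).coeff 0 ≠ 0 := by
  induction K using Multiset.induction with
  | empty => simp [corePoly, wtCore, monic_one]
  | cons k K ih =>
    obtain ⟨h1, h2, h3⟩ := ih fun x hx => hK x (Multiset.mem_cons_of_mem hx)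
    obtain ⟨hm, hirr, hX, -⟩ := hK k (Multiset.mem_cons_self _ _)
    simp only [corePoly, wtCore, Multiset.map_cons, Multiset.prod_cons, Multiset.sum_cons] at h1 h2 h3 ⊢
    refine ⟨(hm.pow _).mul h1, by rw [(hm.pow _).natDegree_mul h1, hm.natDegree_pow, h2], ?_⟩
    rw [mul_coeff_zero]
    exact mul_ne_zero (by
      rw [coeff_zero_eq_eval_zero, eval_pow, ← coeff_zero_eq_eval_zero]
      exact pow_ne_zero _ (coeff_zero_ne hm hirr hX)) h3

/-- The labels of the planes of an identity isometry. -/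
theorem count_planes : ∀ K : List ULab, (∀ l ∈ K, l = ⟨true, 1, l.tau⟩) →
    K.count ⟨true, 1, true⟩ = cntTw K true 1 ∧
      K.count ⟨true, 1, true⟩ + K.count ⟨true, 1, false⟩ = wtSum K ∧ wtSum K = K.length ∧
      ∀ a : ULab, a.pr = false ∨ a.size ≠ 1 → K.count a = 0
  | [], _ => by simp [cntTw, wtSum]
  | l :: K, h => by
    obtain ⟨h1, h2, h4, h3⟩ := count_planes K fun x hx => h x (List.mem_cons_of_mem _ hx)
    have hl0 := h l (List.mem_cons_self ..)
    refine ⟨?_, ?_, ?_, fun a ha => ?_⟩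
    · simp only [cntTw, List.countP_cons, List.count_cons] at h1 ⊢
      rw [hl0]; cases l.tau <;> simp [h1]
    · simp only [wtSum, List.map_cons, List.sum_cons, List.count_cons] at h2 ⊢
      rw [hl0]; cases l.tau <;> simp [ULab.wt] <;> omega
    · simp only [wtSum, List.map_cons, List.sum_cons, List.length_cons] at h4 ⊢
      rw [hl0]; simp [ULab.wt]; omega
    · rw [List.count_cons, h3 a ha, if_neg]
      intro he
      rw [beq_iff_eq, hl0] at he
      subst he
      simp at ha

theorem labs_planes {W : Type v} {M : List (UBlk W)} (hM : ∀ b ∈ M, b.lab.pr = true ∧ b.lab.size = 1) :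
    ∀ l ∈ labsOf M, l = ⟨true, 1, l.tau⟩ := by
  intro l hl
  obtain ⟨b, hb, rfl⟩ := List.mem_map.1 hl
  obtain ⟨h1, h2⟩ := hM b hb
  rcases hbl : b.lab with ⟨p, s, t⟩
  rw [hbl] at h1 h2
  simp_all

namespace Sys

variable {V : Type v} [AddCommGroup V] [Module F V] (S : Sys F V) [Finite V]

theorem gauss_foldr {ε : F} (hε : IsEps ε) {P : List (V × V)} (hnd : ∀ p ∈ P, S.Nd (S.pspan p))
    (hO : P.Pairwise S.POrth) :
    S.gauss (P.foldr (fun p W => S.pspan p ⊔ W) ⊥) = (P.map fun p => S.gauss (S.pspan p)).prod := by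
  induction P with
  | nil => simp [S.gauss_bot]
  | cons p P ih =>
    obtain ⟨h1, h2⟩ := List.pairwise_cons.1 hO
    rw [List.foldr_cons, List.map_cons, List.prod_cons, ← ih (fun q hq => hnd q (List.mem_cons_of_mem _ hq)) h2]
    refine S.gauss_mul hε (hnd p (List.mem_cons_self ..)) (fun v hv w hw => ?_) rfl
    have key : ∀ Q : List (V × V), (∀ q ∈ Q, S.POrth p q) →
        Q.foldr (fun p W => S.pspan p ⊔ W) ⊥ ≤ S.orth (S.pspan p) := by
      intro Q hQ
      induction Q with
      | nil => simp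
      | cons q Q ihQ =>
        rw [List.foldr_cons]
        refine sup_le (fun w hw v hv => ?_) (ihQ fun r hr => hQ r (List.mem_cons_of_mem _ hr))
        rw [S.symm]
        exact hQ q (List.mem_cons_self ..) v hv w hw
    rw [S.symm]
    exact key P h1 hw v hv

theorem restr_pow [FiniteDimensional F V] {W : Submodule F V} (hWi : S.Invt W) (hW : S.Nd W) :
    ∀ (a : ℕ) (v : W), ((((S.restr W hWi hW).g ^ a) v : W) : V) = (S.g ^ a) v
  | 0, v => by simp
  | a + 1, v => by
    rw [pow_succ', pow_succ', LinearEquiv.mul_apply, LinearEquiv.mul_apply, ← restr_pow hWi hW a v]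
    rfl

theorem restr_cover [FiniteDimensional F V] {W : Submodule F V} (hWi : S.Invt W) (hW : S.Nd W) (x y : W)
    (hxy : W = S.gspan (x : V) y) : ⊤ ≤ [(x, y)].foldr (fun p U => (S.restr W hWi hW).pspan p ⊔ U) ⊥ := by
  rintro ⟨z, hz⟩ -
  simp only [List.foldr_cons, List.foldr_nil, sup_bot_eq]
  have hI : S.Invt (((S.restr W hWi hW).pspan (x, y)).map W.subtype) := by
    rintro _ ⟨u, hu, rfl⟩
    exact ⟨_, (S.restr W hWi hW).invt_gspan x y u hu, rfl⟩
  obtain ⟨u, hu, hu'⟩ := S.gspan_le hI ⟨x, (S.restr W hWi hW).left_mem_gspan x y, rfl⟩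
    ⟨y, (S.restr W hWi hW).right_mem_gspan x y, rfl⟩ (hxy ▸ hz)
  rwa [show (⟨z, hz⟩ : W) = u from Subtype.ext hu'.symm]

variable [Finite F] {V' : Type w} [AddCommGroup V'] [Module F V'] (S' : Sys F V') [Finite V']

theorem gauss_ublk (hδ : S.δ = S'.δ) {ε : F} {b : UBlk V} {b' : UBlk V'} (h : S.URealises ε b)
    (h' : S'.URealises ε b') (hl : b.lab = b'.lab) : S.gauss (S.bspan b) = S'.gauss (S'.bspan b') := by
  haveI : FiniteDimensional F V := Module.Finite.of_finite
  haveI : FiniteDimensional F V' := Module.Finite.of_finite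
  obtain ⟨p', hspan, hsame⟩ := S.ublk_rigid S' hδ h h' hl
  rw [show S'.bspan b' = S'.pspan p' from hspan.symm]
  obtain ⟨W, hWdef⟩ : ∃ W, W = S.bspan b := ⟨_, rfl⟩
  obtain ⟨W', hW'def⟩ : ∃ W', W' = S'.pspan p' := ⟨_, rfl⟩
  rw [← hWdef, ← hW'def]
  have hWi : S.Invt W := hWdef ▸ S.invt_gspan _ _
  have hWi' : S'.Invt W' := hW'def ▸ S'.invt_gspan _ _
  have hW : S.Nd W := hWdef ▸ S.real_nd h
  have hW' : S'.Nd W' := by rw [hW'def, hspan]; exact S'.real_nd h'
  have hbx : b.x ∈ W := hWdef ▸ S.left_mem_gspan _ _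
  have hby : b.y ∈ W := hWdef ▸ S.right_mem_gspan _ _
  have hpx : p'.1 ∈ W' := hW'def ▸ S'.left_mem_gspan _ _
  have hpy : p'.2 ∈ W' := hW'def ▸ S'.right_mem_gspan _ _
  have hs : Same (S.restr W hWi hW) (S'.restr W' hWi' hW') (⟨b.x, hbx⟩, ⟨b.y, hby⟩) (⟨p'.1, hpx⟩, ⟨p'.2, hpy⟩) := by
    refine ⟨?_, ?_, ?_, hsame.qx, hsame.qy⟩ <;> intro a c <;> show S.B _ _ = S'.B _ _ <;>
      simp only [Submodule.coe_subtype, S.restr_pow, S'.restr_pow]
    · exact hsame.bxx a c
    · exact hsame.bxy a c
    · exact hsame.byy a c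
  obtain ⟨φ, -, hQ, -⟩ := (S.restr W hWi hW).exists_isometry_pairs (S'.restr W' hWi' hW')
    (P := [(⟨b.x, hbx⟩, ⟨b.y, hby⟩)]) (P' := [(⟨p'.1, hpx⟩, ⟨p'.2, hpy⟩)]) hδ (List.pairwise_singleton _ _)
    (List.pairwise_singleton _ _) (S.restr_cover hWi hW _ _ hWdef) (S'.restr_cover hWi' hW' _ _ hW'def)
    (List.Forall₂.cons hs List.Forall₂.nil)
  exact S.gauss_congr S' φ hQ

/-- The contribution of the unipotent blocks. -/
noncomputable def uGauss (L : List (UBlk V)) : ℤ := (L.map fun b => S.gauss (S.bspan b)).prod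

theorem uGauss_congr (hδ : S.δ = S'.δ) {ε : F} {L : List (UBlk V)} {L' : List (UBlk V')}
    (h : ∀ b ∈ L, S.URealises ε b) (h' : ∀ b ∈ L', S'.URealises ε b)
    (hL : (labsOf L : Multiset ULab) = labsOf L') : S.uGauss L = S'.uGauss L' := by
  obtain ⟨L₂, hp, hf⟩ := forall₂_of_perm L L' (Quotient.exact hL)
  rw [uGauss, uGauss, ← (hp.map _).prod_eq]
  refine congrArg List.prod ?_
  have h2 : ∀ b ∈ L₂, S'.URealises ε b := fun b hb => h' b (hp.subset hb)
  clear hp hL h'
  induction hf with
  | nil => rfl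
  | cons hab _ ih =>
    rw [List.map_cons, List.map_cons, ih (fun b hb => h b (List.mem_cons_of_mem _ hb))
      (fun b hb => h2 b (List.mem_cons_of_mem _ hb)),
      S.gauss_ublk S' hδ (h _ (List.mem_cons_self ..)) (h2 _ (List.mem_cons_self ..)) hab]

/-- The Gauss sum of a decomposed space. -/
theorem gauss_dec {ε : F} (hε : IsEps ε) (hδ : S.δ = 1) {C : List (CBlk F V)} {L : List (UBlk V)}
    (h : S.Dec ε ⊤ C L) (hG : GoodCore (coreKey C)) :
    S.gauss ⊤ = (Nat.card F : ℤ) ^ wtCore (coreKey C) * psi (sigmaP (corePoly (coreKey C))) * S.uGauss L := by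
  haveI : FiniteDimensional F V := Module.Finite.of_finite
  have hnd : ∀ p ∈ gens C L, S.Nd (S.pspan p) := fun p hp => by
    simp only [gens, List.mem_append, List.mem_map] at hp
    rcases hp with ⟨c, hc, rfl⟩ | ⟨b, hb, rfl⟩
    · exact S.nd_core (h.core c hc)
    · exact S.real_nd (h.unip b hb)
  rw [← le_antisymm le_top h.cover, S.gauss_foldr hε hnd h.orth, gens, List.map_append, List.prod_append,
    List.map_map, List.map_map]
  refine congrArg₂ (· * ·) ?_ rfl
  have hcore := h.core
  clear h hnd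
  induction C with
  | nil => simp [coreKey, wtCore, corePoly, sigmaP_one, psi_zero]
  | cons c C ih =>
    have hG' : GoodCore (coreKey C) := fun k hk => hG k (by
      rw [coreKey, List.map_cons, ← Multiset.cons_coe]; exact Multiset.mem_cons_of_mem hk)
    have hc := hcore c (List.mem_cons_self ..)
    have h0 : (c.P ^ c.e).coeff 0 ≠ 0 := by
      rw [coeff_zero_eq_eval_zero, eval_pow, ← coeff_zero_eq_eval_zero]
      exact pow_ne_zero _ (coeff_zero_ne hc.monic hc.irr hc.ne_X)
    rw [List.map_cons, List.prod_cons, ih hG' fun d hd => hcore d (List.mem_cons_of_mem _ hd), Function.comp_apply,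
      show S.pspan (c.x, 0) = S.gspan c.x 0 from rfl, S.gauss_core hε hδ hc]
    simp only [coreKey, List.map_cons, ← Multiset.cons_coe, wtCore, corePoly, Multiset.map_cons, Multiset.prod_cons,
      Multiset.sum_cons, CBlk.key]
    have h3 := (corePoly_spec hG').2.2
    simp only [corePoly, coreKey] at h3
    rw [sigmaP_mul h0 h3, psi_add hε, pow_add]
    ring

/-- The Gauss sum of a hyperbolic or elliptic plane. -/
theorem gauss_plane {ε : F} (hε : IsEps ε) (hδ : S.δ = 1) {τ : Bool} {x y : V} (h : S.IsPair ε 1 τ x y) :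
    S.gauss (S.gspan x y) = Nat.card F * psi (tw ε τ) := by
  haveI : FiniteDimensional F V := Module.Finite.of_finite
  haveI := Fintype.ofFinite F
  haveI := Fintype.ofFinite (S.gspan x y)
  have hmem : ∀ a b : F, a • x + b • y ∈ S.gspan x y := fun a b =>
    Submodule.add_mem _ (Submodule.smul_mem _ a (S.left_mem_gspan x y)) (Submodule.smul_mem _ b (S.right_mem_gspan x y))
  have hbij : Function.Bijective (fun p : F × F => (⟨_, hmem p.1 p.2⟩ : S.gspan x y)) := by
    constructor
    · rintro ⟨a, b⟩ ⟨a', b'⟩ heq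
      have h' : a • x + b • y = a' • x + b' • y := congrArg Subtype.val heq
      have hz := S.coeff_pair h.toIsPair0 (fun _ => a - a') (fun _ => b - b') (fun w _ => by
        rw [Finset.sum_range_one]
        simp only [pow_zero, Module.End.one_apply, sub_smul]
        rw [show a • x - a' • x + (b • y - b' • y) = (a • x + b • y) - (a' • x + b' • y) by abel, h', sub_self,
          map_zero, LinearMap.zero_apply]) 0 Nat.one_pos
      simp [sub_eq_zero.1 hz.1, sub_eq_zero.1 hz.2]
    · rintro ⟨z, hz⟩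
      obtain ⟨a, b, rfl⟩ := S.gspan_le_range h.killx h.killy z hz
      exact ⟨(a 0, b 0), Subtype.ext (by simp)⟩
  have hx : S.Q x = px τ := h.twistx
  have hy : S.Q y = tw ε τ := h.twisty
  have hxy : S.B x y = 1 := by have := h.topxy; simpa [M] using this
  have hQ : ∀ a b : F, S.Q (a • x + b • y) = a ^ 2 * px τ + b ^ 2 * tw ε τ + a * b := fun a b => by
    rw [S.q_add, S.q_smul, S.q_smul, hx, hy, hδ, one_mul, map_smul, map_smul, LinearMap.smul_apply, hxy, smul_eq_mul,
      smul_eq_mul]
    ring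
  obtain ⟨s, hs⟩ := exists_sqrt (tw ε τ)
  rw [gauss_eq, ← Fintype.sum_bijective _ hbij (fun p => psi (p.1 ^ 2 * px τ) * psi ((s + p.1) * p.2)) _ fun p => by
    show _ = psi (S.Q (p.1 • x + p.2 • y))
    rw [hQ, psi_add hε, psi_add hε, ← hs, show p.2 ^ 2 * s ^ 2 = (s * p.2) ^ 2 by ring, psi_sq, add_mul, psi_add hε,
      mul_assoc]]
  rw [Fintype.sum_prod_type, Fintype.sum_eq_single s fun a ha => ?_]
  · simp only [CharTwo.add_self_eq_zero, zero_mul, psi_zero, mul_one, Finset.sum_const, Finset.card_univ,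
      nsmul_eq_mul, Nat.card_eq_fintype_card]
    rw [hs]
    congr 1
    cases τ <;> simp [px, tw]
  · show ∑ b : F, psi (a ^ 2 * px τ) * psi ((s + a) * b) = 0
    rw [← Finset.mul_sum]
    have hne : s + a ≠ 0 := fun h0 => ha (CharTwo.add_eq_zero.1 h0).symm
    rw [show ∑ b, psi ((s + a) * b) = ∑ b, psi ((LinearMap.mulLeft F (s + a)) b) from rfl,
      sum_psi_eq_zero hε (LinearMap.mulLeft F (s + a)) fun h0 => hne (by simpa using congrArg (fun f => f 1) h0),
      mul_zero]

theorem cast_card_ne : (Nat.card F : ℤ) ≠ 0 := Int.natCast_ne_zero.2 Nat.card_pos.ne'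

theorem plain_labels {ε : F} {C : List (CBlk F V)} {L : List (UBlk V)} (h : (S.plain).Dec ε ⊤ C L) :
    C = [] ∧ ∀ b ∈ L, b.lab.pr = true ∧ b.lab.size = 1 := by
  have hN : ∀ v : V, S.plain.N v = 0 := fun v => by rw [N_apply]; simp [plain]
  have hT : ∀ v : V, S.plain.T v = 0 := fun v => by
    rw [T_apply]; simp only [plain, LinearEquiv.refl_apply, LinearEquiv.refl_symm]; exact S.add_self v
  refine ⟨?_, fun b hb => ?_⟩
  · rw [List.eq_nil_iff_forall_not_mem]
    intro c hc
    have hc := h.core c hc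
    have h0 : ∀ p : F[X], ∀ v, S.plain.pT p v = p.coeff 0 • v := fun p => by
      induction p using Polynomial.induction_on' with
      | add p q hp hq => intro v; rw [pT_add, hp, hq, coeff_add, add_smul]
      | monomial n a =>
        intro v
        rcases n with _ | n
        · simp [pT]
        · rw [pT, aeval_monomial, Module.End.mul_apply, pow_succ, Module.End.mul_apply, hT]
          simp
    have hk := hc.kill
    rw [h0] at hk
    have hne : (c.P ^ c.e).coeff 0 ≠ 0 := by
      rw [coeff_zero_eq_eval_zero, eval_pow, ← coeff_zero_eq_eval_zero]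
      exact pow_ne_zero _ (coeff_zero_ne hc.monic hc.irr hc.ne_X)
    obtain ⟨κ, hκ⟩ := hc.top
    exact hκ (by rw [omega, (smul_eq_zero.1 hk).resolve_left hne, map_zero])
  · obtain ⟨-, -, h1, hmin⟩ := S.plain.real_kill (h.unip b hb)
    have hsize : b.lab.size = 1 := by
      by_contra hne
      exact hmin 1 (by omega) (by rw [pow_one, hN])
    refine ⟨?_, hsize⟩
    cases hp : b.lab.pr
    · have := ((h.unip b hb).1 hp).1.two_le; omega
    · rfl

theorem uGauss_planes {ε : F} (hε : IsEps ε) (hδ : S.δ = 1) : ∀ M : List (UBlk V),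
    (∀ b ∈ M, S.URealises ε b) → (∀ b ∈ M, b.lab.pr = true ∧ b.lab.size = 1) →
    S.uGauss M = (Nat.card F : ℤ) ^ M.length * (-1) ^ cntTw (labsOf M) true 1
  | [], _, _ => by simp [uGauss, cntTw, labsOf]
  | b :: M, hR, hM => by
    have ih' := uGauss_planes hε hδ M (fun c hc => hR c (List.mem_cons_of_mem _ hc)) fun c hc =>
      hM c (List.mem_cons_of_mem _ hc)
    obtain ⟨hp, hs⟩ := hM b (List.mem_cons_self ..)
    have hP := (hR b (List.mem_cons_self ..)).2 hp
    rw [hs] at hP
    simp only [uGauss] at ih' ⊢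
    rw [List.map_cons, List.prod_cons, ih', bspan, S.gauss_plane hε hδ hP, List.length_cons, pow_succ]
    simp only [cntTw, labsOf, List.map_cons, List.countP_cons, hp, hs]
    cases b.lab.tau <;> simp [tw, psi_zero, psi_eps hε, pow_succ] <;> ring

omit [Finite V'] in
/-- Spaces of the same dimension and Gauss sum are isometric. -/
theorem exists_isometry_plain [FiniteDimensional F V] [FiniteDimensional F V'] {ε : F} (hε : IsEps ε)
    (hδ : S.δ = S'.δ) (hfr : Module.finrank F V = Module.finrank F V') [Finite V']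
    (hg : S.δ = 1 → S.gauss ⊤ = S'.gauss ⊤) :
    ∃ φ : V ≃ₗ[F] V', (∀ v w, S'.B (φ v) (φ w) = S.B v w) ∧ ∀ v, S'.Q (φ v) = S.Q v := by
  obtain ⟨C, L, hD, hV, hG, hw⟩ := S.plain.exists_dec hε ⊤ (fun _ _ => trivial) S.plain.nd_top
  obtain ⟨C', L', hD', hV', hG', hw'⟩ := S'.plain.exists_dec hε ⊤ (fun _ _ => trivial) S'.plain.nd_top
  obtain ⟨rfl, hl⟩ := S.plain_labels hD
  obtain ⟨rfl, hl'⟩ := S'.plain_labels hD'
  obtain ⟨c1, c2, c4, c3⟩ := count_planes _ (labs_planes hl)
  obtain ⟨c1', c2', c4', c3'⟩ := count_planes _ (labs_planes hl')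
  have hle := hV.tw_le true 1
  have hle' := hV'.tw_le true 1
  simp only [coreKey, List.map_nil, wtCore, Multiset.coe_nil, Multiset.map_zero, Multiset.sum_zero, zero_add, finrank_top]
    at hw hw'
  have heq : cntTw (labsOf L) true 1 = cntTw (labsOf L') true 1 := by
    rcases S.q_kind with h1 | ⟨h0, -⟩
    · have hone := hg h1
      have e1 := S.plain.gauss_dec hε h1 hD hG
      have e2 := S'.plain.gauss_dec hε (show S'.δ = 1 from hδ ▸ h1) hD' hG'
      rw [S.plain.uGauss_planes hε h1 L hD.unip hl] at e1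
      rw [S'.plain.uGauss_planes hε (show S'.δ = 1 from hδ ▸ h1) L' hD'.unip hl'] at e2
      simp only [coreKey, List.map_nil, wtCore, corePoly, Multiset.coe_nil, Multiset.map_zero, Multiset.sum_zero,
        Multiset.prod_zero, pow_zero, sigmaP_one, psi_zero, one_mul] at e1 e2
      have e3 : S.plain.gauss ⊤ = S'.plain.gauss ⊤ := hone
      rw [e1, e2, show L.length = L'.length by simp only [labsOf, List.length_map] at c4 c4'; unfold labsOf at hw hw'; omega] at e3
      have e4 := mul_left_cancel₀ (pow_ne_zero _ (cast_card_ne (F := F))) e3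
      interval_cases h : cntTw (labsOf L) true 1 <;> interval_cases h' : cntTw (labsOf L') true 1 <;> simp_all
    · have h3 : ∀ {δ : F} {K : List ULab}, δ = 0 → Valid δ K → cntTw K true 1 = 0 := by
        intro δ K hd hK
        rw [cntTw, List.countP_eq_zero]
        intro l hl he
        simp only [Bool.and_eq_true, beq_iff_eq] at he
        have := ((hK.good l hl).2.2 hd he.2).2 he.1.1
        omega
      rw [h3 (show S.plain.δ = 0 from h0) hV, h3 (show S'.plain.δ = 0 from hδ ▸ h0) hV']
  obtain ⟨φ, hB, hQ, -⟩ := S.plain.exists_isometry_of_key S'.plain hδ hD hD' rfl (by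
    rw [Multiset.coe_eq_coe, List.perm_iff_count]
    intro a
    by_cases ha : a.pr = false ∨ a.size ≠ 1
    · rw [c3 a ha, c3' a ha]
    · obtain ⟨p, s, t⟩ := a
      simp only [not_or, Bool.not_eq_false, ne_eq, not_not] at ha
      obtain ⟨rfl, rfl⟩ := ha
      cases t <;> omega)
  exact ⟨φ, hB, hQ⟩

end Sys

end CfsgLib.CharTwoClasses
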