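import Mathlib

/-!
# Isometries of alternating forms in characteristic two

A system is a nondegenerate alternating form, an invariant map `Q` which is either a quadratic form
polarising to it (`δ = 1`) or zero (`δ = 0`), and an isometry `g`.
-/

set_option autoImplicit false
set_option linter.unusedSectionVars false

namespace CfsgLib.CharTwoClasses

universe u v w

/-- A nondegenerate alternating form with an isometry and an optional quadratic form. -/
structure Sys (F : Type u) [Field F] (V : Type v) [AddCommGroup V] [Module F V] where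
  B : LinearMap.BilinForm F V
  Q : V → F
  δ : F
  g : V ≃ₗ[F] V
  alt : ∀ v, B v v = 0
  nondeg : ∀ v, (∀ w, B v w = 0) → v = 0
  inv : ∀ v w, B (g v) (g w) = B v w
  q_add : ∀ v w, Q (v + w) = Q v + Q w + δ * B v w
  q_smul : ∀ (c : F) v, Q (c • v) = c ^ 2 * Q v
  q_inv : ∀ v, Q (g v) = Q v
  q_kind : δ = 1 ∨ (δ = 0 ∧ ∀ v, Q v = 0)

/-- A function with the symmetry of the values `B (N ^ p x) (N ^ q y)`. -/
def Stepped {F : Type u} [Field F] (f : ℕ → ℕ → F) : Prop :=
  ∀ p q, f (p + 1) q + f p (q + 1) + f (p + 1) (q + 1) = 0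

section Stepped

variable {F : Type u} [Field F] [CharP F 2] {f : ℕ → ℕ → F}

/-- The values on an antidiagonal, given those on the next one. -/
theorem Stepped.level (hf : Stepped f) {l : ℕ} {c : F} (hc : ∀ p q, p + q = l + 1 → f p q = c) :
    ∀ p q, p + q = l → f p q = f 0 l + (p : F) * c := by
  intro p
  induction p with
  | zero => intro q h; rw [show q = l by omega, Nat.cast_zero, zero_mul, add_zero]
  | succ p ih =>
    intro q h
    have h1 := hf p q
    rw [hc (p + 1) (q + 1) (by omega), ih (q + 1) (by omega)] at h1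
    have h2 : f (p + 1) q = -(f 0 l + (p : F) * c + c) := by linear_combination h1
    rw [h2, CharTwo.neg_eq, Nat.cast_succ]
    ring

/-- Vanishing of all antidiagonals from a given one on. -/
theorem Stepped.vanish (hf : Stepped f) {m N : ℕ} (hN : ∀ p q, N ≤ p + q → f p q = 0)
    (h0 : ∀ l, m ≤ l → f 0 l = 0) : ∀ p q, m ≤ p + q → f p q = 0 := by
  suffices h : ∀ k p q, m ≤ p + q → N ≤ p + q + k → f p q = 0 from fun p q h' => h N p q h' (by omega)
  intro k
  induction k with
  | zero => intro p q _ h; exact hN p q h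
  | succ k ih =>
    intro p q hm h
    rw [hf.level (c := 0) (fun p' q' e => ih p' q' (by omega) (by omega)) p q rfl, h0 _ hm, mul_zero, add_zero]

theorem Stepped.add {g : ℕ → ℕ → F} (hf : Stepped f) (hg : Stepped g) : Stepped (fun p q => f p q + g p q) :=
  fun p q => by linear_combination hf p q + hg p q

end Stepped

namespace Sys

variable {F : Type u} [Field F] [CharP F 2] {V : Type v} [AddCommGroup V] [Module F V] (S : Sys F V)

/-- The nilpotent part `g - 1` of a unipotent isometry. -/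
def N : Module.End F V := (S.g : V →ₗ[F] V) - 1

theorem N_apply (v : V) : S.N v = S.g v - v := by simp [N]

theorem g_eq (v : V) : S.g v = v + S.N v := by rw [N_apply, add_sub_cancel]

theorem symm (v w : V) : S.B v w = S.B w v := by
  have h := S.alt (v + w)
  simp only [map_add, LinearMap.add_apply, S.alt, zero_add, add_zero] at h
  rw [← CharTwo.sub_eq_add] at h
  exact (sub_eq_zero.1 h).symm

/-- The values `B (N ^ p x) (N ^ q y)`. -/
def M (x y : V) (p q : ℕ) : F := S.B ((S.N ^ p) x) ((S.N ^ q) y)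

theorem M_def (x y : V) (p q : ℕ) : S.M x y p q = S.B ((S.N ^ p) x) ((S.N ^ q) y) := rfl

theorem M_symm (x y : V) (p q : ℕ) : S.M x y p q = S.M y x q p := S.symm _ _

theorem pow_succ_apply (p : ℕ) (x : V) : (S.N ^ (p + 1)) x = S.N ((S.N ^ p) x) := by
  rw [pow_succ']; rfl

theorem pow_add_apply (p j : ℕ) (x : V) : (S.N ^ p) ((S.N ^ j) x) = (S.N ^ (p + j)) x := by
  rw [pow_add]; rfl

theorem M_stepped (x y : V) : Stepped (S.M x y) := fun p q => by
  have h := S.inv ((S.N ^ p) x) ((S.N ^ q) y)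
  simp only [M, pow_succ_apply]
  simp only [g_eq, map_add, LinearMap.add_apply] at h
  linear_combination h

theorem pow_eq_zero_of_le {m p : ℕ} {x : V} (hx : (S.N ^ m) x = 0) (h : m ≤ p) : (S.N ^ p) x = 0 := by
  rw [show p = (p - m) + m by omega, ← S.pow_add_apply, hx, map_zero]

theorem M_vanish {m : ℕ} {x y : V} (hx : (S.N ^ m) x = 0) (hy : (S.N ^ m) y = 0) :
    ∀ p q, m ≤ p + q → S.M x y p q = 0 := by
  refine (S.M_stepped x y).vanish (N := 2 * m) (fun p q h => ?_) fun l hl => ?_
  · rcases Nat.lt_or_ge p m with hp | hp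
    · rw [M_def, S.pow_eq_zero_of_le hy (show m ≤ q by omega), map_zero]
    · rw [M_def, S.pow_eq_zero_of_le hx hp, map_zero, LinearMap.zero_apply]
  · rw [M_def, S.pow_eq_zero_of_le hy hl, map_zero]

theorem M_diag (x : V) (r : ℕ) : S.M x x r r = 0 := S.alt _

theorem M_add_left (x x' y : V) (p q : ℕ) : S.M (x + x') y p q = S.M x y p q + S.M x' y p q := by
  simp only [M, map_add, LinearMap.add_apply]

theorem M_add_right (x y y' : V) (p q : ℕ) : S.M x (y + y') p q = S.M x y p q + S.M x y' p q := by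
  simp only [M, map_add]

theorem M_smul_left (c : F) (x y : V) (p q : ℕ) : S.M (c • x) y p q = c * S.M x y p q := by
  simp only [M, map_smul, LinearMap.smul_apply, smul_eq_mul]

theorem M_smul_right (c : F) (x y : V) (p q : ℕ) : S.M x (c • y) p q = c * S.M x y p q := by
  simp only [M, map_smul, smul_eq_mul]

theorem M_pow_left (x y : V) (j p q : ℕ) : S.M ((S.N ^ j) x) y p q = S.M x y (p + j) q := by
  simp only [M, pow_add_apply]

theorem M_pow_right (x y : V) (j p q : ℕ) : S.M x ((S.N ^ j) y) p q = S.M x y p (q + j) := by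
  simp only [M, pow_add_apply]

theorem M_zero_left (y : V) (p q : ℕ) : S.M 0 y p q = 0 := by simp [M]

theorem M_zero_right (x : V) (p q : ℕ) : S.M x 0 p q = 0 := by simp [M]

theorem q_zero : S.Q 0 = 0 := by
  simpa using S.q_smul 0 0

theorem q_N (z : V) : S.Q (S.N z) = S.δ * S.B (S.N z) z := by
  have h := S.q_inv z
  rw [g_eq, S.q_add, S.symm] at h
  have h' : S.Q (S.N z) = -(S.δ * S.B (S.N z) z) := by linear_combination h
  rwa [CharTwo.neg_eq] at h'

/-- Equality of all the values gives equality for the powers of the isometries. -/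
theorem gram_of_M {V' : Type w} [AddCommGroup V'] [Module F V'] (S' : Sys F V') {x y : V} {x' y' : V'}
    (h : ∀ p q, S.M x y p q = S'.M x' y' p q) :
    ∀ a b : ℕ, S.B ((S.g ^ a) x) ((S.g ^ b) y) = S'.B ((S'.g ^ a) x') ((S'.g ^ b) y') := by
  have hb : ∀ b p q, S.B ((S.N ^ p) x) ((S.g ^ b) ((S.N ^ q) y)) =
      S'.B ((S'.N ^ p) x') ((S'.g ^ b) ((S'.N ^ q) y')) := by
    intro b
    induction b with
    | zero => exact h
    | succ b ih =>
      intro p q
      rw [pow_succ, pow_succ, LinearEquiv.mul_apply, LinearEquiv.mul_apply, g_eq, g_eq, map_add, map_add, map_add,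
        map_add, ← pow_succ_apply, ← pow_succ_apply, ih, ih]
  have ha : ∀ a b p, S.B ((S.g ^ a) ((S.N ^ p) x)) ((S.g ^ b) y) =
      S'.B ((S'.g ^ a) ((S'.N ^ p) x')) ((S'.g ^ b) y') := by
    intro a
    induction a with
    | zero => intro b p; simpa using hb b p 0
    | succ a ih =>
      intro b p
      rw [pow_succ, pow_succ, LinearEquiv.mul_apply, LinearEquiv.mul_apply, g_eq, g_eq]
      simp only [map_add, LinearMap.add_apply, ← pow_succ_apply, ih]
  intro a b
  simpa using ha a b 0

/-! ### Invariant subspaces -/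

/-- The smallest invariant subspace containing two vectors. -/
def gspan (x y : V) : Submodule F V :=
  Submodule.span F (Set.range fun a : ℕ => (S.g ^ a) x) ⊔ Submodule.span F (Set.range fun a : ℕ => (S.g ^ a) y)

theorem left_mem_gspan (x y : V) : x ∈ S.gspan x y :=
  Submodule.mem_sup_left (Submodule.subset_span ⟨0, by simp⟩)

theorem right_mem_gspan (x y : V) : y ∈ S.gspan x y :=
  Submodule.mem_sup_right (Submodule.subset_span ⟨0, by simp⟩)

/-- A subspace is invariant. -/
def Invt (U : Submodule F V) : Prop := ∀ v ∈ U, S.g v ∈ U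

theorem Invt.pow {U : Submodule F V} (hU : S.Invt U) : ∀ (a : ℕ) {v : V}, v ∈ U → (S.g ^ a) v ∈ U
  | 0, v, hv => by simpa using hv
  | a + 1, v, hv => by
    rw [pow_succ, LinearEquiv.mul_apply]
    exact Invt.pow hU a (hU v hv)

theorem Invt.N {U : Submodule F V} (hU : S.Invt U) {v : V} (hv : v ∈ U) : S.N v ∈ U := by
  rw [N_apply]; exact U.sub_mem (hU v hv) hv

theorem Invt.N_pow {U : Submodule F V} (hU : S.Invt U) : ∀ (p : ℕ) {v : V}, v ∈ U → (S.N ^ p) v ∈ U
  | 0, v, hv => by simpa using hv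
  | p + 1, v, hv => by
    rw [S.pow_succ_apply]; exact hU.N S (Invt.N_pow hU p hv)

theorem invt_of_N {U : Submodule F V} (h : ∀ v ∈ U, S.N v ∈ U) : S.Invt U := fun v hv => by
  rw [g_eq]; exact U.add_mem hv (h v hv)

theorem gspan_le {U : Submodule F V} (hU : S.Invt U) {x y : V} (hx : x ∈ U) (hy : y ∈ U) : S.gspan x y ≤ U :=
  sup_le (Submodule.span_le.2 (Set.range_subset_iff.2 fun a => hU.pow S a hx))
    (Submodule.span_le.2 (Set.range_subset_iff.2 fun a => hU.pow S a hy))

theorem invt_gspan (x y : V) : S.Invt (S.gspan x y) := by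
  intro v hv
  have h : S.gspan x y ≤ (S.gspan x y).comap (S.g : V →ₗ[F] V) := by
    refine sup_le (Submodule.span_le.2 ?_) (Submodule.span_le.2 ?_) <;> rintro _ ⟨a, rfl⟩
    · exact Submodule.mem_sup_left (Submodule.subset_span ⟨a + 1, by simp [pow_succ']⟩)
    · exact Submodule.mem_sup_right (Submodule.subset_span ⟨a + 1, by simp [pow_succ']⟩)
  exact h hv

/-- Changing the generators by elements of the image of `N`. -/
theorem gspan_congr {m : ℕ} {x y x' y' : V} (hm : ∀ v ∈ S.gspan x y, (S.N ^ m) v = 0)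
    (hx : ∃ r ∈ S.gspan x y, x' = x + S.N r) (hy : ∃ r ∈ S.gspan x y, y' = y + S.N r) :
    S.gspan x' y' = S.gspan x y := by
  obtain ⟨rx, hrx, rfl⟩ := hx
  obtain ⟨ry, hry, rfl⟩ := hy
  have hI := S.invt_gspan x y
  refine le_antisymm (S.gspan_le hI (Submodule.add_mem _ (S.left_mem_gspan _ _) (hI.N S hrx))
    (Submodule.add_mem _ (S.right_mem_gspan _ _) (hI.N S hry))) ?_
  obtain ⟨U, hUdef⟩ : ∃ U, U = S.gspan (x + S.N rx) (y + S.N ry) := ⟨_, rfl⟩
  rw [← hUdef]
  have hU : S.Invt U := hUdef ▸ S.invt_gspan _ _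
  -- modulo U every vector of the span is in the image of every power of N
  have key : ∀ k, ∀ v ∈ S.gspan x y, ∃ r ∈ S.gspan x y, v - (S.N ^ k) r ∈ U := by
    intro k
    induction k with
    | zero => exact fun v hv => ⟨v, hv, by simp⟩
    | succ k ih =>
      have hgen : ∀ z ∈ S.gspan x y, ∃ r ∈ S.gspan x y, z - S.N r ∈ U := by
        intro z hz
        have hle : S.gspan x y ≤ U ⊔ (S.gspan x y).map S.N := by
          refine S.gspan_le (S.invt_of_N fun v hv => ?_) ?_ ?_
          · obtain ⟨u₁, hu₁, w₁, hw₁, rfl⟩ := Submodule.mem_sup.1 hv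
            obtain ⟨r, hr, rfl⟩ := Submodule.mem_map.1 hw₁
            rw [map_add]
            exact Submodule.add_mem _ (Submodule.mem_sup_left (hU.N S hu₁))
              (Submodule.mem_sup_right (Submodule.mem_map_of_mem (hI.N S hr)))
          · refine Submodule.mem_sup.2 ⟨x + S.N rx, hUdef ▸ S.left_mem_gspan _ _, -S.N rx, ?_, by abel⟩
            exact Submodule.neg_mem _ (Submodule.mem_map_of_mem hrx)
          · refine Submodule.mem_sup.2 ⟨y + S.N ry, hUdef ▸ S.right_mem_gspan _ _, -S.N ry, ?_, by abel⟩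
            exact Submodule.neg_mem _ (Submodule.mem_map_of_mem hry)
        obtain ⟨u₁, hu₁, w₁, hw₁, rfl⟩ := Submodule.mem_sup.1 (hle hz)
        obtain ⟨r, hr, rfl⟩ := Submodule.mem_map.1 hw₁
        exact ⟨r, hr, by rwa [add_sub_cancel_right]⟩
      intro v hv
      obtain ⟨r, hr, h1⟩ := ih v hv
      obtain ⟨r', hr', h2⟩ := hgen r hr
      refine ⟨r', hr', ?_⟩
      have h3 := U.add_mem h1 (hU.N_pow S k h2)
      rw [map_sub, sub_add_sub_cancel, show S.N r' = (S.N ^ 1) r' by rw [pow_one], S.pow_add_apply] at h3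
      exact h3
  intro v hv
  obtain ⟨r, hr, h⟩ := key m v hv
  rwa [hm r hr, sub_zero] at h

/-- The orthogonal of a subspace. -/
def orth (W : Submodule F V) : Submodule F V where
  carrier := {v | ∀ w ∈ W, S.B v w = 0}
  zero_mem' := fun w _ => by simp
  add_mem' := fun {a b} ha hb w hw => by simp [ha w hw, hb w hw]
  smul_mem' := fun c a ha w hw => by simp [ha w hw]

theorem mem_orth {W : Submodule F V} {v : V} : v ∈ S.orth W ↔ ∀ w ∈ W, S.B v w = 0 := Iff.rfl

/-- A subspace on which the form is nondegenerate. -/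
def Nd (U : Submodule F V) : Prop := ∀ z ∈ U, (∀ w ∈ U, S.B z w = 0) → z = 0

theorem nd_top : S.Nd ⊤ := fun z _ h => S.nondeg z fun w => h w trivial

variable [FiniteDimensional F V]

/-- Every functional on a nondegenerate subspace is an inner product. -/
theorem Nd.exists_rep {U : Submodule F V} (hU : S.Nd U) (l : U →ₗ[F] F) :
    ∃ w ∈ U, ∀ z : U, l z = S.B z w := by
  let Φ : U →ₗ[F] Module.Dual F U := (S.B.compl₁₂ U.subtype U.subtype)
  have hinj : Function.Injective Φ := by
    rw [← LinearMap.ker_eq_bot, LinearMap.ker_eq_bot']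
    intro z hz
    refine Subtype.ext (hU z z.2 fun w hw => ?_)
    exact congrArg (fun f : Module.Dual F U => f ⟨w, hw⟩) hz
  obtain ⟨w, hw⟩ := (LinearMap.injective_iff_surjective_of_finrank_eq_finrank Subspace.dual_finrank_eq.symm).1 hinj l
  exact ⟨w, w.2, fun z => by rw [← hw, S.symm]; rfl⟩

/-- Splitting off a nondegenerate invariant subspace. -/
theorem complement {U W : Submodule F V} (hUi : S.Invt U) (hU : S.Nd U) (hWi : S.Invt W) (hW : S.Nd W) (hWU : W ≤ U) :
    (∀ u ∈ U, ∃ s ∈ W, ∃ r ∈ U ⊓ S.orth W, u = s + r) ∧ W ⊔ (U ⊓ S.orth W) = U ∧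
      S.Invt (U ⊓ S.orth W) ∧ S.Nd (U ⊓ S.orth W) ∧
      (W ≠ ⊥ → Module.finrank F ↥(U ⊓ S.orth W) < Module.finrank F U) := by
  have hdec : ∀ u ∈ U, ∃ s ∈ W, ∃ r ∈ U ⊓ S.orth W, u = s + r := fun u hu => by
    obtain ⟨s, hs, h⟩ := hW.exists_rep S ((S.B.flip u).comp W.subtype)
    refine ⟨s, hs, u - s, ⟨U.sub_mem hu (hWU hs), fun w hw => ?_⟩, (add_sub_cancel s u).symm⟩
    have := h ⟨w, hw⟩
    change S.B w u = S.B w s at this
    rw [map_sub, LinearMap.sub_apply, S.symm u, S.symm s, this, sub_self]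
  have hsup : W ⊔ (U ⊓ S.orth W) = U := le_antisymm (sup_le hWU inf_le_left) fun u hu => by
    obtain ⟨s, hs, r, hr, rfl⟩ := hdec u hu
    exact Submodule.add_mem_sup hs hr
  have hsurj : ∀ w ∈ W, ∃ w' ∈ W, S.g w' = w := fun w hw => by
    have hinj : Function.Injective ((S.g : V →ₗ[F] V).restrict hWi) := fun a b h =>
      Subtype.ext (S.g.injective (congrArg Subtype.val h))
    obtain ⟨w', hw'⟩ := (LinearMap.injective_iff_surjective.1 hinj) ⟨w, hw⟩
    exact ⟨w', w'.2, congrArg Subtype.val hw'⟩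
  refine ⟨hdec, hsup, ?_, ?_, fun hne => ?_⟩
  · rintro v ⟨hv1, hv2⟩
    refine ⟨hUi v hv1, fun w hw => ?_⟩
    obtain ⟨w', hw', rfl⟩ := hsurj w hw
    rw [S.inv]; exact hv2 w' hw'
  · intro z hz h
    refine hU z hz.1 fun u hu => ?_
    obtain ⟨s, hs, r, hr, rfl⟩ := hdec u hu
    rw [map_add, hz.2 s hs, h r hr, add_zero]
  · refine Submodule.finrank_lt_finrank_of_lt (lt_of_le_of_ne inf_le_left fun e => hne ?_)
    rw [Submodule.eq_bot_iff]
    intro w hw
    have hw' : w ∈ U ⊓ S.orth W := e.symm ▸ hWU hw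
    exact hW w hw hw'.2

end Sys

/-! ### Families with the same values -/

theorem exists_isometry {F : Type u} [Field F] [CharP F 2] {V : Type v} [AddCommGroup V] [Module F V] {V' : Type w}
    [AddCommGroup V'] [Module F V'] (S : Sys F V) (S' : Sys F V') {ι : Type*} (e : ι → V) (e' : ι → V') (s : ι → ι)
    (hs : ∀ i, S.g (e i) = e (s i)) (hs' : ∀ i, S'.g (e' i) = e' (s i))
    (he : Submodule.span F (Set.range e) = ⊤) (he' : Submodule.span F (Set.range e') = ⊤)
    (hB : ∀ i j, S.B (e i) (e j) = S'.B (e' i) (e' j)) (hQ : ∀ i, S.Q (e i) = S'.Q (e' i)) (hδ : S.δ = S'.δ) :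
    ∃ φ : V ≃ₗ[F] V', (∀ v w, S'.B (φ v) (φ w) = S.B v w) ∧ (∀ v, S'.Q (φ v) = S.Q v) ∧
      ∀ v, φ (S.g v) = S'.g (φ v) := by
  let L := Finsupp.linearCombination F e
  let L' := Finsupp.linearCombination F e'
  have hL : Function.Surjective L := by
    rw [← LinearMap.range_eq_top, Finsupp.range_linearCombination, he]
  have hL' : Function.Surjective L' := by
    rw [← LinearMap.range_eq_top, Finsupp.range_linearCombination, he']
  have hG : ∀ c d, S.B (L c) (L d) = S'.B (L' c) (L' d) := by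
    intro c d
    simp only [L, L', Finsupp.linearCombination_apply, Finsupp.sum, map_sum, LinearMap.sum_apply, map_smul,
      LinearMap.smul_apply, hB]
  have hker : LinearMap.ker L = LinearMap.ker L' := by
    ext c
    simp only [LinearMap.mem_ker]
    constructor <;> intro h
    · refine S'.nondeg _ fun w => ?_
      obtain ⟨d, rfl⟩ := hL' w
      rw [← hG, h, map_zero, LinearMap.zero_apply]
    · refine S.nondeg _ fun w => ?_
      obtain ⟨d, rfl⟩ := hL w
      rw [hG, h, map_zero, LinearMap.zero_apply]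
  let φ : V ≃ₗ[F] V' := (L.quotKerEquivOfSurjective hL).symm ≪≫ₗ Submodule.quotEquivOfEq _ _ hker ≪≫ₗ
    L'.quotKerEquivOfSurjective hL'
  have hφ : ∀ c, φ (L c) = L' c := fun c => by
    simp only [φ, LinearEquiv.trans_apply]
    rw [show (L.quotKerEquivOfSurjective hL).symm (L c) = Submodule.Quotient.mk c from
      (LinearEquiv.symm_apply_eq _).2 rfl]
    rfl
  have hφB : ∀ v w, S'.B (φ v) (φ w) = S.B v w := fun v w => by
    obtain ⟨c, rfl⟩ := hL v
    obtain ⟨d, rfl⟩ := hL w
    rw [hφ, hφ, hG]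
  have hφe : ∀ i, φ (e i) = e' i := fun i => by
    have h := hφ (Finsupp.single i 1)
    simpa [L, L'] using h
  have hmem : ∀ v, v ∈ Submodule.span F (Set.range e) := fun v => he ▸ Submodule.mem_top
  refine ⟨φ, hφB, fun v => ?_, fun v => ?_⟩
  · induction hmem v using Submodule.span_induction with
    | mem x hx => obtain ⟨i, rfl⟩ := hx; rw [hφe, hQ]
    | zero => rw [map_zero, S.q_zero, S'.q_zero]
    | add x y _ _ hx hy => rw [map_add, S.q_add, S'.q_add, hx, hy, hφB, hδ]
    | smul c x _ hx => rw [map_smul, S.q_smul, S'.q_smul, hx]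
  · induction hmem v using Submodule.span_induction with
    | mem x hx => obtain ⟨i, rfl⟩ := hx; rw [hs, hφe, hφe, hs']
    | zero => simp
    | add x y _ _ hx hy => simp only [map_add, hx, hy]
    | smul c x _ hx => simp only [map_smul, hx]

end CfsgLib.CharTwoClasses
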