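import Cfsg.Agent.Lib.CharTwoClasses.Blocks

/-!
# Normal forms of unipotent isometries in characteristic two

Blocks are split off from the largest size downwards; the bit of a block is removed whenever the
rest contains a block of an adjacent type.
-/

set_option autoImplicit false
set_option linter.unusedSectionVars false

namespace CfsgLib.CharTwoClasses

universe u v

/-- The type of a unipotent block: a pair or a cyclic block, its size and its bit. -/
structure ULab where
  pr : Bool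
  size : ℕ
  tau : Bool
deriving DecidableEq

/-- Half the dimension of a block. -/
def ULab.wt (l : ULab) : ℕ := bif l.pr then l.size else l.size / 2

/-- Constraints on one block. -/
def ULab.Good {F : Type u} [Field F] (δ : F) (l : ULab) : Prop :=
  (l.pr = false → 2 ≤ l.size ∧ Even l.size) ∧ (l.pr = true → 1 ≤ l.size ∧ (l.tau = true → Odd l.size)) ∧
    (δ = 0 → l.tau = true → (l.pr = false → 3 ≤ l.size) ∧ (l.pr = true → 2 ≤ l.size))

/-- The number of cyclic blocks of a size. -/
def cntCyc (L : List ULab) (m : ℕ) : ℕ := L.countP fun l => (l.pr == false) && (l.size == m)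

/-- The number of twisted blocks of a kind and size. -/
def cntTw (L : List ULab) (pr : Bool) (m : ℕ) : ℕ := L.countP fun l => (l.pr == pr) && (l.size == m) && l.tau

/-- The labels of a normal form. -/
structure Valid {F : Type u} [Field F] (δ : F) (L : List ULab) : Prop where
  good : ∀ l ∈ L, l.Good δ
  cyc_le : ∀ m, cntCyc L m ≤ 2
  tw_le : ∀ pr m, cntTw L pr m ≤ 1
  cyc_tw : ∀ m, ⟨false, m, true⟩ ∈ L → ∀ l ∈ L, ¬ (l.pr = true ∧ l.size + 1 = m) ∧ ¬ (l.pr = false ∧ l.size + 2 = m)
  pair_tw : ∀ m, ⟨true, m, true⟩ ∈ L → ∀ l ∈ L, ¬ (l.pr = false ∧ l.size + 1 = m)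

variable {F : Type u} [Field F] [CharP F 2]

theorem valid_nil (δ : F) : Valid δ [] :=
  ⟨by simp, by simp [cntCyc], by simp [cntTw], by simp, by simp⟩

/-- Adding a block at the top. -/
theorem valid_cons {δ : F} {L : List ULab} {h : ULab} (hL : Valid δ L) (hh : h.Good δ)
    (hsize : ∀ l ∈ L, l.size ≤ h.size) (hc : h.pr = false → cntCyc L h.size ≤ 1)
    (htc : h = ⟨false, h.size, true⟩ → ∀ l ∈ L, ¬ (l.pr = false ∧ l.size = h.size) ∧
      ¬ (l.pr = true ∧ l.size + 1 = h.size) ∧ ¬ (l.pr = false ∧ l.size + 2 = h.size))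
    (htp : h = ⟨true, h.size, true⟩ → ∀ l ∈ L, ¬ (l.pr = true ∧ l.size = h.size) ∧
      ¬ (l.pr = false ∧ l.size + 1 = h.size)) : Valid δ (h :: L) := by
  obtain ⟨pr, m, τ⟩ := h
  refine ⟨?_, fun k => ?_, fun pr' k => ?_, fun k hk l hl => ?_, fun k hk l hl => ?_⟩
  · intro l hl
    rcases List.mem_cons.1 hl with rfl | hl
    · exact hh
    · exact hL.good l hl
  · have := hL.cyc_le k
    simp only [cntCyc, List.countP_cons] at this ⊢
    split_ifs with he
    · simp only [Bool.and_eq_true, beq_iff_eq] at he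
      obtain ⟨rfl, rfl⟩ := he
      have := hc rfl
      simp only [cntCyc] at this
      omega
    · omega
  · have := hL.tw_le pr' k
    simp only [cntTw, List.countP_cons] at this ⊢
    split_ifs with he
    · simp only [Bool.and_eq_true, beq_iff_eq] at he
      obtain ⟨⟨rfl, rfl⟩, rfl⟩ := he
      refine le_of_eq ((add_eq_right).2 ?_)
      rw [List.countP_eq_zero]
      intro l hl he
      simp only [Bool.and_eq_true, beq_iff_eq] at he
      cases pr
      · exact (htc rfl l hl).1 ⟨he.1.1, he.1.2⟩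
      · exact (htp rfl l hl).1 ⟨he.1.1, he.1.2⟩
    · omega
  · rcases List.mem_cons.1 hk with e | hk
    · rw [ULab.mk.injEq] at e
      obtain ⟨rfl, rfl, rfl⟩ := e
      rcases List.mem_cons.1 hl with rfl | hl
      · simp
      · exact ⟨(htc rfl l hl).2.1, (htc rfl l hl).2.2⟩
    · have hk2 := ((hL.good _ hk).1 rfl).1
      have hkm := hsize _ hk
      simp only at hk2 hkm
      rcases List.mem_cons.1 hl with rfl | hl
      · simp only
        constructor <;> rintro ⟨-, e⟩ <;> omega
      · exact hL.cyc_tw k hk l hl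
  · rcases List.mem_cons.1 hk with e | hk
    · rw [ULab.mk.injEq] at e
      obtain ⟨rfl, rfl, rfl⟩ := e
      rcases List.mem_cons.1 hl with rfl | hl
      · simp
      · exact (htp rfl l hl).2
    · have hk2 := ((hL.good _ hk).2.1 rfl).1
      have hkm := hsize _ hk
      simp only at hk2 hkm
      rcases List.mem_cons.1 hl with rfl | hl
      · simp only
        rintro ⟨-, e⟩
        omega
      · exact hL.pair_tw k hk l hl

/-- A block: a type and two generators. -/
structure UBlk (V : Type v) where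
  lab : ULab
  x : V
  y : V

namespace Sys

variable {V : Type v} [AddCommGroup V] [Module F V] (S : Sys F V)

/-- The bilinear parts of the twist functionals. -/
def cross : ℕ → V → V → F
  | 0, x, y => S.δ * S.B x y
  | i + 1, x, y => S.M x y i 0 + S.M y x i 0

theorem lev_lin (i : ℕ) (a b : F) (x y : V) :
    S.lev i (a • x + b • y) = a ^ 2 * S.lev i x + b ^ 2 * S.lev i y + a * b * S.cross i x y := by
  cases i with
  | zero =>
    simp only [lev, cross, S.q_add, S.q_smul, map_smul, LinearMap.smul_apply, smul_eq_mul]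
    ring
  | succ i =>
    simp only [lev, cross, M_add_left, M_add_right, M_smul_left, M_smul_right]
    ring

theorem lev_orth {x z : V} (i : ℕ) (h : ∀ p q, S.M x z p q = 0) : S.lev i (x + z) = S.lev i x + S.lev i z := by
  have h0 : S.B x z = 0 := by simpa [M] using h 0 0
  have := S.lev_lin i 1 1 x z
  cases i with
  | zero => simp only [one_smul, one_pow, one_mul, cross, h0, mul_zero, add_zero] at this; exact this
  | succ i =>
    simp only [one_smul, one_pow, one_mul, cross, h, S.M_symm z x, add_zero] at this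
    exact this

/-- Realisation of a type by generators. -/
def URealises (ε : F) (b : UBlk V) : Prop :=
  (b.lab.pr = false → S.IsCyc ε b.lab.size b.lab.tau b.x ∧ b.y = 0) ∧
    (b.lab.pr = true → S.IsPair ε b.lab.size b.lab.tau b.x b.y)

/-- The subspace of a block. -/
def bspan (b : UBlk V) : Submodule F V := S.gspan b.x b.y

/-- A decomposition of a subspace into blocks. -/
structure UDec (ε : F) (U : Submodule F V) (L : List (UBlk V)) : Prop where
  real : ∀ b ∈ L, S.URealises ε b
  mem : ∀ b ∈ L, b.x ∈ U ∧ b.y ∈ U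
  orth : L.Pairwise fun b b' => ∀ v ∈ S.bspan b, ∀ w ∈ S.bspan b', S.B v w = 0
  cover : U ≤ L.foldr (fun b W => S.bspan b ⊔ W) ⊥

/-- The form of the top layer at `m`. -/
def beta (m : ℕ) (z w : V) : F := S.M z w (m - 1) 0

/-- A vector of norm one with totally isotropic complement. -/
def Wit (U : Submodule F V) (m : ℕ) (v : V) : Prop :=
  v ∈ U ∧ S.beta m v v = 1 ∧ ∀ z ∈ U, S.beta m z v = 0 → S.beta m z z = 0

/-- An admissible first vector. -/
def Head (U : Submodule F V) (m : ℕ) (x : V) : Prop :=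
  x ∈ U ∧ S.beta m x x = 1 ∧ ((∃ v, S.Wit U m v) → S.Wit U m x)

theorem beta_symm {m : ℕ} (hm : 1 ≤ m) {z w : V} (hz : (S.N ^ m) z = 0) (hw : (S.N ^ m) w = 0) :
    S.beta m z w = S.beta m w z := by
  rw [beta, beta, S.M_symm z w, S.M_top hm hw hz (show 0 + (m - 1) = m - 1 by omega)]

theorem beta_eq_zero {m : ℕ} {z w : V} (hz : (S.N ^ (m - 1)) z = 0) : S.beta m z w = 0 := by
  rw [beta, M_def, hz, map_zero, LinearMap.zero_apply]

theorem cross_pair {m : ℕ} {x y : V} (h : S.IsPair0 m x y) (hodd : Odd m) (hδ : m = 1 → S.δ = 1) :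
    S.cross (m - 1) x y = 1 := by
  obtain ⟨r, rfl⟩ := hodd
  rcases r with _ | r
  · rw [show 2 * 0 + 1 - 1 = 0 by rfl, cross, hδ rfl, one_mul]
    simpa [M] using h.topxy
  · rw [show 2 * (r + 1) + 1 - 1 = 2 * r + 1 + 1 by omega, cross, S.M_symm y x]
    have hl := (S.M_stepped x y).level (l := 2 * r + 1) (c := 1) fun p q e => by
      rw [S.M_top h.one_le h.killx h.killy (show p + q = 2 * (r + 1) + 1 - 1 by omega), h.topxy]
    rw [hl (2 * r + 1) 0 rfl, hl 0 (2 * r + 1) (by omega)]
    push_cast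
    linear_combination (norm := (ring_nf; simp [CharTwo.two_eq_zero]))

theorem lev_even {m : ℕ} (hm : 2 ≤ m) (he : Even m) {x : V} (hx : (S.N ^ m) x = 0) (hb : S.beta m x x = 0) :
    S.lev (m - 1) x = 0 := by
  obtain ⟨r, rfl⟩ := he
  obtain ⟨s, rfl⟩ : ∃ s, r = s + 1 := ⟨r - 1, by omega⟩
  rw [show s + 1 + (s + 1) - 1 = s + s + 1 by omega, lev]
  have hl := (S.M_stepped x x).level (l := s + s) (c := 0) fun p q e => by
    rw [S.M_top (by omega) hx hx (show p + q = s + 1 + (s + 1) - 1 by omega)]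
    exact hb
  have h1 := hl s s rfl
  rw [S.M_diag, mul_zero, add_zero] at h1
  rw [hl (s + s) 0 rfl, mul_zero, add_zero, ← h1]

variable [Finite F]

theorem exists_sqrt (c : F) : ∃ r : F, r ^ 2 = c := by
  obtain ⟨r, hr⟩ := FiniteField.isSquare_of_char_two (ringChar.eq F 2) c
  exact ⟨r, by rw [hr, sq]⟩

/-- Normalising the twist values of a pair. -/
theorem exists_pair_norm {ε : F} (hε : IsEps ε) {U : Submodule F V} {m : ℕ} {x y : V} (h : S.IsPair0 m x y)
    (hxU : x ∈ U) (hyU : y ∈ U) : ∃ x' ∈ U, ∃ y' ∈ U, ∃ τ, S.IsPair ε m τ x' y' := by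
  by_cases hz : S.lev (m - 1) x = 0 ∧ S.lev (m - 1) y = 0
  · exact ⟨x, hxU, y, hyU, false, h, hz.1, hz.2⟩
  have hodd : Odd m := by
    rcases Nat.even_or_odd m with he | ho
    · exact absurd ⟨S.lev_even (by have := h.one_le; obtain ⟨r, hr⟩ := he; omega) he h.killx h.topx,
        S.lev_even (by have := h.one_le; obtain ⟨r, hr⟩ := he; omega) he h.killy h.topy⟩ hz
    · exact ho
  have hδ : m = 1 → S.δ = 1 := fun e => S.q_kind.resolve_right fun hk => hz (by
    subst e; exact ⟨hk.2 x, hk.2 y⟩)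
  have hcr := S.cross_pair h hodd hδ
  -- linear combinations of the generators
  have comb : ∀ a b c d : F, a * d + b * c = 1 → S.IsPair0 m (a • x + b • y) (c • x + d • y) := by
    intro a b c d hdet
    refine ⟨h.one_le, by simp [h.killx, h.killy], by simp [h.killx, h.killy], ?_, ?_, ?_⟩ <;>
      simp only [M_add_left, M_add_right, M_smul_left, M_smul_right, h.topx, h.topy, h.topxy, (h.swap S).topxy,
        mul_zero, mul_one, zero_add, add_zero]
    · rw [mul_comm b a, CharTwo.add_self_eq_zero]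
    · rw [mul_comm d c, CharTwo.add_self_eq_zero]
    · linear_combination hdet
  have lv : ∀ a b : F, S.lev (m - 1) (a • x + b • y) =
      a ^ 2 * S.lev (m - 1) x + b ^ 2 * S.lev (m - 1) y + a * b := fun a b => by
    rw [S.lev_lin, hcr, mul_one]
  have hmem : ∀ a b : F, a • x + b • y ∈ U := fun a b => U.add_mem (U.smul_mem a hxU) (U.smul_mem b hyU)
  by_cases hiso : ∃ a b : F, ¬ (a = 0 ∧ b = 0) ∧ S.lev (m - 1) (a • x + b • y) = 0
  · obtain ⟨a, b, hab, h0⟩ := hiso
    obtain ⟨c, d, hdet⟩ : ∃ c d, a * d + b * c = 1 := by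
      by_cases hb : b = 0
      · exact ⟨0, a⁻¹, by rw [mul_inv_cancel₀ (fun e => hab ⟨e, hb⟩), mul_zero, add_zero]⟩
      · exact ⟨b⁻¹, 0, by rw [mul_inv_cancel₀ hb, mul_zero, zero_add]⟩
    obtain ⟨s, hs⟩ : ∃ s, s = S.lev (m - 1) (c • x + d • y) := ⟨_, rfl⟩
    refine ⟨_, hmem a b, _, hmem (c + s * a) (d + s * b), false, comb a b (c + s * a) (d + s * b) ?_, h0, ?_⟩
    · linear_combination (norm := (ring_nf; simp [CharTwo.two_eq_zero])) hdet
    · rw [lv] at h0 ⊢
      rw [lv] at hs
      show _ = (0 : F)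
      linear_combination (norm := (ring_nf; simp [CharTwo.two_eq_zero])) s ^ 2 * h0 + s * hdet + hs
  · have hp : S.lev (m - 1) x ≠ 0 := fun e => hiso ⟨1, 0, by simp, by simpa using e⟩
    obtain ⟨t, ht⟩ := exists_sqrt (S.lev (m - 1) x)
    have ht0 : t ≠ 0 := fun e => hp (by rw [← ht, e]; ring)
    obtain ⟨r, hr⟩ : ∃ r, r = t ^ 2 * S.lev (m - 1) y := ⟨_, rfl⟩
    have hr' : ∀ c, c ^ 2 + c ≠ r := fun c hc => by
      refine hiso ⟨c * t⁻¹, t, fun e => ht0 e.2, ?_⟩
      rw [lv, ← ht]
      field_simp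
      linear_combination (norm := (ring_nf; simp [CharTwo.two_eq_zero])) hc + hr
    obtain ⟨c, hc⟩ := hε.2 r
    have hc' := hc.resolve_left (hr' c)
    refine ⟨_, hmem t⁻¹ 0, _, hmem (c * t⁻¹) t, true, comb t⁻¹ 0 (c * t⁻¹) t ?_, ?_, ?_⟩
    · rw [inv_mul_cancel₀ ht0, zero_mul, add_zero]
    · rw [lv, ← ht]
      show _ = (1 : F)
      field_simp
      ring
    · rw [lv, ← ht]
      show _ = ε
      field_simp
      linear_combination (norm := (ring_nf; simp [CharTwo.two_eq_zero])) hc' + hr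

theorem exists_cyc_norm {ε : F} (hε : IsEps ε) {U : Submodule F V} (hUi : S.Invt U) {m : ℕ}
    (hm : ∀ z ∈ U, (S.N ^ m) z = 0) {x : V} (hx : S.Head U m x) :
    ∃ x', S.Head U m x' ∧ ∃ τ, S.IsCyc ε m τ x' := by
  obtain ⟨hxU, htop, hwit⟩ := hx
  have hxk := hm x hxU
  have hm1 : 2 ≤ m := by
    rcases Nat.lt_or_ge m 2 with hlt | hge
    · exfalso
      have h0 : S.beta m x x = 0 := by
        rw [beta, show m - 1 = 0 by omega]; exact S.M_diag x 0
      rw [htop] at h0
      exact one_ne_zero h0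
    · exact hge
  obtain ⟨μ, hμ⟩ : ∃ μ, μ = S.lev (m - 2) x := ⟨_, rfl⟩
  have hchange : ∀ c : F, S.Head U m (x + c • (S.N ^ 1) x) ∧ S.M (x + c • (S.N ^ 1) x) (x + c • (S.N ^ 1) x) (m - 1) 0 = 1 := by
    intro c
    have hzU : c • (S.N ^ 1) x ∈ U := U.smul_mem _ (hUi.N_pow S 1 hxU)
    have hz0 : (S.N ^ (m - 1)) (c • (S.N ^ 1) x) = 0 := by
      rw [map_smul, S.pow_add_apply, show m - 1 + 1 = m by omega, hxk, smul_zero]
    have hl : ∀ w ∈ U, S.beta m w (x + c • (S.N ^ 1) x) = S.beta m w x := fun w hw => by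
      rw [S.beta_symm (by omega) (hm w hw) (hm _ (U.add_mem hxU hzU)), S.beta_symm (by omega) (hm w hw) hxk]
      simp only [beta, M_add_left]
      rw [show S.M (c • (S.N ^ 1) x) w (m - 1) 0 = 0 from S.beta_eq_zero hz0, add_zero]
    have h1 : S.beta m (x + c • (S.N ^ 1) x) (x + c • (S.N ^ 1) x) = 1 := by
      rw [hl _ (U.add_mem hxU hzU), S.beta_symm (by omega) (hm _ (U.add_mem hxU hzU)) hxk, hl x hxU, htop]
    refine ⟨⟨U.add_mem hxU hzU, h1, fun hv => ⟨U.add_mem hxU hzU, h1, fun z hz h0 => ?_⟩⟩, h1⟩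
    exact (hwit hv).2.2 z hz (hl z hz ▸ h0)
  have hlev : ∀ c : F, S.δ = 1 ∨ 3 ≤ m → S.lev (m - 2) (x + c • (S.N ^ 1) x) = μ + c ^ 2 + c := by
    intro c hcase
    rw [hμ]
    rcases Nat.lt_or_ge m 3 with hlt | hge
    · have hδ : S.δ = 1 := hcase.resolve_right (by omega)
      obtain rfl : m = 2 := by omega
      rw [show (2 : ℕ) - 2 = 0 from rfl, lev, lev, q_change, hδ, one_mul, one_mul]
      have e1 : S.M x x (0 + 1) 0 = 1 := htop
      have e2 : S.M x x 0 (0 + 1) = 1 := by rw [S.M_symm]; exact htop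
      rw [e1, e2, mul_one, mul_one]
    · rw [show m - 2 = m - 3 + 1 by omega, lev, lev, M_change_both,
        S.M_top (by omega) hxk hxk (show m - 3 + 1 + (0 + 1) = m - 1 by omega)]
      have hl := (S.M_stepped x x).level (l := m - 2) (c := 1) fun p q e => by
        rw [S.M_top (by omega) hxk hxk (show p + q = m - 1 by omega)]; exact htop
      rw [hl (m - 3 + 1) 0 (by omega), hl (m - 3) (0 + 1) (by omega), show S.M x x (m - 1) 0 = 1 from htop, Nat.cast_succ]
      linear_combination (norm := (ring_nf; simp [CharTwo.two_eq_zero]))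
  have hkill : ∀ c : F, (S.N ^ m) (x + c • (S.N ^ 1) x) = 0 := fun c => S.kill_change hxk hxk c 1
  rcases eq_or_ne μ 0 with hμ0 | hμ0
  · exact ⟨x, ⟨hxU, htop, hwit⟩, false, hm1, hxk, htop, hμ.symm.trans hμ0⟩
  have hcase : S.δ = 1 ∨ 3 ≤ m := by
    rcases S.q_kind with h | ⟨-, h⟩
    · exact Or.inl h
    · refine Or.inr (Nat.not_lt.1 fun hlt => hμ0 ?_)
      obtain rfl : m = 2 := by omega
      rw [hμ]; exact h x
  obtain ⟨c, hc⟩ := hε.2 μ
  rcases hc with hc | hc
  · refine ⟨_, (hchange c).1, false, hm1, hkill c, (hchange c).2, ?_⟩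
    rw [hlev c hcase]
    show _ = (0 : F)
    linear_combination (norm := (ring_nf; simp [CharTwo.two_eq_zero])) hc
  · refine ⟨_, (hchange c).1, true, hm1, hkill c, (hchange c).2, ?_⟩
    rw [hlev c hcase]
    show _ = ε
    linear_combination (norm := (ring_nf; simp [CharTwo.two_eq_zero])) hc

end Sys

end CfsgLib.CharTwoClasses
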